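import Groth.Agent.Conormal.Basic

/-!
# Morphisms of conormal sheaves, and exactness on a basis
-/

universe u

open CategoryTheory CategoryTheory.Limits AlgebraicGeometry TopologicalSpace Opposite

set_option backward.isDefEq.respectTransparency false
set_option linter.style.haveILetI false

noncomputable section

namespace Groth.Agent.Conormal

open Groth.Agent.QC Groth.Agent.ModDesc

variable {Z X : Scheme.{u}}

/-! ### Local criteria -/

lemma epi_of_local {M N : Z.Modules} (f : M ⟶ N)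
    (h : ∀ (O : Z.Opens) (t : Γ(N, O)), ∀ z ∈ O,
      ∃ (V : Z.Opens) (hV : V ≤ O) (m : Γ(M, V)), z ∈ V ∧ f.app V m = res N hV t) :
    Epi f := ⟨fun {P} a b hab => Scheme.Modules.hom_ext _ _ fun O => by
  ext t
  refine section_eq_of_locally fun z hz => ?_
  obtain ⟨V, hV, m, hzV, hm⟩ := h O t z hz
  refine ⟨V, hV, hzV, ?_⟩
  rw [app_res, app_res, ← hm]
  exact congr(($hab).app V m)⟩

lemma exact_of_local (S : ShortComplex Z.Modules)
    (h : ∀ (O : Z.Opens) (t : Γ(S.X₂, O)), S.g.app O t = 0 → ∀ z ∈ O,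
      ∃ (V : Z.Opens) (hV : V ≤ O) (m : Γ(S.X₁, V)), z ∈ V ∧ S.f.app V m = res S.X₂ hV t) :
    S.Exact := by
  rw [S.exact_iff_epi_kernel_lift]
  refine epi_of_local _ fun O a z hz => ?_
  obtain ⟨V, hV, m, hzV, hm⟩ := h O ((kernel.ι S.g).app O a)
    ((mem_range_kernel_app S.g O _).mp ⟨a, rfl⟩) z hz
  refine ⟨V, hV, m, hzV, app_injective_of_mono (kernel.ι S.g) V ?_⟩
  refine Eq.trans ?_ (app_res (kernel.ι S.g) hV a)
  exact Eq.trans (congr(($(kernel.lift_ι S.g S.f S.zero)).app V m)) hm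

/-- A family of opens of `Z` containing a basis. -/
def IsBasisFam (B : Set Z.Opens) : Prop := ∀ (O : Z.Opens), ∀ z ∈ O, ∃ V ∈ B, V ≤ O ∧ z ∈ V

lemma epi_of_basis {M N : Z.Modules} (f : M ⟶ N) {B : Set Z.Opens} (hB : IsBasisFam B)
    (h : ∀ V ∈ B, Function.Surjective (f.app V)) : Epi f := by
  refine epi_of_local f fun O t z hz => ?_
  obtain ⟨V, hVB, hV, hzV⟩ := hB O z hz
  obtain ⟨m, hm⟩ := h V hVB (res N hV t)
  exact ⟨V, hV, m, hzV, hm⟩

lemma exact_of_basis (S : ShortComplex Z.Modules) {B : Set Z.Opens} (hB : IsBasisFam B)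
    (h : ∀ V ∈ B, ∀ t, S.g.app V t = 0 → ∃ m, S.f.app V m = t) : S.Exact := by
  refine exact_of_local S fun O t ht z hz => ?_
  obtain ⟨V, hVB, hV, hzV⟩ := hB O z hz
  obtain ⟨m, hm⟩ := h V hVB (res S.X₂ hV t) (by rw [← app_res, ht, map_zero])
  exact ⟨V, hV, m, hzV, hm⟩

lemma mono_of_basis {M N : Z.Modules} (f : M ⟶ N) {B : Set Z.Opens} (hB : IsBasisFam B)
    (h : ∀ V ∈ B, Function.Injective (f.app V)) : Mono f := by
  refine (mono_iff_app_injective f).mpr fun O s t hst => section_eq_of_locally fun z hz => ?_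
  obtain ⟨V, hVB, hV, hzV⟩ := hB O z hz
  refine ⟨V, hV, hzV, h V hVB ?_⟩
  rw [← app_res, ← app_res, hst]

lemma isIso_of_basis {M N : Z.Modules} (f : M ⟶ N) {B : Set Z.Opens} (hB : IsBasisFam B)
    (h : ∀ V ∈ B, Function.Bijective (f.app V)) : IsIso f := by
  haveI := mono_of_basis f hB fun V hV => (h V hV).1
  haveI := epi_of_basis f hB fun V hV => (h V hV).2
  exact isIso_of_mono_of_epi f

lemma shortExact_of_basis (S : ShortComplex Z.Modules) {B : Set Z.Opens} (hB : IsBasisFam B)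
    (hf : ∀ V ∈ B, Function.Injective (S.f.app V))
    (hex : ∀ V ∈ B, ∀ t, S.g.app V t = 0 → ∃ m, S.f.app V m = t)
    (hg : ∀ V ∈ B, Function.Surjective (S.g.app V)) : S.ShortExact :=
  { exact := exact_of_basis S hB hex
    mono_f := mono_of_basis _ hB hf
    epi_g := epi_of_basis _ hB hg }

/-- The preimages of charts form a basis. -/
lemma isBasisFam_charts (i : Z ⟶ X) [IsImmersion i] :
    IsBasisFam {V | ∃ U, IsChart i U ∧ i ⁻¹ᵁ U = V} := fun O z hz => by
  obtain ⟨U, hU, hzU, hle⟩ := exists_chart i z O hz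
  exact ⟨_, ⟨U, hU, rfl⟩, hle, hzU⟩

/-! ### Morphisms of conormal sheaves -/

variable {Z' X' : Scheme.{u}} (i : Z ⟶ X) (i' : Z' ⟶ X') (g : X ⟶ X') (gZ : Z ⟶ Z')

/-- The value of a conormal map on the class of a section of the ideal. -/
lemma IsConormalMap.app_class [QuasiCompact i]
    {φ : (Scheme.Modules.pullback gZ).obj (Omega.conormal i') ⟶ Omega.conormal i}
    (hφ : OmegaSh.IsConormalMap i i' g gZ φ) (U' : X'.Opens) (U : X.Opens) (e : U ≤ g ⁻¹ᵁ U')
    (e' : i ⁻¹ᵁ U ≤ gZ ⁻¹ᵁ (i' ⁻¹ᵁ U')) (s' : Γ(ClSub.idealMod i'.ker, U')) (s : Γ(ClSub.idealMod i.ker, U))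
    (hs : OmegaSh.idealSect i.ker U s = g.appLE U' U e (OmegaSh.idealSect i'.ker U' s')) :
    φ.app (i ⁻¹ᵁ U) (pullSectLE gZ (Omega.conormal i') (i' ⁻¹ᵁ U') (i ⁻¹ᵁ U) e'
        (OmegaSh.conormalSect i' U' s')) = OmegaSh.conormalSect i U s := by
  obtain ⟨hsq, hφ⟩ := hφ
  have h0 : i.app (g ⁻¹ᵁ U') (g.app U' (OmegaSh.idealSect i'.ker U' s')) = 0 := by
    have key : ∀ (f : Z ⟶ X'), gZ ≫ i' = f → f.app U' (OmegaSh.idealSect i'.ker U' s') = 0 := by
      rintro f rfl
      rw [Scheme.Hom.comp_app]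
      change gZ.app _ (i'.app U' _) = 0
      rw [app_idealSect, map_zero]
    exact key _ hsq
  obtain ⟨s₀, hs₀⟩ := exists_idealSect i _ _ h0
  have hres : res (ClSub.idealMod i.ker) e s₀ = s := by
    refine idealSect_injective i.ker U ?_
    rw [idealSect_res, hs₀, hs]
    rfl
  have h := hφ U' s' s₀ hs₀ (i ⁻¹ᵁ U) e' (i.preimage_mono e)
  rw [pullSectLE_apply, ← app_res, ← hres, ← res_conormalSect i e]
  exact h

/-- **The map of conormal sheaves of a commutative square exists and is unique.** -/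
theorem existsUnique_conormalMap [QuasiCompact i] (hsq : gZ ≫ i' = i ≫ g) :
    ∃! φ : (Scheme.Modules.pullback gZ).obj (Omega.conormal i') ⟶ Omega.conormal i,
      OmegaSh.IsConormalMap i i' g gZ φ := by
  have hopen : ∀ U' : X'.Opens, gZ ⁻¹ᵁ (i' ⁻¹ᵁ U') = i ⁻¹ᵁ (g ⁻¹ᵁ U') := fun U' => by
    rw [← Scheme.Hom.comp_preimage, hsq, Scheme.Hom.comp_preimage]
  have hzero : ∀ U' (s' : Γ(ClSub.idealMod i'.ker, U')),
      i.app (g ⁻¹ᵁ U') (g.app U' (OmegaSh.idealSect i'.ker U' s')) = 0 := by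
    intro U' s'
    have key : ∀ (f : Z ⟶ X'), gZ ≫ i' = f → f.app U' (OmegaSh.idealSect i'.ker U' s') = 0 := by
      rintro f rfl
      rw [Scheme.Hom.comp_app]
      change gZ.app _ (i'.app U' _) = 0
      rw [app_idealSect, map_zero]
    exact key _ hsq
  obtain ⟨α, hα⟩ := exists_lift_of_range
    ((Scheme.Modules.pushforward g).map (ClSub.idealModι i.ker))
    (ClSub.idealModι i'.ker ≫ ClSub.unitToPush g) (fun U' a => by
      obtain ⟨s, hs⟩ := exists_idealSect i _ _ (hzero U' a)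
      exact ⟨s, hs⟩)
  have hα' : ∀ U' s', OmegaSh.idealSect i.ker (g ⁻¹ᵁ U') (α.app U' s') =
      g.app U' (OmegaSh.idealSect i'.ker U' s') := fun U' s' => congr(($hα).app U' s')
  let C := Omega.conormal i
  let β : ClSub.idealMod i'.ker ⟶
      (Scheme.Modules.pushforward i').obj ((Scheme.Modules.pushforward gZ).obj C) :=
    α ≫ (Scheme.Modules.pushforward g).map
        ((Scheme.Modules.pullbackPushforwardAdjunction i).unit.app (ClSub.idealMod i.ker)) ≫
      (Scheme.Modules.pushforwardComp i g).hom.app C ≫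
      (Scheme.Modules.pushforwardCongr hsq.symm).hom.app C ≫
      (Scheme.Modules.pushforwardComp gZ i').inv.app C
  have hβ : ∀ U' s', β.app U' s' = res C (hopen U').le (OmegaSh.conormalSect i (g ⁻¹ᵁ U') (α.app U' s')) :=
    fun U' s' => rfl
  let adj := Scheme.Modules.pullbackPushforwardAdjunction gZ
  let adj' := Scheme.Modules.pullbackPushforwardAdjunction i'
  refine ⟨(adj.homEquiv _ _).symm ((adj'.homEquiv _ _).symm β), ⟨hsq, fun U' s' s hs V h₁ h₂ => ?_⟩, ?_⟩
  · have e1 : ((adj.homEquiv _ _).symm ((adj'.homEquiv _ _).symm β)).app (gZ ⁻¹ᵁ (i' ⁻¹ᵁ U'))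
        (OmegaSh.pullSect gZ (Omega.conormal i') (i' ⁻¹ᵁ U') (OmegaSh.conormalSect i' U' s')) = β.app U' s' := by
      have a1 := (adj.homEquiv _ _).apply_symm_apply ((adj'.homEquiv _ _).symm β)
      rw [Adjunction.homEquiv_unit] at a1
      have a2 := (adj'.homEquiv _ _).apply_symm_apply β
      rw [Adjunction.homEquiv_unit] at a2
      refine Eq.trans ?_ congr(($a2).app U' s')
      exact congr(($a1).app (i' ⁻¹ᵁ U') (OmegaSh.conormalSect i' U' s'))
    have e2 : α.app U' s' = s := idealSect_injective i.ker _ (by rw [hα', hs])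
    refine (congrArg (res C h₁) (e1.trans (hβ U' s'))).trans ?_
    rw [e2]
    exact res_res C h₁ _ _
  · intro φ hφ
    refine (Equiv.eq_symm_apply (adj.homEquiv _ _)).mpr ((Equiv.eq_symm_apply (adj'.homEquiv _ _)).mpr ?_)
    apply Scheme.Modules.hom_ext
    intro U'
    ext s'
    simp only [Adjunction.homEquiv_unit, Scheme.Modules.Hom.comp_app, ConcreteCategory.comp_apply]
    rw [hβ]
    have h := hφ.2 U' s' _ (hα' U' s') _ le_rfl (hopen U').le
    exact (res_self C _ _).symm.trans h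

end Groth.Agent.Conormal
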