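import Groth.Agent.Conormal.Seq
import Groth.Agent.OmegaLib.Coords
import Mathlib.RingTheory.Smooth.Basic
import Mathlib.AlgebraicGeometry.Morphisms.Smooth

/-!
# Conormal sheaves and differentials
-/

universe u

open CategoryTheory CategoryTheory.Limits AlgebraicGeometry TopologicalSpace Opposite TensorProduct

set_option backward.isDefEq.respectTransparency false
set_option linter.style.haveILetI false

noncomputable section

namespace Groth.Agent.Conormal

open Groth.Agent.QC Groth.Agent.ModDesc Groth.Agent.OmegaLib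

/-! ### The sequence `C → i^*Ω_X → Ω_Z → 0` -/

section First

variable {X Y Z : Scheme.{u}} {f : Y ⟶ Z} {j : X ⟶ Y} {ΩY : Y.Modules} {dY : OmegaSh.Der f ΩY}
  {ΩX : X.Modules} {dX : OmegaSh.Der (j ≫ f) ΩX}
  {φ : Omega.conormal j ⟶ (Scheme.Modules.pullback j).obj ΩY}
  {c : (Scheme.Modules.pullback j).obj ΩY ⟶ ΩX}

lemma conormalDiff_comp_eq_zero (hφ : OmegaSh.IsConormalDiff j dY φ) (hc : OmegaSh.IsDiffCompat j dY dX c) :
    φ ≫ c = 0 := by
  refine hom_ext j _ _ fun U s => ?_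
  rw [Scheme.Modules.Hom.comp_app, ConcreteCategory.comp_apply]
  refine ((congrArg _ (hφ U s)).trans (hc U _)).trans ?_
  rw [app_idealSect, map_zero]
  rfl

lemma isBasisFam_chartOver (f : Y ⟶ Z) (j : X ⟶ Y) [IsImmersion j] :
    IsBasisFam {U | ∃ (W : Z.Opens) (V : Y.Opens), IsAffineOpen W ∧ IsChart j V ∧ V ≤ f ⁻¹ᵁ W ∧ j ⁻¹ᵁ V = U} := by
  intro O x hx
  obtain ⟨W, hW, hxW⟩ := exists_affine_mem (f (j x))
  obtain ⟨V, hV, hxV, hle, hVO⟩ := exists_chart_le j x O hx (f ⁻¹ᵁ W) hxW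
  exact ⟨_, ⟨W, V, hW, hV, hle, rfl⟩, hVO, hxV⟩

set_option maxHeartbeats 1600000 in
theorem surjective_exact_first [QuasiCompact j] (hY : OmegaSh.IsUniversal dY) (hX : OmegaSh.IsUniversal dX)
    (hφ : OmegaSh.IsConormalDiff j dY φ) (hc : OmegaSh.IsDiffCompat j dY dX c)
    {W : Z.Opens} {V : Y.Opens} (hW : IsAffineOpen W) (hV : IsChart j V) (e : V ≤ f ⁻¹ᵁ W) :
    Function.Surjective (c.app (j ⁻¹ᵁ V)) ∧
      ∀ m, c.app (j ⁻¹ᵁ V) m = 0 → ∃ q, φ.app (j ⁻¹ᵁ V) q = m := by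
  have e' : j ⁻¹ᵁ V ≤ (j ≫ f) ⁻¹ᵁ W := j.preimage_mono e
  have w : ∀ r, j.appLE V (j ⁻¹ᵁ V) le_rfl (f.appLE W V e r) =
      (j ≫ f).appLE W (j ⁻¹ᵁ V) e' (RingHom.id Γ(Z, W) r) := fun r => by
    rw [← ConcreteCategory.comp_apply, Scheme.Hom.appLE_comp_appLE]
    rfl
  letI : Algebra Γ(Z, W) Γ(Y, V) := (f.appLE W V e).hom.toAlgebra
  letI : Algebra Γ(Y, V) Γ(X, j ⁻¹ᵁ V) := (j.appLE V (j ⁻¹ᵁ V) le_rfl).hom.toAlgebra
  letI : Algebra Γ(Z, W) Γ(X, j ⁻¹ᵁ V) := ((j ≫ f).appLE W (j ⁻¹ᵁ V) e').hom.toAlgebra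
  haveI : IsScalarTower Γ(Z, W) Γ(Y, V) Γ(X, j ⁻¹ᵁ V) := IsScalarTower.of_algebraMap_eq fun r => (w r).symm
  have halg : algebraMap Γ(Y, V) Γ(X, j ⁻¹ᵁ V) = (j.app V).hom := by
    rw [RingHom.algebraMap_toAlgebra, Scheme.Hom.app_eq_appLE]
  have hsurj : Function.Surjective (algebraMap Γ(Y, V) Γ(X, j ⁻¹ᵁ V)) := by rw [halg]; exact hV.surjective
  obtain ⟨L₀, L', hL, hL₀, -⟩ := exists_coords hY hX hc hV.affine hW hV.preimage hW e e' le_rfl (RingHom.id _) w
  have hmb : ∀ m, L' (c.app (j ⁻¹ᵁ V) m) =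
      KaehlerDifferential.mapBaseChange Γ(Z, W) Γ(Y, V) Γ(X, j ⁻¹ᵁ V) (L₀ m) := by
    intro m
    rw [hL]
    induction L₀ m with
    | zero => simp
    | add a b ha hb => simp only [map_add, ha, hb]
    | tmul x y =>
      rw [LinearMap.liftBaseChange_tmul, KaehlerDifferential.mapBaseChange_tmul]
  refine ⟨fun t => ?_, fun m hm => ?_⟩
  · obtain ⟨z, hz⟩ := KaehlerDifferential.mapBaseChange_surjective Γ(Z, W) Γ(Y, V) Γ(X, j ⁻¹ᵁ V) hsurj (L' t)
    exact ⟨L₀.symm z, L'.injective (by rw [hmb, LinearEquiv.apply_symm_apply, hz])⟩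
  · have h0 : KaehlerDifferential.mapBaseChange Γ(Z, W) Γ(Y, V) Γ(X, j ⁻¹ᵁ V) (L₀ m) = 0 := by
      rw [← hmb, hm, map_zero]
    obtain ⟨z, hz⟩ :=
      (KaehlerDifferential.exact_kerCotangentToTensor_mapBaseChange Γ(Z, W) Γ(Y, V) Γ(X, j ⁻¹ᵁ V) hsurj _).mp h0
    obtain ⟨x, rfl⟩ := Ideal.toCotangent_surjective _ z
    rw [KaehlerDifferential.kerCotangentToTensor_toCotangent] at hz
    obtain ⟨s, hs⟩ := exists_idealSect j V x.1 ((DFunLike.congr_fun halg x.1).symm.trans x.2)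
    refine ⟨OmegaSh.conormalSect j V s, L₀.injective ?_⟩
    rw [hφ V s, hs, ← hz, ← hL₀]
    exact congrArg L₀ (res_self _ _ _).symm

/-- The conormal sequence of an immersion over a base. -/
theorem exact_first [IsImmersion j] [QuasiCompact j] (hY : OmegaSh.IsUniversal dY) (hX : OmegaSh.IsUniversal dX)
    (hφ : OmegaSh.IsConormalDiff j dY φ) (hc : OmegaSh.IsDiffCompat j dY dX c) :
    ∃ w : φ ≫ c = 0, (ShortComplex.mk φ c w).Exact ∧ Epi c := by
  refine ⟨conormalDiff_comp_eq_zero hφ hc, exact_of_basis _ (isBasisFam_chartOver f j) ?_,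
    epi_of_basis c (isBasisFam_chartOver f j) ?_⟩
  · rintro _ ⟨W, V, hW, hV, e, rfl⟩
    exact (surjective_exact_first hY hX hφ hc hW hV e).2
  · rintro _ ⟨W, V, hW, hV, e, rfl⟩
    exact (surjective_exact_first hY hX hφ hc hW hV e).1

end First

/-! ### The sequence `C_j → C_i → i^*Ω_{X/Y} → 0` -/

section Second

variable {Z X Y : Scheme.{u}} {p : X ⟶ Y} {i : Z ⟶ X} {j : Z ⟶ Y} {Ω : X.Modules} {d : OmegaSh.Der p Ω}
  {ψ : (Scheme.Modules.pullback (𝟙 Z)).obj (Omega.conormal j) ⟶ Omega.conormal i}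
  {φ : Omega.conormal i ⟶ (Scheme.Modules.pullback i).obj Ω}

/-- Charts for a factorisation `i ≫ p = j`. -/
structure IsChartOver (p : X ⟶ Y) (i : Z ⟶ X) (j : Z ⟶ Y) (V : Y.Opens) (U : X.Opens) : Prop where
  chart' : IsChart j V
  chart : IsChart i U
  le : U ≤ p ⁻¹ᵁ V
  eq : i ⁻¹ᵁ U = j ⁻¹ᵁ V

lemma isBasisFam_chartsOver [IsImmersion i] [IsImmersion j] (hij : i ≫ p = j) :
    IsBasisFam {W | ∃ V U, IsChartOver p i j V U ∧ i ⁻¹ᵁ U = W} := by
  intro O z hz
  obtain ⟨V₀, hV₀, hzV₀, -⟩ := exists_chart j z ⊤ trivial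
  have hz' : i z ∈ p ⁻¹ᵁ V₀ := by
    show (i ≫ p) z ∈ V₀
    rw [hij]
    exact hzV₀
  obtain ⟨U₀, hU₀, hzU₀, hle, hUO⟩ := exists_chart_le i z O hz (p ⁻¹ᵁ V₀) hz'
  obtain ⟨O', hO', hpre⟩ := j.isEmbedding.isInducing.isOpen_iff.mp (i ⁻¹ᵁ U₀).2
  have hzO' : j z ∈ O' := by
    have : z ∈ ⇑j ⁻¹' O' := by rw [hpre]; exact hzU₀
    exact this
  obtain ⟨g, hg, hzg⟩ := hV₀.affine.exists_basicOpen_le (V := V₀ ⊓ ⟨O', hO'⟩) ⟨j z, ⟨hzV₀, hzO'⟩⟩ hzV₀
  have hgle : Y.basicOpen g ≤ V₀ := Y.basicOpen_le g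
  have hU : X.basicOpen ((p.appLE V₀ U₀ hle).hom g) = U₀ ⊓ p ⁻¹ᵁ Y.basicOpen g := by
    rw [Scheme.basicOpen_appLE]
  refine ⟨_, ⟨Y.basicOpen g, U₀ ⊓ p ⁻¹ᵁ Y.basicOpen g, ⟨hV₀.of_le (hV₀.affine.basicOpen g) hgle,
    hU₀.of_le (hU ▸ hU₀.affine.basicOpen _) inf_le_left, inf_le_right, ?_⟩, rfl⟩,
    fun x hx => hUO hx.1, ⟨hzU₀, ?_⟩⟩
  · ext x
    constructor
    · intro hx
      show j x ∈ Y.basicOpen g
      rw [← hij]
      exact hx.2
    · intro hx
      have h2 : x ∈ ⇑j ⁻¹' O' := (hg hx).2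
      rw [hpre] at h2
      exact ⟨h2, show (i ≫ p) x ∈ Y.basicOpen g by rw [hij]; exact hx⟩
  · show (i ≫ p) z ∈ Y.basicOpen g
    rw [hij]
    exact hzg

variable {V : Y.Opens} {U : X.Opens}

/-- The value of the map of conormal sheaves on a class. -/
lemma IsChartOver.psi_app [QuasiCompact i] (hψ : OmegaSh.IsConormalMap i j p (𝟙 Z) ψ)
    (h : IsChartOver p i j V U) (k : Γ(ClSub.idealMod j.ker, V)) (s : Γ(ClSub.idealMod i.ker, U))
    (hs : OmegaSh.idealSect i.ker U s = p.appLE V U h.le (OmegaSh.idealSect j.ker V k)) :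
    ψ.app (i ⁻¹ᵁ U) (pullSectLE (𝟙 Z) (Omega.conormal j) (j ⁻¹ᵁ V) (i ⁻¹ᵁ U) h.eq.le
      (OmegaSh.conormalSect j V k)) = OmegaSh.conormalSect i U s :=
  IsConormalMap.app_class i j p (𝟙 Z) hψ V U h.le h.eq.le k s hs

lemma IsChartOver.exists_idealSect [QuasiCompact i] (hψ : OmegaSh.IsConormalMap i j p (𝟙 Z) ψ)
    (h : IsChartOver p i j V U) (k : Γ(ClSub.idealMod j.ker, V)) :
    ∃ s : Γ(ClSub.idealMod i.ker, U),
      OmegaSh.idealSect i.ker U s = p.appLE V U h.le (OmegaSh.idealSect j.ker V k) := by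
  refine Conormal.exists_idealSect i U _ ?_
  have hij : i ≫ p = j := by rw [← hψ.1, Category.id_comp]
  subst hij
  rw [Scheme.Hom.app_eq_appLE, ← ConcreteCategory.comp_apply, Scheme.Hom.appLE_comp_appLE]
  show resO Z _ ((i ≫ p).app V _) = 0
  rw [app_idealSect, map_zero]

theorem comp_eq_zero_second [QuasiCompact i] [IsImmersion j] (hψ : OmegaSh.IsConormalMap i j p (𝟙 Z) ψ)
    (hφ : OmegaSh.IsConormalDiff i d φ) : ψ ≫ φ = 0 := by
  refine ModDesc.hom_ext_pullback (g := 𝟙 Z) _ _ fun z O hz => ?_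
  obtain ⟨V, hV, hzV, hVO⟩ := exists_chart j z O hz
  refine ⟨j ⁻¹ᵁ V, hVO, hzV, fun q => ?_⟩
  obtain ⟨k, rfl⟩ := conormalSect_surjective j hV q
  have hle : j ⁻¹ᵁ V ≤ i ⁻¹ᵁ (p ⁻¹ᵁ V) := by
    rw [← Scheme.Hom.comp_preimage, ← hψ.1, Category.id_comp]
  have hle' : i ⁻¹ᵁ (p ⁻¹ᵁ V) ≤ j ⁻¹ᵁ V := by
    rw [← Scheme.Hom.comp_preimage, ← hψ.1, Category.id_comp]
  obtain ⟨s, hs⟩ := Conormal.exists_idealSect i (p ⁻¹ᵁ V) (p.app V (OmegaSh.idealSect j.ker V k)) (by
    have hij : i ≫ p = j := by rw [← hψ.1, Category.id_comp]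
    subst hij
    have h := app_idealSect (i ≫ p) V k
    rw [Scheme.Hom.comp_app] at h
    exact h)
  have h := hψ.2 V k s hs (j ⁻¹ᵁ V) le_rfl hle
  have h' : ψ.app (j ⁻¹ᵁ V) (pullSectLE (𝟙 Z) (Omega.conormal j) (j ⁻¹ᵁ V) (j ⁻¹ᵁ V) le_rfl
      (OmegaSh.conormalSect j V k)) = res (Omega.conormal i) hle (OmegaSh.conormalSect i (p ⁻¹ᵁ V) s) := by
    rw [pullSectLE_apply, ← app_res]
    exact h
  rw [Scheme.Modules.Hom.comp_app, ConcreteCategory.comp_apply]
  refine (congrArg (fun t => φ.app (j ⁻¹ᵁ V) t) h').trans ?_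
  show φ.app _ (res (Omega.conormal i) hle _) = 0
  rw [← app_res, hφ (p ⁻¹ᵁ V) s, hs]
  rw [show d.app (p ⁻¹ᵁ V) (p.app V (OmegaSh.idealSect j.ker V k)) = 0 from app_comp d V _, map_zero, map_zero]

set_option maxHeartbeats 1600000 in
theorem IsChartOver.surjective_exact [QuasiCompact i] [QuasiCompact j] (hd : OmegaSh.IsUniversal d)
    (hψ : OmegaSh.IsConormalMap i j p (𝟙 Z) ψ) (hφ : OmegaSh.IsConormalDiff i d φ)
    (h : IsChartOver p i j V U) :
    Function.Surjective (φ.app (i ⁻¹ᵁ U)) ∧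
      ∀ m, φ.app (i ⁻¹ᵁ U) m = 0 → ∃ q, ψ.app (i ⁻¹ᵁ U) q = m := by
  letI : Algebra Γ(Y, V) Γ(X, U) := (p.appLE V U h.le).hom.toAlgebra
  letI : Algebra Γ(X, U) Γ(Z, i ⁻¹ᵁ U) := (i.appLE U (i ⁻¹ᵁ U) le_rfl).hom.toAlgebra
  have halg : algebraMap Γ(X, U) Γ(Z, i ⁻¹ᵁ U) = (i.app U).hom := by
    rw [RingHom.algebraMap_toAlgebra, Scheme.Hom.app_eq_appLE]
  obtain ⟨L, hL⟩ := exists_linearEquiv hd h.le h.chart.affine h.chart'.affine
  haveI : Coh.IsQCoh Ω := isQCoh_of_isUniversal hd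
  obtain ⟨Φ, hΦ⟩ := exists_bijective_liftBaseChange i Ω h.chart.affine h.chart.preimage le_rfl
  have hΦ' : ∀ m, Φ (1 ⊗ₜ m) = OmegaSh.pullSect i Ω U m := fun m => by
    rw [hΦ, pullSectLE_apply, res_self]
  have hiV : ∀ r, i.app U (p.appLE V U h.le r) = resO Z h.eq.le (j.app V r) := by
    intro r
    have hij : i ≫ p = j := by rw [← hψ.1, Category.id_comp]
    subst hij
    rw [Scheme.Hom.app_eq_appLE, ← ConcreteCategory.comp_apply, Scheme.Hom.appLE_comp_appLE]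
    rfl
  -- a lift to the base of each function, modulo the ideal
  have hlift : ∀ a : Γ(X, U), ∃ r : Γ(Y, V), ∃ s : Γ(ClSub.idealMod i.ker, U),
      OmegaSh.idealSect i.ker U s = a - p.appLE V U h.le r := by
    intro a
    obtain ⟨r, hr⟩ := h.chart'.surjective (resO Z h.eq.ge (i.app U a))
    refine ⟨r, Conormal.exists_idealSect i U _ ?_⟩
    rw [map_sub, hiV, hr, resO_resO, resO_self, sub_self]
  constructor
  · intro t
    obtain ⟨z, rfl⟩ := Φ.surjective t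
    induction z with
    | zero => exact ⟨0, by rw [map_zero, map_zero]⟩
    | add a b ha hb =>
      obtain ⟨u, hu⟩ := ha
      obtain ⟨v, hv⟩ := hb
      exact ⟨u + v, by rw [map_add, map_add, hu, hv]⟩
    | tmul b m =>
      have hm : m ∈ Submodule.span Γ(X, U) (Set.range (d.app U)) := by
        rw [span_app hd h.le h.chart.affine h.chart'.affine]; trivial
      induction hm using Submodule.span_induction generalizing b with
      | mem x hx =>
        obtain ⟨a, rfl⟩ := hx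
        obtain ⟨r, s, hs⟩ := hlift a
        refine ⟨b • OmegaSh.conormalSect i U s, ?_⟩
        rw [Scheme.Modules.Hom.app_smul, hφ U s, hs, map_sub, app_appLE d, sub_zero, ← hΦ', ← map_smul,
          TensorProduct.smul_tmul', smul_eq_mul, mul_one]
      | zero => exact ⟨0, by rw [TensorProduct.tmul_zero, map_zero, map_zero]⟩
      | add x y _ _ hx hy =>
        obtain ⟨u, hu⟩ := hx b
        obtain ⟨v, hv⟩ := hy b
        exact ⟨u + v, by rw [TensorProduct.tmul_add, map_add, map_add, hu, hv]⟩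
      | smul r x _ hx =>
        obtain ⟨u, hu⟩ := hx (r • b)
        exact ⟨u, by rw [hu, TensorProduct.smul_tmul]⟩
  · let ψl : Γ((Scheme.Modules.pullback (𝟙 Z)).obj (Omega.conormal j), i ⁻¹ᵁ U) →ₗ[Γ(Z, i ⁻¹ᵁ U)]
        Γ(Omega.conormal i, i ⁻¹ᵁ U) :=
      { toFun := ψ.app (i ⁻¹ᵁ U)
        map_add' := map_add _
        map_smul' := fun r x => Scheme.Modules.Hom.app_smul ψ r x }
    let P := Γ(Omega.conormal i, i ⁻¹ᵁ U) ⧸ LinearMap.range ψl
    let mk := (LinearMap.range ψl).mkQ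
    choose r₀ s₀ hs₀ using hlift
    have hind : ∀ a r s, OmegaSh.idealSect i.ker U s = a - p.appLE V U h.le r →
        mk (OmegaSh.conormalSect i U s) = mk (OmegaSh.conormalSect i U (s₀ a)) := by
      intro a r s hs
      have hk0 : j.app V (r₀ a - r) = 0 := by
        have h1 := congrArg (i.app U) hs
        have h2 := congrArg (i.app U) (hs₀ a)
        rw [app_idealSect, map_sub, hiV] at h1 h2
        have h3 : resO Z h.eq.le (j.app V (r₀ a - r)) = 0 := by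
          rw [map_sub, map_sub, sub_eq_zero]
          exact (sub_eq_zero.mp h2.symm).symm.trans (sub_eq_zero.mp h1.symm)
        have h4 := congrArg (resO Z h.eq.ge) h3
        rwa [resO_resO, resO_self, map_zero] at h4
      obtain ⟨k, hk⟩ := Conormal.exists_idealSect j V _ hk0
      refine (Submodule.Quotient.eq _).mpr ⟨pullSectLE (𝟙 Z) (Omega.conormal j) (j ⁻¹ᵁ V) (i ⁻¹ᵁ U) h.eq.le
        (OmegaSh.conormalSect j V k), ?_⟩
      show ψ.app (i ⁻¹ᵁ U) _ = _
      rw [h.psi_app hψ k (s - s₀ a) (by rw [map_sub, hs, hs₀, hk, map_sub]; abel), map_sub]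
    letI : Module Γ(X, U) P := Module.compHom P (i.app U).hom
    letI : Module Γ(Y, V) P := Module.compHom P ((i.app U).hom.comp (algebraMap Γ(Y, V) Γ(X, U)))
    haveI : IsScalarTower Γ(Y, V) Γ(X, U) P := IsScalarTower.of_algebraMap_smul fun r x => rfl
    haveI : IsScalarTower Γ(X, U) Γ(Z, i ⁻¹ᵁ U) P := IsScalarTower.of_algebraMap_smul fun r x => by
      rw [halg]; rfl
    let δf : Γ(X, U) →+ P := AddMonoidHom.mk' (fun a => mk (OmegaSh.conormalSect i U (s₀ a))) fun a b => by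
      rw [← hind (a + b) (r₀ a + r₀ b) (s₀ a + s₀ b) (by rw [map_add, hs₀, hs₀, map_add]; abel), map_add,
        map_add]
    have hmul : ∀ a b, δf (a * b) = a • δf b + b • δf a := by
      intro a b
      show mk _ = i.app U a • mk (OmegaSh.conormalSect i U (s₀ b)) + i.app U b • mk (OmegaSh.conormalSect i U (s₀ a))
      have hb : i.app U (p.appLE V U h.le (r₀ b)) = i.app U b := by
        have h1 := congrArg (i.app U) (hs₀ b)
        rw [app_idealSect, map_sub] at h1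
        exact (sub_eq_zero.mp h1.symm).symm
      rw [← hind (a * b) (r₀ a * r₀ b) (a • s₀ b + p.appLE V U h.le (r₀ b) • s₀ a) (by
        rw [map_add, idealSect_smul, idealSect_smul, hs₀, hs₀, map_mul]; ring), map_add, map_add,
        conormalSect_smul, conormalSect_smul, map_smul, map_smul, hb]
    have hbase : ∀ r, δf (algebraMap Γ(Y, V) Γ(X, U) r) = 0 := by
      intro r
      show mk _ = 0
      rw [← hind _ r 0 (by rw [map_zero, RingHom.algebraMap_toAlgebra, sub_self]), map_zero, map_zero]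
    let δ : Derivation Γ(Y, V) Γ(X, U) P :=
      Derivation.mk'
        { toFun := δf
          map_add' := map_add δf
          map_smul' := fun r x => by
            rw [Algebra.smul_def, hmul, hbase, smul_zero, add_zero, RingHom.id_apply, algebraMap_smul] }
        hmul
    let F₀ := LinearMap.liftBaseChange Γ(Z, i ⁻¹ᵁ U) (δ.liftKaehlerDifferential.comp L.toLinearMap)
    intro m hm
    obtain ⟨s, rfl⟩ := conormalSect_surjective i h.chart m
    have h0 : mk (OmegaSh.conormalSect i U s) = 0 := by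
      rw [hind (OmegaSh.idealSect i.ker U s) 0 s (by rw [map_zero, sub_zero])]
      have e1 : Φ.symm (φ.app (i ⁻¹ᵁ U) (OmegaSh.conormalSect i U s)) =
          1 ⊗ₜ d.app U (OmegaSh.idealSect i.ker U s) := by
        rw [LinearEquiv.symm_apply_eq, hΦ']
        exact hφ U s
      have e2 := congrArg F₀ e1
      rw [hm, map_zero, map_zero, LinearMap.liftBaseChange_tmul, one_smul] at e2
      rw [e2]
      show _ = δ.liftKaehlerDifferential (L _)
      rw [hL, Derivation.liftKaehlerDifferential_comp_D]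
      rfl
    exact (Submodule.Quotient.mk_eq_zero _).mp h0

/-- The sequence of conormal sheaves and relative differentials. -/
theorem exact_second [IsImmersion i] [IsImmersion j] [QuasiCompact i] [QuasiCompact j]
    (hij : i ≫ p = j) (hd : OmegaSh.IsUniversal d)
    (hψ : OmegaSh.IsConormalMap i j p (𝟙 Z) ψ) (hφ : OmegaSh.IsConormalDiff i d φ) :
    ∃ w : ψ ≫ φ = 0, (ShortComplex.mk ψ φ w).Exact ∧ Epi φ := by
  refine ⟨comp_eq_zero_second hψ hφ, exact_of_basis _ (isBasisFam_chartsOver hij) ?_,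
    epi_of_basis φ (isBasisFam_chartsOver hij) ?_⟩
  · rintro _ ⟨V, U, h, rfl⟩
    exact (h.surjective_exact hd hψ hφ).2
  · rintro _ ⟨V, U, h, rfl⟩
    exact (h.surjective_exact hd hψ hφ).1

/-- A retraction of the ideal of a smooth algebra. -/
lemma mem_sq_of_formallySmooth {R A B : Type u} [CommRing R] [CommRing A] [CommRing B] [Algebra R A]
    [Algebra R B] [Algebra A B] [IsScalarTower R A B] [Algebra.FormallySmooth R A]
    (hR : Function.Surjective (algebraMap R B)) (k : R)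
    (hk : algebraMap R A k ∈ RingHom.ker (algebraMap A B) ^ 2) : k ∈ RingHom.ker (algebraMap R B) ^ 2 := by
  let K := RingHom.ker (algebraMap R B)
  let g : (R ⧸ K ^ 2) →ₐ[R] B := Ideal.Quotient.liftₐ (K ^ 2) (Algebra.ofId R B)
    (fun a ha => Ideal.pow_le_self two_ne_zero ha)
  have hg : Function.Surjective g := fun b => by
    obtain ⟨r, rfl⟩ := hR b
    exact ⟨Ideal.Quotient.mk _ r, rfl⟩
  have hker : RingHom.ker g.toRingHom ≤ K.map (Ideal.Quotient.mk (K ^ 2)) := by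
    intro x hx
    obtain ⟨r, rfl⟩ := Ideal.Quotient.mk_surjective x
    exact Ideal.mem_map_of_mem _ hx
  have hsq : K.map (Ideal.Quotient.mk (K ^ 2)) ^ 2 = ⊥ := by
    rw [← Ideal.map_pow, Ideal.map_quotient_self]
  have hnil : IsNilpotent (RingHom.ker g.toRingHom) :=
    ⟨2, le_bot_iff.mp ((Ideal.pow_right_mono hker 2).trans hsq.le)⟩
  let σ := Algebra.FormallySmooth.liftOfSurjective (IsScalarTower.toAlgHom R A B) g hg hnil
  have hσ : Ideal.map σ.toRingHom (RingHom.ker (algebraMap A B)) ≤ K.map (Ideal.Quotient.mk (K ^ 2)) := by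
    refine Ideal.map_le_iff_le_comap.mpr fun x hx => hker ?_
    show g (σ x) = 0
    rw [Algebra.FormallySmooth.liftOfSurjective_apply]
    exact hx
  have h2 : σ.toRingHom (algebraMap R A k) ∈ (⊥ : Ideal (R ⧸ K ^ 2)) := by
    rw [← hsq]
    refine Ideal.pow_right_mono hσ 2 ?_
    rw [← Ideal.map_pow]
    exact Ideal.mem_map_of_mem _ hk
  rw [Ideal.mem_bot] at h2
  have h3 : σ (algebraMap R A k) = Ideal.Quotient.mk (K ^ 2) k := σ.commutes k
  exact Ideal.Quotient.eq_zero_iff_mem.mp (h3.symm.trans h2)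

set_option maxHeartbeats 1600000 in
theorem IsChartOver.psi_injective [Smooth p] [QuasiCompact i] [QuasiCompact j]
    (hψ : OmegaSh.IsConormalMap i j p (𝟙 Z) ψ) (h : IsChartOver p i j V U) :
    Function.Injective (ψ.app (i ⁻¹ᵁ U)) := by
  refine (injective_iff_map_eq_zero (ψ.app (i ⁻¹ᵁ U)).hom).mpr fun q hq => ?_
  -- the source consists of classes
  obtain ⟨k, rfl⟩ : ∃ k, pullSectLE (𝟙 Z) (Omega.conormal j) (j ⁻¹ᵁ V) (i ⁻¹ᵁ U) h.eq.le
      (OmegaSh.conormalSect j V k) = q := by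
    obtain ⟨k, hk⟩ := conormalSect_surjective j h.chart'
      (res (Omega.conormal j) h.eq.ge (((Scheme.Modules.pullbackId Z).hom.app (Omega.conormal j)).app _ q))
    refine ⟨k, ?_⟩
    rw [hk, pullSectLE_apply]
    refine (congrArg (res ((Scheme.Modules.pullback (𝟙 Z)).obj (Omega.conormal j)) h.eq.le)
      (pullbackId_inv_app (Omega.conormal j) (j ⁻¹ᵁ V) _).symm).trans ?_
    refine (app_res ((Scheme.Modules.pullbackId Z).inv.app (Omega.conormal j)) h.eq.le _).trans ?_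
    refine (congrArg _ ((res_res (Omega.conormal j) _ _ _).trans (res_self _ _ _))).trans ?_
    exact congr(($((Scheme.Modules.pullbackId Z).hom_inv_id_app (Omega.conormal j))).app (i ⁻¹ᵁ U) q)
  obtain ⟨s, hs⟩ := h.exists_idealSect hψ k
  change ψ.app (i ⁻¹ᵁ U) _ = 0 at hq
  rw [h.psi_app hψ k s hs, conormalSect_eq_zero_iff i h.chart, hs] at hq
  letI : Algebra Γ(Y, V) Γ(X, U) := (p.appLE V U h.le).hom.toAlgebra
  letI : Algebra Γ(X, U) Γ(Z, i ⁻¹ᵁ U) := (i.app U).hom.toAlgebra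
  letI : Algebra Γ(Y, V) Γ(Z, i ⁻¹ᵁ U) := ((i.app U).hom.comp (p.appLE V U h.le).hom).toAlgebra
  haveI : IsScalarTower Γ(Y, V) Γ(X, U) Γ(Z, i ⁻¹ᵁ U) := IsScalarTower.of_algebraMap_eq' rfl
  haveI : Algebra.Smooth Γ(Y, V) Γ(X, U) := p.smooth_appLE h.chart'.affine h.chart.affine h.le
  have hiV : ∀ r, i.app U (p.appLE V U h.le r) = resO Z h.eq.le (j.app V r) := by
    intro r
    have hij : i ≫ p = j := by rw [← hψ.1, Category.id_comp]
    subst hij
    rw [Scheme.Hom.app_eq_appLE, ← ConcreteCategory.comp_apply, Scheme.Hom.appLE_comp_appLE]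
    rfl
  have hsurj : Function.Surjective (algebraMap Γ(Y, V) Γ(Z, i ⁻¹ᵁ U)) := fun b => by
    obtain ⟨r, hr⟩ := h.chart'.surjective (resO Z h.eq.ge b)
    refine ⟨r, ?_⟩
    show i.app U (p.appLE V U h.le r) = b
    rw [hiV, hr, resO_resO, resO_self]
  have hkk := mem_sq_of_formallySmooth hsurj (OmegaSh.idealSect j.ker V k) hq
  have hK : RingHom.ker (algebraMap Γ(Y, V) Γ(Z, i ⁻¹ᵁ U)) ≤ RingHom.ker (j.app V).hom := by
    intro r hr
    have hr' : resO Z h.eq.le (j.app V r) = 0 := (hiV r).symm.trans hr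
    have h4 := congrArg (resO Z h.eq.ge) hr'
    rwa [resO_resO, resO_self, map_zero] at h4
  rw [(conormalSect_eq_zero_iff j h.chart' k).mpr (Ideal.pow_right_mono hK 2 hkk), map_zero]

/-- For a smooth morphism the sequence is short exact. -/
theorem shortExact_second [Smooth p] [IsImmersion i] [IsImmersion j] [QuasiCompact i] [QuasiCompact j]
    (hij : i ≫ p = j) (hd : OmegaSh.IsUniversal d)
    (hψ : OmegaSh.IsConormalMap i j p (𝟙 Z) ψ) (hφ : OmegaSh.IsConormalDiff i d φ) :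
    ∃ w : ψ ≫ φ = 0, (ShortComplex.mk ψ φ w).ShortExact := by
  obtain ⟨w, hex, hepi⟩ := exact_second hij hd hψ hφ
  refine ⟨w, { exact := hex, mono_f := mono_of_basis ψ (isBasisFam_chartsOver hij) ?_, epi_g := hepi }⟩
  rintro _ ⟨V, U, h, rfl⟩
  exact h.psi_injective hψ

end Second

end Groth.Agent.Conormal
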