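import Groth.Agent.KoszulLib.SchImm
import Groth.Agent.ModDesc.Sect
import Groth.Agent.ModDesc.Iso
import Groth.Agent.QC.IdealMod
import Groth.Agent.QC.PullSect
import Groth.Prelude.Def_Omega3
import Groth.Prelude.Def_Omega4

/-!
# Sections of conormal sheaves on affine charts
-/

universe u

open CategoryTheory CategoryTheory.Limits AlgebraicGeometry TopologicalSpace Opposite TensorProduct

set_option backward.isDefEq.respectTransparency false
set_option linter.style.haveILetI false

noncomputable section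

namespace Groth.Agent.Conormal

open Groth.Agent.QC Groth.Agent.ModDesc

variable {Z X : Scheme.{u}} (i : Z ⟶ X)

lemma isQCoh_conormal : Coh.IsQCoh (Omega.conormal i) := isQCoh_pullback i (isQCoh_idealMod _)

/-! ### Local sections of the ideal -/

lemma idealSect_injective (I : X.IdealSheafData) (U : X.Opens) :
    Function.Injective (OmegaSh.idealSect I U) := fun _ _ h => app_injective_of_mono (ClSub.idealModι I) U h

lemma idealSect_smul (I : X.IdealSheafData) (U : X.Opens) (a : Γ(X, U)) (s : Γ(ClSub.idealMod I, U)) :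
    OmegaSh.idealSect I U (a • s) = a * OmegaSh.idealSect I U s :=
  Scheme.Modules.Hom.app_smul (ClSub.idealModι I) a s

lemma idealSect_res (I : X.IdealSheafData) {V U : X.Opens} (h : V ≤ U) (s : Γ(ClSub.idealMod I, U)) :
    OmegaSh.idealSect I V (res (ClSub.idealMod I) h s) = resO X h (OmegaSh.idealSect I U s) :=
  (app_res (ClSub.idealModι I) h s).symm

lemma app_idealSect (U : X.Opens) (s : Γ(ClSub.idealMod i.ker, U)) :
    i.app U (OmegaSh.idealSect i.ker U s) = 0 := by
  have h : i.ker.subschemeι.app U (OmegaSh.idealSect i.ker U s) = 0 :=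
    (mem_range_idealModι i.ker U _).mp ⟨s, rfl⟩
  have key : ∀ (f : Z ⟶ X), i.toImage ≫ i.ker.subschemeι = f → ∀ t, i.ker.subschemeι.app U t = 0 →
      f.app U t = 0 := by
    rintro f rfl t ht
    rw [Scheme.Hom.comp_app]
    change i.toImage.app _ (i.ker.subschemeι.app U t) = 0
    rw [ht, map_zero]
  exact key i i.toImage_imageι _ h

/-- The ideal of a quasi-compact morphism is the sectionwise kernel. -/
lemma exists_idealSect [QuasiCompact i] (U : X.Opens) (t : Γ(X, U)) (ht : i.app U t = 0) :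
    ∃ s : Γ(ClSub.idealMod i.ker, U), OmegaSh.idealSect i.ker U s = t := by
  refine (mem_range_idealModι i.ker U t).mpr ?_
  refine TopCat.Presheaf.IsSheaf.section_ext i.ker.subscheme.sheaf.2 fun p hp => ?_
  obtain ⟨_, ⟨W, hW, rfl⟩, hpW, hWU⟩ := X.isBasis_affineOpens.exists_subset_of_mem_open
    (show i.ker.subschemeι p ∈ (U : Set X) from hp) U.2
  refine ⟨i.ker.subschemeι ⁻¹ᵁ W, i.ker.subschemeι.preimage_mono hWU, hpW, ?_⟩
  have h0 : i.ker.subschemeι.app W (resO X hWU t) = 0 := by
    refine (mem_range_idealModι i.ker W _).mp ((mem_range_idealModι_affine i.ker ⟨W, hW⟩ _).mpr ?_)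
    rw [Scheme.Hom.ker_apply, RingHom.mem_ker]
    refine (ConcreteCategory.congr_hom (i.naturality (homOfLE hWU).op) t).trans ?_
    change (Z.presheaf.map _).hom (i.app U t) = 0
    rw [ht, map_zero]
  rw [map_zero]
  exact (ConcreteCategory.congr_hom (i.ker.subschemeι.naturality (homOfLE hWU).op) t).symm.trans h0

/-! ### Classes -/

lemma conormalSect_smul (U : X.Opens) (a : Γ(X, U)) (s : Γ(ClSub.idealMod i.ker, U)) :
    OmegaSh.conormalSect i U (a • s) = i.app U a • OmegaSh.conormalSect i U s :=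
  OmegaSh.pullSect_smul i _ U a s

lemma res_conormalSect {V U : X.Opens} (h : V ≤ U) (s : Γ(ClSub.idealMod i.ker, U)) :
    res (Omega.conormal i) (i.preimage_mono h) (OmegaSh.conormalSect i U s) =
      OmegaSh.conormalSect i V (res (ClSub.idealMod i.ker) h s) :=
  (OmegaSh.pullSect_map i _ h s).symm

/-- An affine open on which `i` is a closed immersion. -/
structure IsChart (U : X.Opens) : Prop where
  affine : IsAffineOpen U
  closed : IsClosedImmersion (i ∣_ U)

namespace IsChart

variable {i} {U : X.Opens} (h : IsChart i U)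
include h

lemma preimage : IsAffineOpen (i ⁻¹ᵁ U) := KoszulLib.isAffineOpen_preimage i (U := ⟨U, h.affine⟩) h.closed

lemma surjective : Function.Surjective (i.app U).hom := KoszulLib.app_surjective i (U := ⟨U, h.affine⟩) h.closed

lemma of_le {W : X.Opens} (hW : IsAffineOpen W) (e : W ≤ U) : IsChart i W :=
  ⟨hW, (KoszulLib.ker_app_of_le i ⟨U, h.affine⟩ h.closed ⟨W, hW⟩ e).1⟩

lemma ker_eq_map {W : X.Opens} (hW : IsAffineOpen W) (e : W ≤ U) :
    RingHom.ker (i.app W).hom = (RingHom.ker (i.app U).hom).map (resO X e) :=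
  (KoszulLib.ker_app_of_le i ⟨U, h.affine⟩ h.closed ⟨W, hW⟩ e).2

end IsChart

/-- Charts give a basis of the source of an immersion. -/
lemma exists_chart [IsImmersion i] (z : Z) (O : Z.Opens) (hz : z ∈ O) :
    ∃ U : X.Opens, IsChart i U ∧ i z ∈ U ∧ i ⁻¹ᵁ U ≤ O := by
  obtain ⟨U₀, hzU₀, hc⟩ := KoszulLib.exists_closed_nhd i z
  obtain ⟨O', hO', hpre⟩ := i.isEmbedding.isInducing.isOpen_iff.mp O.2
  have hzO' : i z ∈ O' := by
    have : z ∈ ⇑i ⁻¹' O' := by rw [hpre]; exact hz
    exact this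
  obtain ⟨_, ⟨W, hW, rfl⟩, hzW, hWle⟩ := X.isBasis_affineOpens.exists_subset_of_mem_open
    (show i z ∈ (U₀.1 : Set X) ∩ O' from ⟨hzU₀, hzO'⟩) (U₀.1.2.inter hO')
  refine ⟨W, IsChart.of_le ⟨U₀.2, hc⟩ hW fun x hx => (hWle hx).1, hzW, fun x hx => ?_⟩
  have : x ∈ ⇑i ⁻¹' O' := (hWle hx).2
  rw [hpre] at this
  exact this

/-- Charts subordinate to an open of the target. -/
lemma exists_chart_le [IsImmersion i] (z : Z) (O : Z.Opens) (hz : z ∈ O) (O' : X.Opens) (hz' : i z ∈ O') :
    ∃ U : X.Opens, IsChart i U ∧ i z ∈ U ∧ U ≤ O' ∧ i ⁻¹ᵁ U ≤ O := by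
  obtain ⟨U, hU, hzU, hUO⟩ := exists_chart i z O hz
  obtain ⟨_, ⟨W, hW, rfl⟩, hzW, hWle⟩ := X.isBasis_affineOpens.exists_subset_of_mem_open
    (show i z ∈ ((U ⊓ O' : X.Opens) : Set X) from ⟨hzU, hz'⟩) (U ⊓ O').2
  exact ⟨W, hU.of_le hW fun x hx => (hWle hx).1, hzW, fun x hx => (hWle hx).2,
    fun x hx => hUO ((hWle hx).1)⟩

/-- The sections of the conormal sheaf over a chart: all are classes, and the vanishing classes are `J²`. -/
theorem conormalSect_aux {U : X.Opens} (h : IsChart i U) :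
    Function.Surjective (OmegaSh.conormalSect i U) ∧
    ∀ s, OmegaSh.conormalSect i U s = 0 ↔
      s ∈ RingHom.ker (i.app U).hom • (⊤ : Submodule Γ(X, U) Γ(ClSub.idealMod i.ker, U)) := by
  haveI : Coh.IsQCoh (ClSub.idealMod i.ker) := isQCoh_idealMod _
  letI : Algebra Γ(X, U) Γ(Z, i ⁻¹ᵁ U) := (i.appLE U (i ⁻¹ᵁ U) le_rfl).hom.toAlgebra
  obtain ⟨Φ, hΦ⟩ := exists_bijective_liftBaseChange i (ClSub.idealMod i.ker) h.affine h.preimage le_rfl
  have hcl : ∀ s, Φ (1 ⊗ₜ s) = OmegaSh.conormalSect i U s := fun s => by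
    rw [hΦ, pullSectLE_apply, res_self]
    rfl
  have halg : algebraMap Γ(X, U) Γ(Z, i ⁻¹ᵁ U) = (i.app U).hom := by
    rw [RingHom.algebraMap_toAlgebra, Scheme.Hom.app_eq_appLE]
  have hsurj : Function.Surjective (algebraMap Γ(X, U) Γ(Z, i ⁻¹ᵁ U)) := by rw [halg]; exact h.surjective
  constructor
  · intro c
    obtain ⟨x, rfl⟩ := Φ.surjective c
    induction x with
    | zero => exact ⟨0, by simp⟩
    | add a b ha hb =>
      obtain ⟨sa, hsa⟩ := ha
      obtain ⟨sb, hsb⟩ := hb
      exact ⟨sa + sb, by rw [map_add, map_add, hsa, hsb]⟩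
    | tmul r s =>
      obtain ⟨a, rfl⟩ := hsurj r
      refine ⟨a • s, ?_⟩
      rw [← hcl, TensorProduct.tmul_smul, TensorProduct.smul_tmul', Algebra.smul_def, mul_one]
  · intro s
    rw [← hcl]
    refine Iff.trans (map_eq_zero_iff Φ Φ.injective) ?_
    let J := RingHom.ker (algebraMap Γ(X, U) Γ(Z, i ⁻¹ᵁ U))
    let e : (Γ(X, U) ⧸ J) ≃ₐ[Γ(X, U)] Γ(Z, i ⁻¹ᵁ U) :=
      Ideal.quotientKerAlgEquivOfSurjective (f := Algebra.ofId Γ(X, U) Γ(Z, i ⁻¹ᵁ U)) hsurj
    let E := (TensorProduct.congr e.toLinearEquiv (LinearEquiv.refl Γ(X, U) Γ(ClSub.idealMod i.ker, U))).symm ≪≫ₗ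
      TensorProduct.quotTensorEquivQuotSMul Γ(ClSub.idealMod i.ker, U) J
    have hE : E (1 ⊗ₜ s) = Submodule.Quotient.mk s := by
      simp only [E, LinearEquiv.trans_apply, TensorProduct.congr_symm_tmul]
      rw [show e.toLinearEquiv.symm 1 = Ideal.Quotient.mk J 1 from (map_one e.symm)]
      simp [TensorProduct.quotTensorEquivQuotSMul_mk_tmul]
    rw [← EmbeddingLike.map_eq_zero_iff (f := E), hE, Submodule.Quotient.mk_eq_zero]
    simp only [J, halg]

theorem conormalSect_surjective {U : X.Opens} (h : IsChart i U) :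
    Function.Surjective (OmegaSh.conormalSect i U) := (conormalSect_aux i h).1

theorem conormalSect_eq_zero_iff [QuasiCompact i] {U : X.Opens} (h : IsChart i U)
    (s : Γ(ClSub.idealMod i.ker, U)) :
    OmegaSh.conormalSect i U s = 0 ↔ OmegaSh.idealSect i.ker U s ∈ RingHom.ker (i.app U).hom ^ 2 := by
  rw [(conormalSect_aux i h).2 s]
  let ι : Γ(ClSub.idealMod i.ker, U) →ₗ[Γ(X, U)] Γ(X, U) :=
    { toFun := OmegaSh.idealSect i.ker U
      map_add' := map_add _
      map_smul' := fun a x => idealSect_smul i.ker U a x }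
  have hι : Function.Injective ι := idealSect_injective i.ker U
  have hr : LinearMap.range ι = RingHom.ker (i.app U).hom := by
    ext t
    exact ⟨fun ⟨x, hx⟩ => hx ▸ app_idealSect i U x, fun ht => exists_idealSect i U t ht⟩
  have hm : Submodule.map ι (RingHom.ker (i.app U).hom • ⊤) = RingHom.ker (i.app U).hom ^ 2 := by
    rw [Submodule.map_smul'', Submodule.map_top, hr, smul_eq_mul, sq]
  rw [← hm]
  exact ⟨fun hs => Submodule.mem_map_of_mem hs, fun ⟨x, hx, he⟩ => hι he ▸ hx⟩

/-- Linear maps out of the sections of the conormal sheaf over a chart. -/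
theorem exists_linearMap {U : X.Opens} (h : IsChart i U) {P : Type*} [AddCommGroup P]
    [Module Γ(Z, i ⁻¹ᵁ U) P] (f : Γ(ClSub.idealMod i.ker, U) →+ P)
    (hf : ∀ a s, f (a • s) = i.app U a • f s) :
    ∃ F : Γ(Omega.conormal i, i ⁻¹ᵁ U) →ₗ[Γ(Z, i ⁻¹ᵁ U)] P, ∀ s, F (OmegaSh.conormalSect i U s) = f s := by
  have hker : ∀ s, OmegaSh.conormalSect i U s = 0 → f s = 0 := by
    intro s hs
    refine Submodule.smul_induction_on ((conormalSect_aux i h).2 s |>.mp hs) (fun a ha m _ => ?_)
      (fun x y hx hy => by rw [map_add, hx, hy, add_zero])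
    rw [hf, RingHom.mem_ker.mp ha, zero_smul]
  obtain ⟨g, hg⟩ := Classical.axiomOfChoice (conormalSect_surjective i h)
  have key : ∀ s, f (g (OmegaSh.conormalSect i U s)) = f s := fun s => by
    rw [← sub_eq_zero, ← map_sub]
    exact hker _ (by rw [map_sub, hg, sub_self])
  refine ⟨{ toFun := fun c => f (g c), map_add' := fun c d => ?_, map_smul' := fun r c => ?_ }, key⟩
  · rw [← map_add, ← sub_eq_zero, ← map_sub]
    exact hker _ (by rw [map_sub, map_add, hg, hg, hg, sub_self])
  · obtain ⟨a, rfl⟩ := h.surjective r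
    obtain ⟨s, rfl⟩ := conormalSect_surjective i h c
    show f (g (i.app U a • OmegaSh.conormalSect i U s)) = i.app U a • f (g (OmegaSh.conormalSect i U s))
    rw [key, ← hf, ← conormalSect_smul, key]

/-- Morphisms out of the conormal sheaf are determined on classes. -/
theorem hom_ext {N : Z.Modules} (φ φ' : Omega.conormal i ⟶ N)
    (h : ∀ U s, φ.app (i ⁻¹ᵁ U) (OmegaSh.conormalSect i U s) = φ'.app (i ⁻¹ᵁ U) (OmegaSh.conormalSect i U s)) :
    φ = φ' :=
  ((Scheme.Modules.pullbackPushforwardAdjunction i).homEquiv _ N).injective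
    (Scheme.Modules.hom_ext _ _ fun U => by
      ext s
      simpa only [Adjunction.homEquiv_unit, Scheme.Modules.Hom.comp_app, ConcreteCategory.comp_apply] using! h U s)

/-- The identity pullback on pulled back sections. -/
lemma pullbackId_hom_pullSect (M : X.Modules) (W : X.Opens) (m : Γ(M, W)) :
    ((Scheme.Modules.pullbackId X).hom.app M).app W (OmegaSh.pullSect (𝟙 X) M W m) = m := by
  have h := unit_conjugateEquiv (Adjunction.id (C := X.Modules))
    (Scheme.Modules.pullbackPushforwardAdjunction (𝟙 X)) (Scheme.Modules.pullbackId X).hom M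
  rw [Scheme.Modules.conjugateEquiv_pullbackId_hom] at h
  exact congr(($h).app W m).symm

lemma pullbackId_inv_app (M : X.Modules) (W : X.Opens) (m : Γ(M, W)) :
    ((Scheme.Modules.pullbackId X).inv.app M).app W m = OmegaSh.pullSect (𝟙 X) M W m := by
  conv_lhs => rw [← pullbackId_hom_pullSect M W m]
  exact congr(($((Scheme.Modules.pullbackId X).hom_inv_id_app M)).app W _)

end Groth.Agent.Conormal
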