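import Groth.Agent.Conormal.Maps

/-!
# Conormal sheaves and base change
-/

universe u

open CategoryTheory CategoryTheory.Limits AlgebraicGeometry TopologicalSpace Opposite TensorProduct

set_option backward.isDefEq.respectTransparency false
set_option linter.style.haveILetI false

noncomputable section

namespace Groth.Agent.Conormal

open Groth.Agent.QC Groth.Agent.ModDesc

variable {Z X Z' X' : Scheme.{u}} (i : Z ⟶ X) (i' : Z' ⟶ X') (g : X ⟶ X') (gZ : Z ⟶ Z')

/-- Compatible charts of a commutative square. -/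
structure IsChartPair (U' : X'.Opens) (U : X.Opens) : Prop where
  chart' : IsChart i' U'
  chart : IsChart i U
  le : U ≤ g ⁻¹ᵁ U'
  le' : i ⁻¹ᵁ U ≤ gZ ⁻¹ᵁ (i' ⁻¹ᵁ U')

lemma isBasisFam_chartPairs [IsImmersion i] [IsImmersion i'] (hsq : gZ ≫ i' = i ≫ g) :
    IsBasisFam {V | ∃ U' U, IsChartPair i i' g gZ U' U ∧ i ⁻¹ᵁ U = V} := fun O z hz => by
  obtain ⟨U', hU', hzU', -⟩ := exists_chart i' (gZ z) ⊤ trivial
  have hz' : i z ∈ g ⁻¹ᵁ U' := by
    show (i ≫ g) z ∈ U'
    rw [← hsq]
    exact hzU'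
  obtain ⟨U, hU, hzU, hle, hUO⟩ := exists_chart_le i z O hz (g ⁻¹ᵁ U') hz'
  refine ⟨_, ⟨U', U, ⟨hU', hU, hle, ?_⟩, rfl⟩, hUO, hzU⟩
  rw [← Scheme.Hom.comp_preimage, hsq, Scheme.Hom.comp_preimage]
  exact i.preimage_mono hle

variable {i i' g gZ} {U' : X'.Opens} {U : X.Opens}

lemma IsChartPair.exists_lift [QuasiCompact i] (hsq : gZ ≫ i' = i ≫ g) (h : IsChartPair i i' g gZ U' U)
    (s' : Γ(ClSub.idealMod i'.ker, U')) :
    ∃ s : Γ(ClSub.idealMod i.ker, U),
      OmegaSh.idealSect i.ker U s = g.appLE U' U h.le (OmegaSh.idealSect i'.ker U' s') := by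
  refine exists_idealSect i U _ ?_
  have h0 : i.app (g ⁻¹ᵁ U') (g.app U' (OmegaSh.idealSect i'.ker U' s')) = 0 := by
    have key : ∀ (f : Z ⟶ X'), gZ ≫ i' = f → f.app U' (OmegaSh.idealSect i'.ker U' s') = 0 := by
      rintro f rfl
      rw [Scheme.Hom.comp_app]
      change gZ.app _ (i'.app U' _) = 0
      rw [app_idealSect, map_zero]
    exact key _ hsq
  refine (ConcreteCategory.congr_hom (i.naturality (homOfLE h.le).op) _).trans ?_
  change (Z.presheaf.map _).hom (i.app (g ⁻¹ᵁ U') (g.app U' _)) = 0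
  rw [h0, map_zero]

variable {φ : (Scheme.Modules.pullback gZ).obj (Omega.conormal i') ⟶ Omega.conormal i}

/-- If the ideal is generated by the image of the ideal, the conormal map is onto. -/
theorem IsChartPair.app_surjective [QuasiCompact i] (h : IsChartPair i i' g gZ U' U)
    (hφ : OmegaSh.IsConormalMap i i' g gZ φ) [QuasiCompact i']
    (hJ : RingHom.ker (i.app U).hom = (RingHom.ker (i'.app U').hom).map (g.appLE U' U h.le).hom) :
    Function.Surjective (φ.app (i ⁻¹ᵁ U)) := by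
  have main : ∀ t ∈ RingHom.ker (i.app U).hom, ∃ s m, OmegaSh.idealSect i.ker U s = t ∧
      φ.app (i ⁻¹ᵁ U) m = OmegaSh.conormalSect i U s := by
    rw [hJ]
    intro t ht
    refine Submodule.span_induction ?_ ?_ ?_ ?_ ht
    · rintro _ ⟨t', ht', rfl⟩
      obtain ⟨s', rfl⟩ := exists_idealSect i' U' t' ht'
      obtain ⟨s, hs⟩ := h.exists_lift hφ.1 s'
      exact ⟨s, _, hs, IsConormalMap.app_class i i' g gZ hφ U' U h.le h.le' s' s hs⟩
    · exact ⟨0, 0, map_zero _, by rw [map_zero, map_zero]⟩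
    · rintro x y _ _ ⟨s, m, hs, hm⟩ ⟨t, n, ht, hn⟩
      exact ⟨s + t, m + n, by rw [map_add, hs, ht], by rw [map_add, map_add, hm, hn]⟩
    · rintro a x _ ⟨s, m, hs, hm⟩
      exact ⟨a • s, i.app U a • m, by rw [idealSect_smul, hs, smul_eq_mul],
        by rw [conormalSect_smul, Scheme.Modules.Hom.app_smul, hm]⟩
  intro c
  obtain ⟨s, rfl⟩ := conormalSect_surjective i h.chart c
  obtain ⟨s₁, m, hs₁, hm⟩ := main _ (app_idealSect i U s)
  exact ⟨m, by rw [hm, idealSect_injective i.ker U hs₁]⟩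

/-- Over a flat base change the conormal map is injective. -/
theorem IsChartPair.app_injective [QuasiCompact i] (h : IsChartPair i i' g gZ U' U)
    (hφ : OmegaSh.IsConormalMap i i' g gZ φ) [QuasiCompact i']
    (hflat : (g.appLE U' U h.le).hom.Flat)
    (hJ : RingHom.ker (i.app U).hom = (RingHom.ker (i'.app U').hom).map (g.appLE U' U h.le).hom) :
    Function.Injective (φ.app (i ⁻¹ᵁ U)) := by
  letI : Algebra Γ(X', U') Γ(X, U) := (g.appLE U' U h.le).hom.toAlgebra
  haveI : Module.Flat Γ(X', U') Γ(X, U) := hflat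
  let P := Γ((Scheme.Modules.pullback gZ).obj (Omega.conormal i'), i ⁻¹ᵁ U)
  let I' := Γ(ClSub.idealMod i'.ker, U')
  let c' : I' →+ P := (pullSectLE gZ (Omega.conormal i') (i' ⁻¹ᵁ U') (i ⁻¹ᵁ U) h.le').comp
    (OmegaSh.conormalSect i' U').hom
  have hring : ∀ b, (gZ.appLE (i' ⁻¹ᵁ U') (i ⁻¹ᵁ U) h.le').hom (i'.app U' b) =
      i.app U (g.appLE U' U h.le b) := by
    intro b
    have key : ∀ (f : Z ⟶ X') (e : i ⁻¹ᵁ U ≤ f ⁻¹ᵁ U'), gZ ≫ i' = f →
        (gZ.appLE (i' ⁻¹ᵁ U') (i ⁻¹ᵁ U) h.le').hom (i'.app U' b) = f.appLE U' (i ⁻¹ᵁ U) e b := by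
      rintro f e rfl
      rw [← ConcreteCategory.comp_apply]
      rw [Scheme.Hom.app_eq_appLE, Scheme.Hom.appLE_comp_appLE]
    rw [key (i ≫ g) (i.preimage_mono h.le) hφ.1, ← ConcreteCategory.comp_apply]
    congr 1
    rw [Scheme.Hom.app_eq_appLE, Scheme.Hom.appLE_comp_appLE]
  letI : Module Γ(X, U) P := Module.compHom P (i.app U).hom
  letI : Module Γ(X', U') P := Module.compHom P ((i.app U).hom.comp (algebraMap Γ(X', U') Γ(X, U)))
  haveI : IsScalarTower Γ(X', U') Γ(X, U) P := IsScalarTower.of_algebraMap_smul fun r x => rfl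
  let c'' : I' →ₗ[Γ(X', U')] P :=
    { toFun := c'
      map_add' := map_add c'
      map_smul' := fun b s' => by
        show pullSectLE gZ _ _ _ _ (OmegaSh.conormalSect i' U' (b • s')) = i.app U (g.appLE U' U h.le b) • c' s'
        rw [conormalSect_smul, pullSectLE_smul, hring]
        rfl }
  let L : Γ(X, U) ⊗[Γ(X', U')] I' →ₗ[Γ(X, U)] P := LinearMap.liftBaseChange Γ(X, U) c''
  choose σ hσ using fun s' => h.exists_lift hφ.1 s'
  let σ' : I' →ₗ[Γ(X', U')] Γ(X, U) :=
    { toFun := fun s' => g.appLE U' U h.le (OmegaSh.idealSect i'.ker U' s')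
      map_add' := fun a b => by rw [map_add, map_add]
      map_smul' := fun b s' => by
        rw [idealSect_smul, map_mul, RingHom.id_apply, Algebra.smul_def, RingHom.algebraMap_toAlgebra] }
  let μ : Γ(X, U) ⊗[Γ(X', U')] I' →ₗ[Γ(X, U)] Γ(X, U) := LinearMap.liftBaseChange Γ(X, U) σ'
  have hμinj : Function.Injective μ := by
    let ι' : I' →ₗ[Γ(X', U')] Γ(X', U') :=
      { toFun := OmegaSh.idealSect i'.ker U'
        map_add' := map_add _
        map_smul' := fun b s' => idealSect_smul i'.ker U' b s' }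
    have hi := Module.Flat.lTensor_preserves_injective_linearMap (M := Γ(X, U)) ι'
      (idealSect_injective i'.ker U')
    have he : ∀ x, μ x = TensorProduct.rid Γ(X', U') Γ(X, U) (ι'.lTensor Γ(X, U) x) := by
      intro x
      induction x with
      | zero => simp
      | add a b ha hb => simp [map_add, ha, hb]
      | tmul a s' =>
        show a • g.appLE U' U h.le (OmegaSh.idealSect i'.ker U' s') =
          OmegaSh.idealSect i'.ker U' s' • a
        rw [Algebra.smul_def (A := Γ(X, U)) (OmegaSh.idealSect i'.ker U' s'), RingHom.algebraMap_toAlgebra,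
          smul_eq_mul, mul_comm]
    intro x y hxy
    rw [he, he] at hxy
    exact hi ((TensorProduct.rid _ _).injective hxy)
  have hrange : ∀ t ∈ RingHom.ker (i.app U).hom, t ∈ LinearMap.range μ := by
    rw [hJ]
    intro t ht
    refine (Submodule.span_le.mpr ?_ ht : t ∈ LinearMap.range μ)
    rintro _ ⟨t', ht', rfl⟩
    obtain ⟨s', rfl⟩ := exists_idealSect i' U' t' ht'
    exact ⟨1 ⊗ₜ s', LinearMap.liftBaseChange_one_tmul _ _ _⟩
  choose w hw using fun s : Γ(ClSub.idealMod i.ker, U) => hrange _ (app_idealSect i U s)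
  let f : Γ(ClSub.idealMod i.ker, U) →+ P :=
    { toFun := fun s => L (w s)
      map_zero' := by
        rw [show w 0 = 0 from hμinj (by rw [hw, map_zero, map_zero]), map_zero]
      map_add' := fun a b => by
        rw [← map_add L, show w (a + b) = w a + w b from hμinj (by rw [map_add, hw, hw, hw, map_add])] }
  have hf : ∀ a s, f (a • s) = i.app U a • f s := fun a s => by
    show L (w (a • s)) = a • L (w s)
    rw [← map_smul, show w (a • s) = a • w s from hμinj (by rw [map_smul, hw, hw, idealSect_smul, smul_eq_mul])]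
  obtain ⟨F, hF⟩ := exists_linearMap i h.chart f hf
  haveI : Coh.IsQCoh (Omega.conormal i') := isQCoh_conormal i'
  have key : F.toAddMonoidHom.comp (φ.app (i ⁻¹ᵁ U)).hom = AddMonoidHom.id P := by
    refine ext_of_pullSectLE (g := gZ) (H := Omega.conormal i') h.chart'.preimage h.chart.preimage h.le' _ _ fun a c => ?_
    obtain ⟨s', rfl⟩ := conormalSect_surjective i' h.chart' c
    show F (φ.app (i ⁻¹ᵁ U) (a • _)) = a • pullSectLE gZ _ _ _ h.le' (OmegaSh.conormalSect i' U' s')
    rw [Scheme.Modules.Hom.app_smul, IsConormalMap.app_class i i' g gZ hφ U' U h.le h.le' s' (σ s') (hσ s'),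
      map_smul, hF]
    congr 1
    show L (w (σ s')) = c'' s'
    rw [show w (σ s') = 1 ⊗ₜ s' from hμinj (by rw [hw, hσ]; exact (LinearMap.liftBaseChange_one_tmul _ σ' s').symm)]
    exact LinearMap.liftBaseChange_one_tmul _ c'' s'
  intro x y hxy
  have := congrArg F hxy
  exact ((DFunLike.congr_fun key x).symm.trans this).trans (DFunLike.congr_fun key y)

/-- The conormal map of a cartesian square is onto, and bijective for a flat base change. -/
theorem epi_isIso_of_isPullback [IsImmersion i] [IsImmersion i'] [QuasiCompact i] [QuasiCompact i']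
    (hsq : IsPullback i gZ g i') (hφ : OmegaSh.IsConormalMap i i' g gZ φ) :
    Epi φ ∧ (Flat g → IsIso φ) := by
  have hB := isBasisFam_chartPairs i i' g gZ hsq.w.symm
  have hJ : ∀ U' U (h : IsChartPair i i' g gZ U' U), RingHom.ker (i.app U).hom =
      (RingHom.ker (i'.app U').hom).map (g.appLE U' U h.le).hom := fun U' U h =>
    (KoszulLib.ker_app_of_isPullback hsq.flip ⟨U', h.chart'.affine⟩ h.chart'.closed ⟨U, h.chart.affine⟩ h.le).2
  refine ⟨epi_of_basis φ hB ?_, fun hg => isIso_of_basis φ hB ?_⟩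
  · rintro _ ⟨U', U, h, rfl⟩
    exact h.app_surjective hφ (hJ U' U h)
  · rintro _ ⟨U', U, h, rfl⟩
    refine ⟨h.app_injective hφ ?_ (hJ U' U h), h.app_surjective hφ (hJ U' U h)⟩
    exact HasRingHomProperty.appLE @Flat g hg ⟨U', h.chart'.affine⟩ ⟨U, h.chart.affine⟩ h.le

end Groth.Agent.Conormal
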