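import Mathlib.Algebra.Homology.Double
import Mathlib.Algebra.Homology.Homotopy
import Mathlib.Algebra.Homology.QuasiIso

/-!
# Homotopies and isomorphisms between two-term cochain complexes
-/

open CategoryTheory CategoryTheory.Limits

set_option backward.isDefEq.respectTransparency false
set_option linter.style.haveILetI false

noncomputable section

namespace Groth.Agent.DoubleHtpy

open HomologicalComplex

variable {V : Type*} [Category* V] [Preadditive V] [HasZeroObject V]
  {X₀ X₁ : V} {f : X₀ ⟶ X₁} {Y₀ Y₁ : V} {f' : Y₀ ⟶ Y₁}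
  {hr : (ComplexShape.up ℤ).Rel (-1) 0}

/-- A homotopy from a diagonal map. -/
def homotopy (φ ψ : double f hr ⟶ double f' hr) (k : X₁ ⟶ Y₀)
    (h₀ : φ.f (-1) - ψ.f (-1) =
      (double f hr).d (-1) 0 ≫ (doubleXIso₁ f hr (by decide)).hom ≫ k ≫ (doubleXIso₀ f' hr).inv)
    (h₁ : φ.f 0 - ψ.f 0 =
      (doubleXIso₁ f hr (by decide)).hom ≫ k ≫ (doubleXIso₀ f' hr).inv ≫ (double f' hr).d (-1) 0) :
    Homotopy φ ψ :=
  Homotopy.equivSubZero.invFun ((Homotopy.ofEq (by
    have r2 : (ComplexShape.up ℤ).Rel (-2) (-1) := by simp
    have r1 : (ComplexShape.up ℤ).Rel 0 1 := by simp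
    apply from_double_hom_ext
    · rw [sub_f_apply, h₀, Homotopy.nullHomotopicMap'_f r2 hr]
      simp only [dif_pos, eqToHom_refl, Category.id_comp, Category.comp_id]
      rw [dif_neg (by decide : ¬(-1 : ℤ) = 0), zero_comp, add_zero]
    · rw [sub_f_apply, h₁, Homotopy.nullHomotopicMap'_f hr r1]
      rw [double_d_eq_zero₀ f hr 0 1 (by decide), zero_comp, zero_add]
      simp only [dif_pos, eqToHom_refl, Category.id_comp, Category.comp_id, Category.assoc])).trans
    (Homotopy.nullHomotopy' fun i j hji =>
      if hi : i = 0 then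
        eqToHom (by rw [hi]) ≫ (doubleXIso₁ f hr (neg_ne_zero.mpr one_ne_zero)).hom ≫ k ≫ (doubleXIso₀ f' hr).inv ≫
          eqToHom (by
            have : j = -1 := by simp at hji; omega
            rw [this])
      else 0))

omit [Preadditive V] in
/-- A map of two-term complexes with bijective components is an isomorphism. -/
theorem isIso_of_components [HasZeroMorphisms V] (φ : double f hr ⟶ double f' hr)
    (h₀ : IsIso (φ.f (-1))) (h₁ : IsIso (φ.f 0)) : IsIso φ := by
  have (k : ℤ) : IsIso (φ.f k) := by
    by_cases h : k = -1 ∨ k = 0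
    · obtain rfl | rfl := h <;> assumption
    · simp only [not_or] at h
      exact isIso_of_isInitial (isZero_double_X f hr k h.1 h.2).isInitial
        (isZero_double_X f' hr k h.1 h.2).isInitial _
  exact HomologicalComplex.Hom.isIso_of_components φ

end Groth.Agent.DoubleHtpy

namespace HomotopyEquiv

variable {ι : Type*} {V : Type*} [Category* V] [Preadditive V] {c : ComplexShape ι} {C D : HomologicalComplex V c}

/-- Replace the forward map of a homotopy equivalence by a homotopic one. -/
def grothReplaceHom (e : HomotopyEquiv C D) (φ : C ⟶ D) (H : Homotopy e.hom φ) : HomotopyEquiv C D where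
  hom := φ
  inv := e.inv
  homotopyHomInvId := (H.symm.compRight e.inv).trans e.homotopyHomInvId
  homotopyInvHomId := (H.symm.compLeft e.inv).trans e.homotopyInvHomId

end HomotopyEquiv
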