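import Groth.Agent.Conormal.H1Ring
import Groth.Agent.Conormal.Basic
import Groth.Agent.QC.Localisation
import Groth.Prelude.Def_SheafNL
import Mathlib.AlgebraicGeometry.Morphisms.FormallyUnramified

/-!
# The conormal sheaf of an immersion is the first cohomology sheaf of the naive cotangent complex
-/

universe u

open CategoryTheory CategoryTheory.Limits AlgebraicGeometry TopologicalSpace Opposite TensorProduct

set_option backward.isDefEq.respectTransparency false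
set_option linter.style.haveILetI false

noncomputable section

namespace Groth.Agent.Conormal

open Groth.Agent.QC Groth.Agent.ModDesc

variable {Z X : Scheme.{u}} {i : Z ⟶ X}

section ChartRes

variable {U U' U'' : Z.affineOpens} {V V' V'' : X.affineOpens}

lemma chartRes_smul (e : U.1 ≤ i ⁻¹ᵁ V.1) (e' : U'.1 ≤ i ⁻¹ᵁ V'.1) (hU : U'.1 ≤ U.1) (hV : V'.1 ≤ V.1)
    (a : Γ(Z, U.1)) (x : NLCx.ChartH1 i U V e) :
    NLCx.chartRes e e' hU hV (a • x) = resO Z hU a • NLCx.chartRes e e' hU hV x := by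
  letI := (i.appLE V.1 U.1 e).hom.toAlgebra
  letI := (i.appLE V'.1 U'.1 e').hom.toAlgebra
  letI := (i.appLE V.1 U'.1 (hU.trans e)).hom.toAlgebra
  letI := (Z.presheaf.map (homOfLE hU).op).hom.toAlgebra
  letI := (X.presheaf.map (homOfLE hV).op).hom.toAlgebra
  haveI : IsScalarTower Γ(X, V.1) Γ(X, V'.1) Γ(Z, U'.1) := IsScalarTower.of_algebraMap_eq' (by
      change (i.appLE _ _ _).hom = (i.appLE _ _ _).hom.comp (X.presheaf.map _).hom
      rw [← CommRingCat.hom_comp, Scheme.Hom.map_appLE])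
  haveI : IsScalarTower Γ(X, V.1) Γ(Z, U.1) Γ(Z, U'.1) := IsScalarTower.of_algebraMap_eq' (by
      change (i.appLE _ _ _).hom = (Z.presheaf.map _).hom.comp (i.appLE _ _ _).hom
      rw [← CommRingCat.hom_comp, Scheme.Hom.appLE_map])
  exact ((Algebra.H1Cotangent.map Γ(X, V.1) Γ(X, V'.1) Γ(Z, U.1) Γ(Z, U'.1)).map_smul a x).trans
    (algebraMap_smul Γ(Z, U'.1) a _).symm

lemma chartRes_chartRes (e : U.1 ≤ i ⁻¹ᵁ V.1) (e' : U'.1 ≤ i ⁻¹ᵁ V'.1) (e'' : U''.1 ≤ i ⁻¹ᵁ V''.1)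
    (hU : U'.1 ≤ U.1) (hV : V'.1 ≤ V.1) (hU' : U''.1 ≤ U'.1) (hV' : V''.1 ≤ V'.1)
    (x : NLCx.ChartH1 i U V e) :
    NLCx.chartRes e' e'' hU' hV' (NLCx.chartRes e e' hU hV x) =
      NLCx.chartRes e e'' (hU'.trans hU) (hV'.trans hV) x := by
  letI := (i.appLE V.1 U.1 e).hom.toAlgebra
  letI := (i.appLE V'.1 U'.1 e').hom.toAlgebra
  letI := (i.appLE V''.1 U''.1 e'').hom.toAlgebra
  letI := (i.appLE V.1 U'.1 (hU.trans e)).hom.toAlgebra
  letI := (i.appLE V.1 U''.1 ((hU'.trans hU).trans e)).hom.toAlgebra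
  letI := (i.appLE V'.1 U''.1 (hU'.trans e')).hom.toAlgebra
  letI := (Z.presheaf.map (homOfLE hU).op).hom.toAlgebra
  letI := (Z.presheaf.map (homOfLE hU').op).hom.toAlgebra
  letI := (Z.presheaf.map (homOfLE (hU'.trans hU)).op).hom.toAlgebra
  letI := (X.presheaf.map (homOfLE hV).op).hom.toAlgebra
  letI := (X.presheaf.map (homOfLE hV').op).hom.toAlgebra
  letI := (X.presheaf.map (homOfLE (hV'.trans hV)).op).hom.toAlgebra
  have t₁ : ∀ {W W' : X.Opens} {O : Z.Opens} (h : W' ≤ W) (h' : O ≤ i ⁻¹ᵁ W'),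
      (i.appLE W O (h'.trans (i.preimage_mono h))).hom =
        (i.appLE W' O h').hom.comp (X.presheaf.map (homOfLE h).op).hom := fun h h' => by
    rw [← CommRingCat.hom_comp, Scheme.Hom.map_appLE]
  have t₂ : ∀ {W : X.Opens} {O O' : Z.Opens} (h : O' ≤ O) (h' : O ≤ i ⁻¹ᵁ W),
      (i.appLE W O' (h.trans h')).hom = (Z.presheaf.map (homOfLE h).op).hom.comp (i.appLE W O h').hom :=
    fun h h' => by rw [← CommRingCat.hom_comp, Scheme.Hom.appLE_map]
  haveI : IsScalarTower Γ(X, V.1) Γ(X, V'.1) Γ(Z, U'.1) := IsScalarTower.of_algebraMap_eq' (t₁ hV e')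
  haveI : IsScalarTower Γ(X, V.1) Γ(Z, U.1) Γ(Z, U'.1) := IsScalarTower.of_algebraMap_eq' (t₂ hU e)
  haveI : IsScalarTower Γ(X, V'.1) Γ(X, V''.1) Γ(Z, U''.1) := IsScalarTower.of_algebraMap_eq' (t₁ hV' e'')
  haveI : IsScalarTower Γ(X, V'.1) Γ(Z, U'.1) Γ(Z, U''.1) := IsScalarTower.of_algebraMap_eq' (t₂ hU' e')
  haveI : IsScalarTower Γ(X, V.1) Γ(X, V''.1) Γ(Z, U''.1) :=
    IsScalarTower.of_algebraMap_eq' (t₁ (hV'.trans hV) e'')
  haveI : IsScalarTower Γ(X, V.1) Γ(Z, U.1) Γ(Z, U''.1) :=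
    IsScalarTower.of_algebraMap_eq' (t₂ (hU'.trans hU) e)
  haveI : IsScalarTower Γ(X, V.1) Γ(X, V'.1) Γ(X, V''.1) :=
    IsScalarTower.of_algebraMap_eq fun a => (resO_resO hV' hV a).symm
  haveI : IsScalarTower Γ(Z, U.1) Γ(Z, U'.1) Γ(Z, U''.1) :=
    IsScalarTower.of_algebraMap_eq fun a => (resO_resO hU' hU a).symm
  exact map_map x

lemma isLocalizedModule_chartRes (e : U.1 ≤ i ⁻¹ᵁ V.1) (a : Γ(X, V.1)) (e' : U'.1 ≤ i ⁻¹ᵁ V'.1)
    (hU : U'.1 ≤ U.1) (hV : V'.1 ≤ V.1) (hV' : V'.1 = X.basicOpen a)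
    (hU' : U'.1 = Z.basicOpen (i.appLE V.1 U.1 e a)) :
    (∀ x : NLCx.ChartH1 i U V e, NLCx.chartRes e e' hU hV x = 0 →
      ∃ n : ℕ, i.appLE V.1 U.1 e a ^ n • x = 0) ∧
    ∀ y : NLCx.ChartH1 i U' V' e', ∃ (n : ℕ) (x : NLCx.ChartH1 i U V e),
      resO Z hU (i.appLE V.1 U.1 e a ^ n) • y = NLCx.chartRes e e' hU hV x := by
  letI := (i.appLE V.1 U.1 e).hom.toAlgebra
  letI := (i.appLE V'.1 U'.1 e').hom.toAlgebra
  letI := (i.appLE V.1 U'.1 (hU.trans e)).hom.toAlgebra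
  letI := (Z.presheaf.map (homOfLE hU).op).hom.toAlgebra
  letI := (X.presheaf.map (homOfLE hV).op).hom.toAlgebra
  haveI : IsScalarTower Γ(X, V.1) Γ(X, V'.1) Γ(Z, U'.1) := IsScalarTower.of_algebraMap_eq' (by
      change (i.appLE _ _ _).hom = (i.appLE _ _ _).hom.comp (X.presheaf.map _).hom
      rw [← CommRingCat.hom_comp, Scheme.Hom.map_appLE])
  haveI : IsScalarTower Γ(X, V.1) Γ(Z, U.1) Γ(Z, U'.1) := IsScalarTower.of_algebraMap_eq' (by
      change (i.appLE _ _ _).hom = (Z.presheaf.map _).hom.comp (i.appLE _ _ _).hom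
      rw [← CommRingCat.hom_comp, Scheme.Hom.appLE_map])
  haveI : IsLocalization.Away a Γ(X, V'.1) := V.2.isLocalization_of_eq_basicOpen a (homOfLE hV) hV'
  haveI : IsLocalization.Away (i.appLE V.1 U.1 e a) Γ(Z, U'.1) :=
    U.2.isLocalization_of_eq_basicOpen _ (homOfLE hU) hU'
  haveI : Algebra.FormallyEtale Γ(X, V.1) Γ(X, V'.1) := .of_isLocalization (Submonoid.powers a)
  haveI hloc := isLocalizedModule_map Γ(X, V.1) Γ(X, V'.1) Γ(Z, U.1) Γ(Z, U'.1)
    (Submonoid.powers (i.appLE V.1 U.1 e a))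
  refine ⟨fun x hx => ?_, fun y => ?_⟩
  · obtain ⟨⟨_, n, rfl⟩, hn⟩ := (IsLocalizedModule.eq_zero_iff
      (Submonoid.powers (i.appLE V.1 U.1 e a))
      (Algebra.H1Cotangent.map Γ(X, V.1) Γ(X, V'.1) Γ(Z, U.1) Γ(Z, U'.1))).mp hx
    exact ⟨n, hn⟩
  · obtain ⟨⟨x, ⟨_, n, rfl⟩⟩, hn⟩ := IsLocalizedModule.surj (Submonoid.powers (i.appLE V.1 U.1 e a))
      (Algebra.H1Cotangent.map Γ(X, V.1) Γ(X, V'.1) Γ(Z, U.1) Γ(Z, U'.1)) y
    exact ⟨n, x, (algebraMap_smul Γ(Z, U'.1) (i.appLE V.1 U.1 e a ^ n) y).trans hn⟩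

end ChartRes

/-! ### Charts -/

variable [QuasiCompact i] {W W' : X.Opens}

/-- The affine open of a chart in the target. -/
abbrev IsChart.aff (hW : IsChart i W) : X.affineOpens := ⟨W, hW.affine⟩

/-- The affine open of a chart in the source. -/
abbrev IsChart.pre (hW : IsChart i W) : Z.affineOpens := ⟨i ⁻¹ᵁ W, hW.preimage⟩

/-- `H¹` of a chart. -/
abbrev ChartCoh (hW : IsChart i W) : Type u := NLCx.ChartH1 i hW.pre hW.aff le_rfl

lemma appLE_idealSect (W : X.Opens) (s : Γ(ClSub.idealMod i.ker, W)) :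
    i.appLE W (i ⁻¹ᵁ W) le_rfl (OmegaSh.idealSect i.ker W s) = 0 := by
  rw [← Scheme.Hom.app_eq_appLE]
  exact app_idealSect i W s

/-- The class of a section of the ideal. -/
def chartClass (hW : IsChart i W) : Γ(ClSub.idealMod i.ker, W) →+ ChartCoh hW :=
  letI := (i.appLE W (i ⁻¹ᵁ W) le_rfl).hom.toAlgebra
  AddMonoidHom.mk' (fun s => kerClass (A := Γ(X, W)) (B := Γ(Z, i ⁻¹ᵁ W))
      ⟨OmegaSh.idealSect i.ker W s, appLE_idealSect W s⟩)
    fun s t => by
      rw [← map_add]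
      exact congrArg _ (Subtype.ext (map_add _ s t))

lemma chartClass_smul (hW : IsChart i W) (a : Γ(X, W)) (s : Γ(ClSub.idealMod i.ker, W)) :
    chartClass hW (a • s) = i.app W a • chartClass hW s := by
  letI := (i.appLE W (i ⁻¹ᵁ W) le_rfl).hom.toAlgebra
  have h := kerClass_smul (A := Γ(X, W)) (B := Γ(Z, i ⁻¹ᵁ W)) a
    ⟨OmegaSh.idealSect i.ker W s, appLE_idealSect W s⟩
  rw [show algebraMap Γ(X, W) Γ(Z, i ⁻¹ᵁ W) a = i.app W a from by
    rw [Scheme.Hom.app_eq_appLE]; rfl] at h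
  refine Eq.trans ?_ h
  exact congrArg kerClass (Subtype.ext (idealSect_smul i.ker W a s))

lemma chartRes_chartClass (hW : IsChart i W) (hW' : IsChart i W') (h : W' ≤ W)
    (s : Γ(ClSub.idealMod i.ker, W)) :
    NLCx.chartRes (U := hW.pre) (U' := hW'.pre) (V := hW.aff) (V' := hW'.aff) le_rfl le_rfl
        (i.preimage_mono h) h (chartClass hW s) =
      chartClass hW' (res (ClSub.idealMod i.ker) h s) := by
  letI := (i.appLE W (i ⁻¹ᵁ W) le_rfl).hom.toAlgebra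
  letI := (i.appLE W' (i ⁻¹ᵁ W') le_rfl).hom.toAlgebra
  letI := (i.appLE W (i ⁻¹ᵁ W') ((i.preimage_mono h).trans le_rfl)).hom.toAlgebra
  letI := (Z.presheaf.map (homOfLE (i.preimage_mono h)).op).hom.toAlgebra
  letI := (X.presheaf.map (homOfLE h).op).hom.toAlgebra
  haveI : IsScalarTower Γ(X, W) Γ(X, W') Γ(Z, i ⁻¹ᵁ W') := IsScalarTower.of_algebraMap_eq' (by
      change (i.appLE _ _ _).hom = (i.appLE _ _ _).hom.comp (X.presheaf.map _).hom
      rw [← CommRingCat.hom_comp, Scheme.Hom.map_appLE])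
  haveI : IsScalarTower Γ(X, W) Γ(Z, i ⁻¹ᵁ W) Γ(Z, i ⁻¹ᵁ W') := IsScalarTower.of_algebraMap_eq' (by
      change (i.appLE _ _ _).hom = (Z.presheaf.map _).hom.comp (i.appLE _ _ _).hom
      rw [← CommRingCat.hom_comp, Scheme.Hom.appLE_map])
  exact map_kerClass (A := Γ(X, W)) (A' := Γ(X, W')) (B := Γ(Z, i ⁻¹ᵁ W)) (B' := Γ(Z, i ⁻¹ᵁ W')) _ _
    (idealSect_res i.ker h s).symm

theorem exists_chartEquiv (hW : IsChart i W) :
    ∃ E : Γ(Omega.conormal i, i ⁻¹ᵁ W) ≃ₗ[Γ(Z, i ⁻¹ᵁ W)] ChartCoh hW,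
      ∀ s, E (OmegaSh.conormalSect i W s) = chartClass hW s := by
  letI := (i.appLE W (i ⁻¹ᵁ W) le_rfl).hom.toAlgebra
  have halg : algebraMap Γ(X, W) Γ(Z, i ⁻¹ᵁ W) = (i.app W).hom := by
    rw [RingHom.algebraMap_toAlgebra, Scheme.Hom.app_eq_appLE]
  have hsurj : Function.Surjective (algebraMap Γ(X, W) Γ(Z, i ⁻¹ᵁ W)) := by
    rw [halg]; exact hW.surjective
  obtain ⟨hs, hz⟩ := kerClass_surjective_and_eq_zero_iff hsurj
  obtain ⟨F, hF⟩ := exists_linearMap i hW (chartClass hW) (chartClass_smul hW)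
  refine ⟨LinearEquiv.ofBijective F ⟨?_, fun y => ?_⟩, hF⟩
  · refine (injective_iff_map_eq_zero F).mpr fun m hm => ?_
    obtain ⟨s, rfl⟩ := conormalSect_surjective i hW m
    rw [hF] at hm
    have h : OmegaSh.idealSect i.ker W s ∈ RingHom.ker (algebraMap Γ(X, W) Γ(Z, i ⁻¹ᵁ W)) ^ 2 := (hz _).mp hm
    rw [halg] at h
    exact (conormalSect_eq_zero_iff i hW s).mpr h
  · obtain ⟨a, rfl⟩ := hs y
    obtain ⟨s, hsa⟩ := exists_idealSect i W a.1 ((DFunLike.congr_fun halg a.1).symm.trans a.2)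
    exact ⟨OmegaSh.conormalSect i W s, (hF s).trans (congrArg kerClass (Subtype.ext hsa))⟩

/-- Sections over a chart as `H¹`. -/
def chartEquiv (hW : IsChart i W) : Γ(Omega.conormal i, i ⁻¹ᵁ W) ≃ₗ[Γ(Z, i ⁻¹ᵁ W)] ChartCoh hW :=
  (exists_chartEquiv hW).choose

lemma chartEquiv_res (hW : IsChart i W) (hW' : IsChart i W') (h : W' ≤ W)
    (m : Γ(Omega.conormal i, i ⁻¹ᵁ W)) :
    chartEquiv hW' (res (Omega.conormal i) (i.preimage_mono h) m) =
      NLCx.chartRes (U := hW.pre) (U' := hW'.pre) (V := hW.aff) (V' := hW'.aff) le_rfl le_rfl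
        (i.preimage_mono h) h (chartEquiv hW m) := by
  obtain ⟨s, rfl⟩ := conormalSect_surjective i hW m
  rw [res_conormalSect, chartEquiv, chartEquiv, (exists_chartEquiv hW').choose_spec,
    (exists_chartEquiv hW).choose_spec, chartRes_chartClass hW hW' h]

/-! ### Arbitrary pairs -/

variable [IsImmersion i] {U U' : Z.affineOpens} {V V' : X.affineOpens}

/-- A section realises a class. -/
def Realises (e : U.1 ≤ i ⁻¹ᵁ V.1) (ξ : NLCx.ChartH1 i U V e) (m : Γ(Omega.conormal i, U.1)) : Prop :=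
  ∀ (W : X.Opens) (hW : IsChart i W) (h₁ : W ≤ V.1) (h₂ : i ⁻¹ᵁ W ≤ U.1),
    chartEquiv hW (res (Omega.conormal i) h₂ m) =
      NLCx.chartRes (U' := hW.pre) (V' := hW.aff) e le_rfl h₂ h₁ ξ

variable (e : U.1 ≤ i ⁻¹ᵁ V.1)

lemma Realises.unique {ξ : NLCx.ChartH1 i U V e} {m m' : Γ(Omega.conormal i, U.1)}
    (h : Realises e ξ m) (h' : Realises e ξ m') : m = m' := by
  refine section_eq_of_locally fun z hz => ?_
  obtain ⟨W, hW, hzW, hWV, hWU⟩ := exists_chart_le i z U.1 hz V.1 (e hz)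
  exact ⟨i ⁻¹ᵁ W, hWU, hzW, (chartEquiv hW).injective ((h W hW hWV hWU).trans (h' W hW hWV hWU).symm)⟩

lemma exists_realises (ξ : NLCx.ChartH1 i U V e) : ∃ m, Realises e ξ m := by
  let ι := {W : X.Opens // IsChart i W ∧ W ≤ V.1 ∧ i ⁻¹ᵁ W ≤ U.1}
  let s : ∀ W : ι, Γ(Omega.conormal i, i ⁻¹ᵁ W.1) := fun W =>
    (chartEquiv W.2.1).symm (NLCx.chartRes (U' := W.2.1.pre) (V' := W.2.1.aff) e le_rfl W.2.2.2 W.2.2.1 ξ)
  obtain ⟨m, hm, -⟩ := TopCat.Sheaf.existsUnique_gluing' (abSheaf (Omega.conormal i))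
    (fun W : ι => i ⁻¹ᵁ W.1) U.1 (fun W => homOfLE W.2.2.2)
    (fun z hz => by
      obtain ⟨W, hW, hzW, hWV, hWU⟩ := exists_chart_le i z U.1 hz V.1 (e hz)
      exact Opens.mem_iSup.mpr ⟨⟨W, hW, hWV, hWU⟩, hzW⟩)
    s (fun W₁ W₂ => by
      change res (Omega.conormal i) inf_le_left (s W₁) = res (Omega.conormal i) inf_le_right (s W₂)
      refine section_eq_of_locally fun z hz => ?_
      obtain ⟨W, hW, hzW, hWle, -⟩ := exists_chart_le i z ⊤ trivial (W₁.1 ⊓ W₂.1) hz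
      have hle : i ⁻¹ᵁ W ≤ i ⁻¹ᵁ W₁.1 ⊓ i ⁻¹ᵁ W₂.1 := fun y hy => hWle hy
      refine ⟨i ⁻¹ᵁ W, hle, hzW, (chartEquiv hW).injective ?_⟩
      rw [res_res, res_res, chartEquiv_res W₁.2.1 hW (hWle.trans inf_le_left),
        chartEquiv_res W₂.2.1 hW (hWle.trans inf_le_right)]
      simp only [s, LinearEquiv.apply_symm_apply]
      rw [chartRes_chartRes, chartRes_chartRes])
  exact ⟨m, fun W hW h₁ h₂ => (congrArg (chartEquiv hW) (hm ⟨W, hW, h₁, h₂⟩)).trans
    ((chartEquiv hW).apply_symm_apply _)⟩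

lemma Realises.res {ξ : NLCx.ChartH1 i U V e} {m : Γ(Omega.conormal i, U.1)} (h : Realises e ξ m)
    (e' : U'.1 ≤ i ⁻¹ᵁ V'.1) (hU : U'.1 ≤ U.1) (hV : V'.1 ≤ V.1) :
    Realises e' (NLCx.chartRes e e' hU hV ξ) (QC.res (Omega.conormal i) hU m) := fun W hW h₁ h₂ => by
  rw [res_res, chartRes_chartRes]
  exact h W hW (h₁.trans hV) (h₂.trans hU)

/-- The map from `H¹` to sections. -/
def toSect : NLCx.ChartH1 i U V e →ₗ[Γ(Z, U.1)] Γ(Omega.conormal i, U.1) where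
  toFun ξ := (exists_realises e ξ).choose
  map_add' ξ η := Realises.unique e (exists_realises e _).choose_spec fun W hW h₁ h₂ => by
    rw [map_add, map_add, (exists_realises e ξ).choose_spec W hW h₁ h₂,
      (exists_realises e η).choose_spec W hW h₁ h₂, map_add]
  map_smul' a ξ := Realises.unique e (exists_realises e _).choose_spec fun W hW h₁ h₂ => by
    simp only [RingHom.id_apply]
    rw [res_smul, map_smul, (exists_realises e ξ).choose_spec W hW h₁ h₂, chartRes_smul]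

lemma realises_toSect (ξ : NLCx.ChartH1 i U V e) : Realises e ξ (toSect e ξ) :=
  (exists_realises e ξ).choose_spec

theorem toSect_bijective : Function.Bijective (toSect e) := by
  haveI hq : Coh.IsQCoh (Omega.conormal i) := isQCoh_conormal i
  let T : Set Γ(X, V.1) := {a | IsChart i (X.basicOpen a) ∧ i ⁻¹ᵁ X.basicOpen a ≤ U.1}
  let b : T → Γ(Z, U.1) := fun a => i.appLE V.1 U.1 e a.1
  have hD : ∀ a : T, i ⁻¹ᵁ X.basicOpen a.1 = Z.basicOpen (b a) := fun a => by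
    rw [Scheme.basicOpen_appLE]
    exact (inf_eq_right.mpr a.2.2).symm
  have hspan : Ideal.span (Set.range b) = ⊤ := by
    rw [← U.2.iSup_basicOpen_eq_self_iff]
    refine le_antisymm (iSup_le fun r => Z.basicOpen_le _) fun z hz => ?_
    obtain ⟨W, hW, hzW, hWV, hWU⟩ := exists_chart_le i z U.1 hz V.1 (e hz)
    obtain ⟨a, ha, hza⟩ := V.2.exists_basicOpen_le ⟨i z, hzW⟩ (hWV hzW)
    have haT : a ∈ T := ⟨hW.of_le (V.2.basicOpen a) ha, (i.preimage_mono ha).trans hWU⟩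
    refine Opens.mem_iSup.mpr ⟨⟨b ⟨a, haT⟩, ⟨a, haT⟩, rfl⟩, ?_⟩
    show z ∈ Z.basicOpen (b ⟨a, haT⟩)
    rw [← hD]
    exact hza
  have hloc := fun a : T => isLocalizedModule_chartRes (U' := a.2.1.pre) (V' := a.2.1.aff) e a.1 le_rfl
    a.2.2 (X.basicOpen_le a.1) rfl (hD a)
  constructor
  · refine (injective_iff_map_eq_zero _).mpr fun ξ hξ => ?_
    refine (Submodule.mem_bot Γ(Z, U.1)).mp
      (Submodule.mem_of_span_eq_top_of_smul_pow_mem ⊥ (Set.range b) hspan ξ ?_)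
    rintro ⟨_, a, rfl⟩
    have h := realises_toSect e ξ _ a.2.1 (X.basicOpen_le a.1) a.2.2
    rw [hξ, map_zero, map_zero] at h
    obtain ⟨n, hn⟩ := (hloc a).1 ξ h.symm
    exact ⟨n, hn⟩
  · intro m
    refine Submodule.mem_of_span_eq_top_of_smul_pow_mem (LinearMap.range (toSect e)) (Set.range b) hspan m ?_
    rintro ⟨_, a, rfl⟩
    obtain ⟨n, η, hη⟩ := (hloc a).2 (chartEquiv a.2.1 (res (Omega.conormal i) a.2.2 m))
    have h := realises_toSect e η _ a.2.1 (X.basicOpen_le a.1) a.2.2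
    rw [← hη, ← map_smul, ← res_smul] at h
    have h0 : res (Omega.conormal i) (Z.basicOpen_le (b a)) (toSect e η - b a ^ n • m) = 0 := by
      rw [map_sub, ← res_res (Omega.conormal i) (hD a).ge a.2.2,
        ← res_res (Omega.conormal i) (hD a).ge a.2.2, (chartEquiv a.2.1).injective h, sub_self]
    obtain ⟨k, hk⟩ := (isLoc_of_isQCoh U.2 (hM := hq)).exists_pow_smul_eq_zero (b a) _ h0
    refine ⟨k + n, b a ^ k • η, ?_⟩
    rw [map_smul, pow_add, mul_smul]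
    exact sub_eq_zero.mp ((smul_sub _ _ _).symm.trans hk)

/-- Sections of the conormal sheaf as `H¹`. -/
def sectEquiv : Γ(Omega.conormal i, U.1) ≃ₗ[Γ(Z, U.1)] NLCx.ChartH1 i U V e :=
  (LinearEquiv.ofBijective (toSect e) (toSect_bijective e)).symm

lemma realises_sectEquiv (m : Γ(Omega.conormal i, U.1)) : Realises e (sectEquiv e m) m := by
  have h := realises_toSect e (sectEquiv e m)
  have hm : toSect e (sectEquiv e m) = m :=
    (LinearEquiv.ofBijective (toSect e) (toSect_bijective e)).apply_symm_apply m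
  rwa [hm] at h

variable (i) in
/-- The conormal sheaf carries the data of the first cohomology sheaf. -/
def h1Sheaf : NLCx.H1Sheaf i (Omega.conormal i) where
  iso U V e := (sectEquiv (i := i) (U := U) (V := V) e).toAddEquiv
  map_smul U V e a m := (sectEquiv (i := i) (U := U) (V := V) e).map_smul a m
  map_res {U U' V V'} e e' hU hV m := by
    have h := Realises.res e (realises_sectEquiv e m) e' hU hV
    refine (LinearEquiv.ofBijective (toSect e') (toSect_bijective e')).injective ?_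
    refine ((LinearEquiv.ofBijective (toSect e') (toSect_bijective e')).apply_symm_apply _).trans ?_
    exact Realises.unique e' h (realises_toSect e' _)

variable (i) in
/-- The differentials of an immersion vanish on every pair of charts. -/
theorem onCharts_omega : NLCx.OnCharts i (fun A B _ _ _ => Subsingleton (Ω[B⁄A])) := by
  intro U V e
  letI := (i.appLE V.1 U.1 e).hom.toAlgebra
  haveI : FormallyUnramified i := inferInstance
  haveI : Algebra.FormallyUnramified Γ(X, V.1) Γ(Z, U.1) :=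
    HasRingHomProperty.appLE @FormallyUnramified i inferInstance V U e
  exact inferInstance

end Groth.Agent.Conormal
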