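import Mathlib.RingTheory.Etale.Kaehler
import Mathlib.RingTheory.Kaehler.JacobiZariski
import Mathlib.RingTheory.Extension.Cotangent.Basic
import Mathlib.RingTheory.Smooth.Basic

/-!
# The first cohomology of the naive cotangent complex of a closed immersion
-/

universe u

open TensorProduct

set_option backward.isDefEq.respectTransparency false
set_option linter.style.haveILetI false

noncomputable section

namespace Groth.Agent.Conormal

open Algebra MvPolynomial

section Class

variable {A B : Type u} [CommRing A] [CommRing B] [Algebra A B]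

lemma C_mem_ker (a : RingHom.ker (algebraMap A B)) :
    MvPolynomial.C a.1 ∈ (Generators.self A B).toExtension.ker := by
  show algebraMap (Generators.self A B).toExtension.Ring B (MvPolynomial.C a.1) = 0
  exact ((aeval_C _ _).trans a.2)

/-- The class in `H¹` of an element of the kernel. -/
def kerClass : RingHom.ker (algebraMap A B) →+ H1Cotangent A B :=
  AddMonoidHom.mk'
    (fun a => ⟨Extension.Cotangent.mk ⟨MvPolynomial.C a.1, C_mem_ker a⟩,
      Extension.Cotangent.mk_C_mem_ker_cotangentComplex _ (C_mem_ker a)⟩)
    fun a b => by
      refine Extension.h1Cotangentι_ext _ _ ?_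
      show Extension.Cotangent.mk _ = Extension.Cotangent.mk _ + Extension.Cotangent.mk _
      rw [← map_add]
      exact congrArg _ (Subtype.ext (map_add MvPolynomial.C a.1 b.1))

lemma kerClass_smul (r : A) (a : RingHom.ker (algebraMap A B)) :
    kerClass (r • a) = algebraMap A B r • kerClass a := by
  refine Extension.h1Cotangentι_ext _ _ ?_
  show Extension.Cotangent.mk _ = algebraMap A B r • Extension.Cotangent.mk _
  have h : algebraMap A B r = algebraMap (Generators.self A B).toExtension.Ring B (MvPolynomial.C r) :=
    (aeval_C _ _).symm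
  rw [h, algebraMap_smul, ← map_smul]
  exact congrArg _ (Subtype.ext (map_mul MvPolynomial.C r a.1))

end Class

/-- Compatibility of classes with maps of the rings. -/
lemma map_kerClass {A B A' B' : Type u} [CommRing A] [CommRing B] [Algebra A B] [CommRing A'] [CommRing B']
    [Algebra A' B'] [Algebra A A'] [Algebra B B'] [Algebra A B'] [IsScalarTower A A' B'] [IsScalarTower A B B']
    (a : RingHom.ker (algebraMap A B)) (a' : RingHom.ker (algebraMap A' B'))
    (h : algebraMap A A' a.1 = a'.1) :
    H1Cotangent.map A A' B B' (kerClass a) = kerClass a' := by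
  refine Extension.h1Cotangentι_ext _ _ ?_
  show Extension.Cotangent.map _ (Extension.Cotangent.mk _) = Extension.Cotangent.mk _
  rw [Extension.Cotangent.map_mk]
  refine congrArg _ (Subtype.ext ?_)
  show ((Generators.self A B).defaultHom (Generators.self A' B')).toAlgHom (MvPolynomial.C a.1) = _
  rw [← MvPolynomial.algebraMap_eq, AlgHom.commutes, IsScalarTower.algebraMap_apply A A', h]
  rfl

/-- Composition of the maps on `H¹`. -/
lemma map_map {R S R' S' R'' S'' : Type u} [CommRing R] [CommRing S] [Algebra R S] [CommRing R'] [CommRing S']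
    [Algebra R' S'] [CommRing R''] [CommRing S''] [Algebra R'' S''] [Algebra R R'] [Algebra S S'] [Algebra R S']
    [IsScalarTower R R' S'] [IsScalarTower R S S'] [Algebra R' R''] [Algebra S' S''] [Algebra R' S'']
    [IsScalarTower R' R'' S''] [IsScalarTower R' S' S''] [Algebra R R''] [Algebra S S''] [Algebra R S'']
    [IsScalarTower R R'' S''] [IsScalarTower R S S''] [IsScalarTower R R' R''] [IsScalarTower S S' S'']
    (x : H1Cotangent R S) :
    H1Cotangent.map R' R'' S' S'' (H1Cotangent.map R R' S S' x) = H1Cotangent.map R R'' S S'' x := by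
  haveI : IsScalarTower R R' S'' := IsScalarTower.of_algebraMap_eq fun r => by
    rw [IsScalarTower.algebraMap_apply R R'' S'', IsScalarTower.algebraMap_apply R R' R'',
      ← IsScalarTower.algebraMap_apply R' R'' S'']
  rw [H1Cotangent.map, H1Cotangent.map, H1Cotangent.map, ← Extension.H1Cotangent.map_comp_apply,
    Extension.H1Cotangent.map_eq]

section Surjective

variable {A B : Type u} [CommRing A] [CommRing B] [Algebra A B]
  (hsurj : Function.Surjective (algebraMap A B))

include hsurj in
/-- For a surjection every element of `H¹` is a class, and the kernel of the classes is the square. -/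
theorem kerClass_surjective_and_eq_zero_iff :
    Function.Surjective (kerClass (A := A) (B := B)) ∧
      ∀ a : RingHom.ker (algebraMap A B), kerClass a = 0 ↔ a.1 ∈ RingHom.ker (algebraMap A B) ^ 2 := by
  let P₀ : Extension.{u} A B := Extension.ofSurjective (Algebra.ofId A B) hsurj
  haveI : FormallySmooth A P₀.Ring := inferInstanceAs (FormallySmooth A A)
  haveI : FormallyUnramified A P₀.Ring := inferInstanceAs (FormallyUnramified A A)
  haveI : FormallySmooth A (Generators.self A B).toExtension.Ring :=
    inferInstanceAs (FormallySmooth A (MvPolynomial _ _))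
  let f₀ : P₀.Hom (Generators.self A B).toExtension :=
    { toRingHom := MvPolynomial.C
      toRingHom_algebraMap := fun _ => rfl
      algebraMap_toRingHom := fun (x : A) => by
        change algebraMap (Generators.self A B).toExtension.Ring B (MvPolynomial.C x) = algebraMap A B x
        exact aeval_C _ x }
  have hbij : Function.Bijective (Extension.H1Cotangent.map f₀) := by
    rw [← Extension.H1Cotangent.equivOfFormallySmooth_toLinearMap f₀]
    exact LinearEquiv.bijective _
  haveI : Subsingleton P₀.CotangentSpace := inferInstance
  let cls : RingHom.ker (algebraMap A B) → P₀.H1Cotangent := fun a =>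
    ⟨Extension.Cotangent.mk ⟨a.1, a.2⟩, Subsingleton.elim _ _⟩
  have key : ∀ a, Extension.H1Cotangent.map f₀ (cls a) = kerClass a := fun a =>
    Extension.h1Cotangentι_ext _ _ rfl
  refine ⟨fun x => ?_, fun a => ?_⟩
  · obtain ⟨y, rfl⟩ := hbij.2 x
    obtain ⟨a, ha⟩ := Extension.Cotangent.mk_surjective y.1
    refine ⟨⟨a.1, a.2⟩, (key _).symm.trans (congrArg _ ?_)⟩
    exact Extension.h1Cotangentι_ext _ _ ha
  · rw [← key, map_eq_zero_iff _ hbij.1]
    constructor
    · intro h
      have h1 : (Extension.Cotangent.mk (P := P₀) ⟨a.1, a.2⟩).val = 0 := congrArg (fun z => z.1.val) h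
      exact (Ideal.toCotangent_eq_zero _ _).mp h1
    · intro h
      exact Extension.h1Cotangentι_ext _ _ (Extension.Cotangent.ext ((Ideal.toCotangent_eq_zero _ _).mpr h))

end Surjective

/-- Changing the base along a formally étale map does not change `H¹`. -/
theorem bijective_map_of_formallyEtale (R A' B : Type u) [CommRing R] [CommRing A'] [CommRing B] [Algebra R A']
    [Algebra R B] [Algebra A' B] [IsScalarTower R A' B] [FormallyEtale R A'] :
    Function.Bijective (H1Cotangent.map R A' B B) := by
  let q : MvPolynomial B A' →ₐ[A'] B := MvPolynomial.aeval id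
  have hq : Function.Surjective q := fun b => ⟨X b, aeval_X _ b⟩
  let P₀ : Extension.{u} A' B := Extension.ofSurjective q hq
  let P₁ : Extension.{u} R B := Extension.ofSurjective (q.restrictScalars R) hq
  haveI : FormallySmooth A' P₀.Ring := inferInstanceAs (FormallySmooth A' (MvPolynomial B A'))
  haveI : FormallySmooth R P₁.Ring := FormallySmooth.comp R A' (MvPolynomial B A')
  haveI : FormallySmooth A' (Generators.self A' B).toExtension.Ring :=
    inferInstanceAs (FormallySmooth A' (MvPolynomial _ _))
  haveI : FormallySmooth R (Generators.self R B).toExtension.Ring :=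
    inferInstanceAs (FormallySmooth R (MvPolynomial _ _))
  let c : P₁.Hom P₀ :=
    { toRingHom := RingHom.id _
      toRingHom_algebraMap := fun r => IsScalarTower.algebraMap_apply R A' (MvPolynomial B A') r
      algebraMap_toRingHom := fun _ => rfl }
  have hψ : Function.Bijective (KaehlerDifferential.map R A' (MvPolynomial B A') (MvPolynomial B A')) := by
    refine ⟨(injective_iff_map_eq_zero _).mpr fun t ht => ?_, KaehlerDifferential.map_surjective R A' _⟩
    obtain ⟨w, rfl⟩ := (KaehlerDifferential.exact_mapBaseChange_map R A' (MvPolynomial B A') t).mp ht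
    rw [Subsingleton.elim w 0, map_zero]
  letI : Algebra (MvPolynomial B A') B := P₁.algebra₂
  let eψ := LinearEquiv.lTensor B (LinearEquiv.ofBijective _ hψ)
  have hcc : ∀ (a : MvPolynomial B A') (h₁ : a ∈ P₁.ker) (h₀ : a ∈ P₀.ker),
      eψ (P₁.cotangentComplex (Extension.Cotangent.mk ⟨a, h₁⟩)) =
        P₀.cotangentComplex (Extension.Cotangent.mk ⟨a, h₀⟩) := by
    intro a h₁ h₀
    rw [Extension.cotangentComplex_mk, Extension.cotangentComplex_mk]
    exact congrArg ((1 : B) ⊗ₜ[MvPolynomial B A'] ·)
      (KaehlerDifferential.map_D R A' (MvPolynomial B A') (MvPolynomial B A') a)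
  have h₁ : Function.Bijective (Extension.H1Cotangent.map P₁.defaultHom) := by
    rw [← Extension.H1Cotangent.equivOfFormallySmooth_toLinearMap P₁.defaultHom]
    exact LinearEquiv.bijective _
  have h₀ : Function.Bijective (Extension.H1Cotangent.map P₀.defaultHom) := by
    rw [← Extension.H1Cotangent.equivOfFormallySmooth_toLinearMap P₀.defaultHom]
    exact LinearEquiv.bijective _
  have hc : Function.Bijective (Extension.H1Cotangent.map c) := by
    constructor
    · rw [injective_iff_map_eq_zero]
      intro y hy
      obtain ⟨a, ha⟩ := Extension.Cotangent.mk_surjective y.1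
      have h := congrArg (fun z => z.1) hy
      change Extension.Cotangent.map c y.1 = 0 at h
      rw [← ha, Extension.Cotangent.map_mk] at h
      refine Extension.h1Cotangentι_ext _ _ (ha.symm.trans ?_)
      exact Extension.Cotangent.ext ((Ideal.toCotangent_eq_zero _ _).mpr
        ((Ideal.toCotangent_eq_zero _ _).mp (congrArg Extension.Cotangent.val h) :))
    · intro y
      obtain ⟨a, ha⟩ := Extension.Cotangent.mk_surjective y.1
      refine ⟨⟨Extension.Cotangent.mk ⟨a.1, a.2⟩, ?_⟩, Extension.h1Cotangentι_ext _ _ ha⟩
      refine LinearMap.mem_ker.mpr (eψ.injective ?_)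
      rw [map_zero, hcc a.1 a.2 a.2]
      exact (congrArg P₀.cotangentComplex ha).trans (LinearMap.mem_ker.mp y.2)
  have hsq : ∀ x, Extension.H1Cotangent.map P₀.defaultHom (H1Cotangent.map R A' B B x) =
      Extension.H1Cotangent.map c (Extension.H1Cotangent.map P₁.defaultHom x) := fun x => by
    rw [H1Cotangent.map, ← Extension.H1Cotangent.map_comp_apply, ← Extension.H1Cotangent.map_comp_apply,
      Extension.H1Cotangent.map_eq]
  have hcomp : Function.Bijective (Extension.H1Cotangent.map P₀.defaultHom ∘ H1Cotangent.map R A' B B) := by
    rw [show Extension.H1Cotangent.map P₀.defaultHom ∘ H1Cotangent.map R A' B B =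
      Extension.H1Cotangent.map c ∘ Extension.H1Cotangent.map P₁.defaultHom from funext hsq]
    exact hc.comp h₁
  exact (Function.Bijective.of_comp_iff' h₀ _).mp hcomp

/-- Localising the top ring and moving along a formally étale map of the base localises `H¹`. -/
theorem isLocalizedModule_map (R A' S T : Type u) [CommRing R] [CommRing A'] [CommRing S] [CommRing T]
    [Algebra R A'] [Algebra R S] [Algebra R T] [Algebra A' T] [Algebra S T] [IsScalarTower R A' T]
    [IsScalarTower R S T] [FormallyEtale R A']
    (M : Submonoid S) [IsLocalization M T] :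
    IsLocalizedModule M (H1Cotangent.map R A' S T) := by
  let L : H1Cotangent R T ≃ₗ[T] H1Cotangent A' T :=
    LinearEquiv.ofBijective (H1Cotangent.map R A' T T) (bijective_map_of_formallyEtale R A' T)
  have h : H1Cotangent.map R A' S T = (L.restrictScalars S).toLinearMap ∘ₗ H1Cotangent.map R R S T := by
    ext1 x
    exact (map_map x).symm
  rw [h]
  exact IsLocalizedModule.of_linearEquiv M _ _

end Groth.Agent.Conormal
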