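import Groth.Prelude.Def_SheafNL
import Mathlib.RingTheory.Flat.Equalizer
import Mathlib.RingTheory.IsTensorProduct
import Mathlib.RingTheory.Extension.Cotangent.BaseChange
import Mathlib.RingTheory.Localization.BaseChange

/-!
# Base change of the naive cotangent complex of a presentation
-/

universe u

open TensorProduct MvPolynomial

set_option backward.isDefEq.respectTransparency false
set_option linter.style.haveILetI false

noncomputable section

namespace Groth.Agent.NLBC

variable {R S R' S' : Type u} [CommRing R] [CommRing S] [CommRing R'] [CommRing S'] [Algebra R S]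
  [Algebra R' S'] [Algebra R R'] [Algebra S S'] [Algebra R S'] [IsScalarTower R R' S'] [IsScalarTower R S S']
  {ι : Type u} (G : Algebra.Generators R S ι) (G' : Algebra.Generators R' S' ι)
  (h : ∀ i, G'.val i = algebraMap S S' (G.val i))

/-- The map of extensions. -/
abbrev svHom : G.toExtension.Hom G'.toExtension := (NLCx.sameVarsHom G G' h).toExtensionHom

lemma toRingHom_svHom (p : MvPolynomial ι R) :
    (svHom G G' h).toRingHom p = MvPolynomial.map (algebraMap R R') p := by
  show (NLCx.sameVarsHom G G' h).toAlgHom p = _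
  induction p using MvPolynomial.induction_on with
  | C r => rw [Algebra.Generators.Hom.toAlgHom_C, map_C]
  | add x y hx hy => rw [map_add, map_add, hx, hy]
  | mul_X x i hx => rw [map_mul, map_mul, hx, Algebra.Generators.Hom.toAlgHom_X, map_X]; rfl

include h in
lemma map_mem_ker {a : MvPolynomial ι R} (ha : a ∈ G.toExtension.ker) :
    MvPolynomial.map (algebraMap R R') a ∈ G'.toExtension.ker := by
  rw [← toRingHom_svHom G G' h]
  show algebraMap G'.toExtension.Ring S' ((svHom G G' h).toRingHom a) = 0
  rw [(svHom G G' h).algebraMap_toRingHom a]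
  exact (congrArg (algebraMap S S') ha).trans (map_zero _)

include h in
/-- The ideal of the base-changed presentation is generated by the old one. -/
theorem ker_eq [Algebra.IsPushout R R' S S'] :
    G'.toExtension.ker = Ideal.map (MvPolynomial.map (algebraMap R R') : MvPolynomial ι R →+* _) G.toExtension.ker := by
  set φ : MvPolynomial ι R →+* MvPolynomial ι R' := MvPolynomial.map (algebraMap R R')
  set J : Ideal (MvPolynomial ι R') := Ideal.map φ G.toExtension.ker
  refine le_antisymm ?_ (Ideal.map_le_iff_le_comap.mpr fun a ha => map_mem_ker G G' h ha)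
  let mk := Ideal.Quotient.mk J
  have hφ : ∀ a ∈ RingHom.ker (algebraMap G.toExtension.Ring S), (mk.comp φ) a = 0 := fun a ha =>
    Ideal.Quotient.eq_zero_iff_mem.mpr (Ideal.mem_map_of_mem φ ha)
  let l : S →+* MvPolynomial ι R' ⧸ J :=
    RingHom.liftOfSurjective (algebraMap G.toExtension.Ring S) G.toExtension.algebraMap_surjective
      ⟨mk.comp φ, fun a ha => hφ a ha⟩
  have hl : ∀ p : MvPolynomial ι R, l (aeval G.val p) = mk (φ p) := fun p =>
    (congrArg l (G.algebraMap_apply p)).symm.trans
      (RingHom.liftOfSurjective_comp_apply _ G.toExtension.algebraMap_surjective ⟨mk.comp φ, fun a ha => hφ a ha⟩ p)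
  let lS : S →ₐ[R] MvPolynomial ι R' ⧸ J :=
    { l with
      commutes' := fun r => by
        show l (algebraMap R S r) = _
        rw [← aeval_C (R := R) G.val r, hl, map_C]
        rfl }
  let lR : R' →ₐ[R] MvPolynomial ι R' ⧸ J :=
    (IsScalarTower.toAlgHom R R' (MvPolynomial ι R' ⧸ J))
  let g : S' →ₐ[R] MvPolynomial ι R' ⧸ J := Algebra.pushoutDesc S' lR lS fun _ _ => mul_comm _ _
  have hg : ∀ p : MvPolynomial ι R', g (aeval G'.val p) = mk p := by
    intro p
    induction p using MvPolynomial.induction_on with
    | C r => rw [aeval_C, Algebra.pushoutDesc_left]; rfl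
    | add x y hx hy => rw [map_add, map_add, map_add, hx, hy]
    | mul_X x i hx =>
      rw [map_mul, map_mul, map_mul, hx, aeval_X, h, Algebra.pushoutDesc_right]
      congr 1
      show l (G.val i) = _
      rw [← aeval_X (R := R) G.val i, hl, map_X]
  intro p hp
  refine Ideal.Quotient.eq_zero_iff_mem.mp ?_
  exact ((hg p).symm.trans (congrArg g ((G'.algebraMap_apply p).symm.trans hp))).trans (map_zero g)

/-- The component in degree `-1`. -/
abbrev cotMap : S' ⊗[S] G.toExtension.Cotangent →ₗ[S'] G'.toExtension.Cotangent :=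
  LinearMap.liftBaseChange S' (Algebra.Extension.Cotangent.map (svHom G G' h))

/-- The component in degree `0`. -/
abbrev spaceMap : S' ⊗[S] G.toExtension.CotangentSpace →ₗ[S'] G'.toExtension.CotangentSpace :=
  LinearMap.liftBaseChange S' (Algebra.Extension.CotangentSpace.map (svHom G G' h))

lemma cotMap_mk (a : G.toExtension.ker) :
    cotMap G G' h (1 ⊗ₜ Algebra.Extension.Cotangent.mk a) =
      Algebra.Extension.Cotangent.mk ⟨MvPolynomial.map (algebraMap R R') a.1, map_mem_ker G G' h a.2⟩ := by
  rw [LinearMap.liftBaseChange_tmul, one_smul, Algebra.Extension.Cotangent.map_mk]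
  exact congrArg _ (Subtype.ext (toRingHom_svHom G G' h a.1))

theorem spaceMap_bijective : Function.Bijective (spaceMap G G' h) := by
  let b := G.cotangentSpaceBasis.baseChange S'
  have hb : spaceMap G G' h = (b.equiv G'.cotangentSpaceBasis (Equiv.refl ι)).toLinearMap := by
    refine b.ext fun i => ?_
    rw [LinearEquiv.coe_coe, Module.Basis.equiv_apply, Module.Basis.baseChange_apply,
      LinearMap.liftBaseChange_tmul, one_smul, Algebra.Generators.cotangentSpaceBasis_apply,
      Algebra.Generators.cotangentSpaceBasis_apply]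
    refine (Algebra.Extension.CotangentSpace.map_tmul (svHom G G' h) 1 (X i)).trans ?_
    rw [map_one]
    refine congrArg (fun t => (1 : S') ⊗ₜ KaehlerDifferential.D R' G'.toExtension.Ring t) ?_
    exact (toRingHom_svHom G G' h (X i)).trans (map_X _ _)
  rw [hb]
  exact LinearEquiv.bijective _

theorem cotMap_surjective [Algebra.IsPushout R R' S S'] : Function.Surjective (cotMap G G' h) := by
  rw [← LinearMap.range_eq_top, ← top_le_iff]
  have hs : Ideal.span (Set.range fun a : G.toExtension.ker =>
      (MvPolynomial.map (algebraMap R R') a.1 : G'.toExtension.Ring)) = G'.toExtension.ker := by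
    refine Eq.trans ?_ (ker_eq G G' h).symm
    refine congrArg Ideal.span ?_
    ext p
    exact ⟨fun ⟨a, ha⟩ => ⟨a.1, a.2, ha⟩, fun ⟨a, ha, e⟩ => ⟨⟨a, ha⟩, e⟩⟩
  rw [← Algebra.Extension.Cotangent.span_eq_top_of_span_eq_ker _ hs, Submodule.span_le]
  rintro _ ⟨a, rfl⟩
  exact ⟨1 ⊗ₜ Algebra.Extension.Cotangent.mk a, cotMap_mk G G' h a⟩

lemma comp_cotMap :
    G'.toExtension.cotangentComplex ∘ₗ cotMap G G' h =
      spaceMap G G' h ∘ₗ G.toExtension.cotangentComplex.baseChange S' := by
  ext y
  simpa using (Algebra.Extension.CotangentSpace.map_cotangentComplex (svHom G G' h) y).symm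

theorem bcH1Map_surjective [Algebra.IsPushout R R' S S'] :
    Function.Surjective (NLCx.bcH1Map (svHom G G' h)) := by
  intro y
  obtain ⟨x, hx⟩ := cotMap_surjective G G' h y.1
  have hx0 : x ∈ NLCx.bcH1 G.toExtension S' := by
    refine LinearMap.mem_ker.mpr ((spaceMap_bijective G G' h).1 ?_)
    rw [map_zero, ← LinearMap.comp_apply, ← comp_cotMap, LinearMap.comp_apply, hx]
    exact LinearMap.mem_ker.mp y.2
  exact ⟨⟨x, hx0⟩, Algebra.Extension.h1Cotangentι_ext _ _ hx⟩

lemma mk_mul (x : G.toExtension.Ring) (a : G.toExtension.ker) (hx : x * a.1 ∈ G.toExtension.ker) :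
    Algebra.Extension.Cotangent.mk (P := G.toExtension) ⟨x * a.1, hx⟩ =
      aeval G.val (x : MvPolynomial ι R) • Algebra.Extension.Cotangent.mk (P := G.toExtension) a := by
  rw [← G.algebraMap_apply x]
  refine ((map_smul (Algebra.Extension.Cotangent.mk (P := G.toExtension)) x a).trans ?_)
  exact (algebraMap_smul S x _).symm

/-- If tensoring keeps the ideal inside the polynomial ring, the cotangent module commutes with base change. -/
theorem cotMap_bijective [Algebra.IsPushout R R' S S']
    (H : Function.Injective ((G.toExtension.ker.restrictScalars R).subtype.lTensor R')) :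
    Function.Bijective (cotMap G G' h) := by
  refine ⟨?_, cotMap_surjective G G' h⟩
  let I : Submodule R G.toExtension.Ring := G.toExtension.ker.restrictScalars R
  let e₀ : R' ⊗[R] MvPolynomial ι R ≃ₐ[R'] MvPolynomial ι R' := MvPolynomial.algebraTensorAlgEquiv R R'
  let θ : R' ⊗[R] I →+ MvPolynomial ι R' :=
    e₀.toLinearMap.toAddMonoidHom.comp (I.subtype.lTensor R').toAddMonoidHom
  have hθ : ∀ (r : R') (a : I), θ (r ⊗ₜ a) = C r * MvPolynomial.map (algebraMap R R') a.1 := by
    intro r a
    show e₀ ((I.subtype.lTensor R') (r ⊗ₜ a)) = _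
    rw [LinearMap.lTensor_tmul, MvPolynomial.algebraTensorAlgEquiv_tmul, Algebra.smul_def]
    rfl
  have hθinj : Function.Injective θ := e₀.injective.comp H
  let c : R' ⊗[R] I →+ S' ⊗[S] G.toExtension.Cotangent :=
    TensorProduct.liftAddHom
      (AddMonoidHom.mk' (fun r : R' => AddMonoidHom.mk'
          (fun a : I => algebraMap R' S' r • ((1 : S') ⊗ₜ[S] Algebra.Extension.Cotangent.mk (P := G.toExtension) ⟨a.1, a.2⟩))
          fun a b => by
            rw [← smul_add, ← TensorProduct.tmul_add, ← map_add]
            rfl)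
        fun r r' => by
          ext a
          show algebraMap R' S' (r + r') • ((1 : S') ⊗ₜ[S] Algebra.Extension.Cotangent.mk (P := G.toExtension) ⟨a.1, a.2⟩) = _
          rw [map_add, add_smul]
          rfl)
      fun ρ r a => by
        show algebraMap R' S' (ρ • r) • ((1 : S') ⊗ₜ[S] Algebra.Extension.Cotangent.mk (P := G.toExtension) ⟨a.1, a.2⟩) =
          algebraMap R' S' r • ((1 : S') ⊗ₜ[S] Algebra.Extension.Cotangent.mk (P := G.toExtension) ⟨(ρ • a).1, (ρ • a).2⟩)
        have k : Algebra.Extension.Cotangent.mk (P := G.toExtension) ⟨(ρ • a).1, (ρ • a).2⟩ =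
            algebraMap R S ρ • Algebra.Extension.Cotangent.mk (P := G.toExtension) ⟨a.1, a.2⟩ := by
          refine (congrArg _ (Subtype.ext (Algebra.smul_def ρ a.1))).trans
            ((map_smul (Algebra.Extension.Cotangent.mk (P := G.toExtension))
              (algebraMap R G.toExtension.Ring ρ) ⟨a.1, a.2⟩).trans ?_)
          exact (algebraMap_smul S (algebraMap R G.toExtension.Ring ρ) _).symm.trans
            (congrArg (· • _) (IsScalarTower.algebraMap_apply R G.toExtension.Ring S ρ).symm)
        rw [k, TensorProduct.tmul_smul, ← algebraMap_smul S' (algebraMap R S ρ), smul_smul,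
          ← IsScalarTower.algebraMap_apply R S S', Algebra.smul_def, map_mul,
          ← IsScalarTower.algebraMap_apply R R' S', mul_comm]
  have hc : ∀ (r : R') (a : I), c (r ⊗ₜ a) =
      algebraMap R' S' r • ((1 : S') ⊗ₜ[S] Algebra.Extension.Cotangent.mk (P := G.toExtension) ⟨a.1, a.2⟩) :=
    fun r a => rfl
  have hsemi : ∀ (p : MvPolynomial ι R') (w : R' ⊗[R] I), ∃ w' : R' ⊗[R] I,
      θ w' = p * θ w ∧ c w' = aeval G'.val p • c w := by
    intro p
    induction p using MvPolynomial.induction_on with
    | C ρ =>
      intro w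
      induction w using TensorProduct.induction_on with
      | zero => exact ⟨0, by simp, by simp⟩
      | tmul r a =>
        refine ⟨(ρ * r) ⊗ₜ a, ?_, ?_⟩
        · rw [hθ, hθ, map_mul, mul_assoc]
        · rw [hc, hc, map_mul, mul_smul, aeval_C]
      | add x y hx hy =>
        obtain ⟨x', h1, h2⟩ := hx
        obtain ⟨y', h3, h4⟩ := hy
        exact ⟨x' + y', by rw [map_add, map_add, h1, h3, mul_add], by rw [map_add, map_add, h2, h4, smul_add]⟩
    | add p q hp hq =>
      intro w
      obtain ⟨x', h1, h2⟩ := hp w
      obtain ⟨y', h3, h4⟩ := hq w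
      exact ⟨x' + y', by rw [map_add, h1, h3, add_mul], by rw [map_add, h2, h4, map_add, add_smul]⟩
    | mul_X p i hp =>
      intro w
      obtain ⟨u, hu1, hu2⟩ : ∃ u : R' ⊗[R] I, θ u = X i * θ w ∧ c u = G'.val i • c w := by
        induction w using TensorProduct.induction_on with
        | zero => exact ⟨0, by simp, by simp⟩
        | tmul r a =>
          refine ⟨r ⊗ₜ ⟨HMul.hMul (α := G.toExtension.Ring) (β := G.toExtension.Ring) (X i) a.1, G.toExtension.ker.mul_mem_left _ a.2⟩, ?_, ?_⟩
          · rw [hθ, hθ, map_mul, map_X, mul_left_comm]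
          · rw [hc, hc, h]
            refine (congrArg (fun t => algebraMap R' S' r • ((1 : S') ⊗ₜ[S] t))
              (mk_mul G (X i) ⟨a.1, a.2⟩ _)).trans ?_
            rw [aeval_X, TensorProduct.tmul_smul, ← algebraMap_smul S' (G.val i), smul_smul, smul_smul, mul_comm]
        | add x y hx hy =>
          obtain ⟨x', h1, h2⟩ := hx
          obtain ⟨y', h3, h4⟩ := hy
          exact ⟨x' + y', by rw [map_add, map_add, h1, h3, mul_add], by rw [map_add, map_add, h2, h4, smul_add]⟩
      obtain ⟨u', h1, h2⟩ := hp u
      exact ⟨u', by rw [h1, hu1, mul_assoc], by rw [h2, hu2, map_mul, aeval_X, mul_smul]⟩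
  have hmem : ∀ w, θ w ∈ G'.toExtension.ker := by
    intro w
    induction w using TensorProduct.induction_on with
    | zero => rw [map_zero]; exact Submodule.zero_mem _
    | tmul r a => rw [hθ]; exact Ideal.mul_mem_left _ _ (map_mem_ker G G' h a.2)
    | add x y hx hy => rw [map_add]; exact Submodule.add_mem _ hx hy
  have hrange : ∀ p ∈ G'.toExtension.ker, ∃ w, θ w = p := by
    intro p hp
    rw [ker_eq G G' h] at hp
    induction hp using Submodule.span_induction with
    | mem p hp =>
      obtain ⟨a, ha, rfl⟩ := hp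
      exact ⟨1 ⊗ₜ ⟨a, ha⟩, by rw [hθ, map_one, one_mul]; rfl⟩
    | zero => exact ⟨0, map_zero θ⟩
    | add x y _ _ hx hy =>
      obtain ⟨x', rfl⟩ := hx
      obtain ⟨y', rfl⟩ := hy
      exact ⟨x' + y', map_add θ _ _⟩
    | smul q x _ hx =>
      obtain ⟨x', rfl⟩ := hx
      obtain ⟨w', hw', -⟩ := hsemi q x'
      exact ⟨w', hw'⟩
  have hcθ : ∀ w, cotMap G G' h (c w) = Algebra.Extension.Cotangent.mk ⟨θ w, hmem w⟩ := by
    intro w
    induction w using TensorProduct.induction_on with
    | zero =>
      rw [map_zero, map_zero]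
      refine (map_zero Algebra.Extension.Cotangent.mk).symm.trans (congrArg _ (Subtype.ext ?_))
      exact (map_zero θ).symm
    | tmul r a =>
      rw [hc, map_smul, cotMap_mk, show algebraMap R' S' r =
        algebraMap G'.toExtension.Ring S' (C r : MvPolynomial ι R') from
          ((G'.algebraMap_apply _).trans (aeval_C _ r)).symm,
        algebraMap_smul, ← map_smul]
      exact congrArg _ (Subtype.ext (hθ r a).symm)
    | add x y hx hy =>
      rw [map_add, map_add, hx, hy, ← map_add]
      exact congrArg _ (Subtype.ext (map_add θ x y).symm)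
  have hsurj : Function.Surjective c := by
    intro z
    induction z using TensorProduct.induction_on with
    | zero => exact ⟨0, map_zero c⟩
    | tmul s m =>
      obtain ⟨a, rfl⟩ := Algebra.Extension.Cotangent.mk_surjective m
      obtain ⟨p, hp⟩ := G'.toExtension.algebraMap_surjective s
      obtain ⟨w, -, hw⟩ := hsemi p ((1 : R') ⊗ₜ ⟨a.1, a.2⟩)
      refine ⟨w, hw.trans ?_⟩
      rw [hc, map_one, one_smul, show aeval G'.val p = s from (G'.algebraMap_apply p).symm.trans hp, TensorProduct.smul_tmul', smul_eq_mul, mul_one]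
    | add x y hx hy =>
      obtain ⟨x', rfl⟩ := hx
      obtain ⟨y', rfl⟩ := hy
      exact ⟨x' + y', map_add c _ _⟩
  refine (injective_iff_map_eq_zero _).mpr fun z hz => ?_
  obtain ⟨w, rfl⟩ := hsurj z
  rw [hcθ] at hz
  have hsq : θ w ∈ G'.toExtension.ker * G'.toExtension.ker := by
    rw [← sq]
    exact (Ideal.toCotangent_eq_zero _ _).mp (congrArg Algebra.Extension.Cotangent.val hz)
  have key : ∀ p ∈ G'.toExtension.ker * G'.toExtension.ker, ∃ v, θ v = p ∧ c v = 0 := by
    intro p hp
    refine Submodule.mul_induction_on hp (fun x hx y hy => ?_) fun x y hx hy => ?_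
    · obtain ⟨y', rfl⟩ := hrange y hy
      obtain ⟨v, hv, hv'⟩ := hsemi x y'
      exact ⟨v, hv, hv'.trans ((congrArg (· • c y') ((G'.algebraMap_apply x).symm.trans hx)).trans (zero_smul _ _))⟩
    · obtain ⟨x', rfl, hx'⟩ := hx
      obtain ⟨y', rfl, hy'⟩ := hy
      exact ⟨x' + y', map_add θ _ _, by rw [map_add, hx', hy', add_zero]⟩
  obtain ⟨v, hv, hv'⟩ := key _ hsq
  rw [← hθinj hv]
  exact hv'

lemma lTensor_injective_of_flat_base [Module.Flat R R'] :
    Function.Injective ((G.toExtension.ker.restrictScalars R).subtype.lTensor R') :=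
  Module.Flat.lTensor_preserves_injective_linearMap _ (Submodule.injective_subtype _)

lemma lTensor_injective_of_flat [Module.Flat R S] :
    Function.Injective ((G.toExtension.ker.restrictScalars R).subtype.lTensor R') :=
  LinearMap.lTensor_injective_of_exact_of_flat (IsScalarTower.toAlgHom R G.toExtension.Ring S).toLinearMap
    G.toExtension.algebraMap_surjective _ (Submodule.injective_subtype _)
    (fun p => ⟨fun hp => ⟨⟨p, hp⟩, rfl⟩, fun ⟨a, ha⟩ => ha ▸ a.2⟩) R'

/-- The base change of a presentation on given variables. -/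
def bcGen [Algebra.IsPushout R R' S S'] : Algebra.Generators R' S' ι :=
  Algebra.Generators.ofSurjective (fun i => algebraMap S S' (G.val i)) fun s => by
    have H : Algebra.IsPushout R R' S S' := inferInstance
    induction s using H.1.inductionOn with
    | zero => exact ⟨0, map_zero _⟩
    | tmul x =>
      obtain ⟨p, rfl⟩ := G.toExtension.algebraMap_surjective x
      refine ⟨MvPolynomial.map (algebraMap R R') p, ?_⟩
      rw [aeval_map_algebraMap]
      exact (aeval_algebraMap_apply S' G.val p).trans (congrArg (algebraMap S S') (G.algebraMap_apply p).symm)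
    | smul r x hx =>
      obtain ⟨p, rfl⟩ := hx
      exact ⟨r • p, map_smul _ _ _⟩
    | add x y hx hy =>
      obtain ⟨p, rfl⟩ := hx
      obtain ⟨q, rfl⟩ := hy
      exact ⟨p + q, map_add _ _ _⟩

lemma bcGen_val [Algebra.IsPushout R R' S S'] (i : ι) :
    (bcGen (R' := R') (S' := S') G).val i = algebraMap S S' (G.val i) := rfl

variable {G G'} {κ : Type u} {P : Algebra.Extension.{u} R S} {P' : Algebra.Extension.{u} R' S'}

/-- The map on `H^{-1}` does not depend on the map of presentations. -/
theorem bcH1Map_eq (f g : P.Hom P') : NLCx.bcH1Map f = NLCx.bcH1Map g := by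
  refine LinearMap.ext fun x => Algebra.Extension.h1Cotangentι_ext _ _ ?_
  show LinearMap.liftBaseChange S' (Algebra.Extension.Cotangent.map f) x.1 =
    LinearMap.liftBaseChange S' (Algebra.Extension.Cotangent.map g) x.1
  have key : LinearMap.liftBaseChange S' (Algebra.Extension.Cotangent.map f) -
      LinearMap.liftBaseChange S' (Algebra.Extension.Cotangent.map g) =
      LinearMap.liftBaseChange S' (f.sub g) ∘ₗ P.cotangentComplex.baseChange S' := by
    ext y : 3
    simp only [TensorProduct.AlgebraTensorModule.curry_apply, TensorProduct.curry_apply, LinearMap.coe_restrictScalars,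
      LinearMap.sub_apply, LinearMap.comp_apply, LinearMap.baseChange_tmul, LinearMap.liftBaseChange_tmul, one_smul]
    exact DFunLike.congr_fun (Algebra.Extension.Cotangent.map_sub_map f g) y
  have := DFunLike.congr_fun key x.1
  rw [LinearMap.comp_apply, LinearMap.mem_ker.mp x.2, map_zero, LinearMap.sub_apply, sub_eq_zero] at this
  exact this

variable (R S R' S') in
/-- Surjectivity for the presentations on all elements. -/
theorem bcH1Map_self_surjective [Algebra.IsPushout R R' S S'] :
    Function.Surjective (NLCx.bcH1Map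
      ((Algebra.Generators.self R S).defaultHom (Algebra.Generators.self R' S')).toExtensionHom) := by
  let G₀ := Algebra.Generators.self R S
  let G₁ : Algebra.Generators R' S' S := bcGen G₀
  let u := svHom G₀ G₁ fun _ => rfl
  let v := (G₁.defaultHom (Algebra.Generators.self R' S')).toExtensionHom
  rw [bcH1Map_eq _ (v.comp u)]
  have h2 : Function.Surjective (Algebra.Extension.H1Cotangent.map v) :=
    (G₁.equivH1Cotangent).surjective
  intro y
  obtain ⟨y', rfl⟩ := h2 y
  obtain ⟨x, rfl⟩ := bcH1Map_surjective G₀ G₁ (fun _ => rfl) y'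
  refine ⟨x, Algebra.Extension.h1Cotangentι_ext _ _ ?_⟩
  have key : LinearMap.liftBaseChange S' (Algebra.Extension.Cotangent.map (v.comp u)) =
      Algebra.Extension.Cotangent.map v ∘ₗ cotMap G₀ G₁ (fun _ => rfl) := by
    ext y
    simp [Algebra.Extension.Cotangent.map_comp, u]
  exact DFunLike.congr_fun key x.1

end Groth.Agent.NLBC
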