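import Groth.Agent.Conormal.NLBaseChange
import Groth.Agent.Conormal.DoubleHtpy

/-!
# Chain-level base change of the naive cotangent complex
-/

universe u

open CategoryTheory CategoryTheory.Limits TensorProduct HomologicalComplex

set_option backward.isDefEq.respectTransparency false
set_option linter.style.haveILetI false

noncomputable section

namespace Groth.Agent.NLBC

variable {R S R' S' : Type u} [CommRing R] [CommRing S] [CommRing R'] [CommRing S'] [Algebra R S]
  [Algebra R' S'] [Algebra R R'] [Algebra S S'] [Algebra R S'] [IsScalarTower R R' S'] [IsScalarTower R S S']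

section

variable {P : Algebra.Extension.{u} R S} {P' : Algebra.Extension.{u} R' S'} (f g : P.Hom P')

lemma bcMap_f₀ : (NLCx.bcMap (S' := S') f).f (-1) = (doubleXIso₀ _ _).hom ≫
    ModuleCat.ofHom (LinearMap.liftBaseChange S' (Algebra.Extension.Cotangent.map f)) ≫
      (doubleXIso₀ (ModuleCat.ofHom P'.cotangentComplex) (show (ComplexShape.up ℤ).Rel (-1) 0 by simp)).inv := by
  rw [NLCx.bcMap, mkHomFromDouble_f₀]

lemma bcMap_f₁ : (NLCx.bcMap (S' := S') f).f 0 = (doubleXIso₁ _ _ (by decide)).hom ≫
    ModuleCat.ofHom (LinearMap.liftBaseChange S' (Algebra.Extension.CotangentSpace.map f)) ≫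
      (doubleXIso₁ (ModuleCat.ofHom P'.cotangentComplex) (show (ComplexShape.up ℤ).Rel (-1) 0 by simp)
        (by decide)).inv := by
  rw [NLCx.bcMap, mkHomFromDouble_f₁]

/-- A base change map with bijective components is an isomorphism. -/
theorem isIso_bcMap (h₀ : Function.Bijective (LinearMap.liftBaseChange S' (Algebra.Extension.Cotangent.map f)))
    (h₁ : Function.Bijective (LinearMap.liftBaseChange S' (Algebra.Extension.CotangentSpace.map f))) :
    IsIso (NLCx.bcMap (S' := S') f) := by
  have i₀ : IsIso (ModuleCat.ofHom (LinearMap.liftBaseChange S' (Algebra.Extension.Cotangent.map f))) :=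
    (ConcreteCategory.isIso_iff_bijective _).mpr h₀
  have i₁ : IsIso (ModuleCat.ofHom (LinearMap.liftBaseChange S' (Algebra.Extension.CotangentSpace.map f))) :=
    (ConcreteCategory.isIso_iff_bijective _).mpr h₁
  refine DoubleHtpy.isIso_of_components _ ?_ ?_
  · rw [bcMap_f₀]; infer_instance
  · rw [bcMap_f₁]; infer_instance

/-- Two maps of presentations induce homotopic base change maps. -/
def bcMapHtpy : Homotopy (NLCx.bcMap (S' := S') f) (NLCx.bcMap g) :=
  DoubleHtpy.homotopy _ _ (ModuleCat.ofHom (LinearMap.liftBaseChange S' (f.sub g)))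
    (by
      rw [bcMap_f₀, bcMap_f₀, double_d _ _ (by decide)]
      simp only [Category.assoc, Iso.inv_hom_id_assoc, ← Preadditive.comp_sub, ← Preadditive.sub_comp]
      rw [← Category.assoc (ModuleCat.ofHom (P.cotangentComplex.baseChange S'))]
      congr 2
      ext x
      simp only [ModuleCat.hom_sub, ModuleCat.hom_comp, ModuleCat.hom_ofHom, LinearMap.sub_apply,
        LinearMap.comp_apply, TensorProduct.AlgebraTensorModule.curry_apply, TensorProduct.curry_apply,
        LinearMap.coe_restrictScalars, LinearMap.baseChange_tmul, LinearMap.liftBaseChange_tmul, one_smul]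
      exact DFunLike.congr_fun (Algebra.Extension.Cotangent.map_sub_map f g) x)
    (by
      rw [bcMap_f₁, bcMap_f₁, double_d _ _ (by decide)]
      simp only [Category.assoc, Iso.inv_hom_id_assoc, ← Preadditive.comp_sub, ← Preadditive.sub_comp]
      rw [← Category.assoc (ModuleCat.ofHom (LinearMap.liftBaseChange S' (f.sub g)))]
      congr 2
      ext x
      simp only [ModuleCat.hom_sub, ModuleCat.hom_comp, ModuleCat.hom_ofHom, LinearMap.sub_apply,
        LinearMap.comp_apply, TensorProduct.AlgebraTensorModule.curry_apply, TensorProduct.curry_apply,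
        LinearMap.coe_restrictScalars, LinearMap.liftBaseChange_tmul, one_smul]
      exact DFunLike.congr_fun (Algebra.Extension.CotangentSpace.map_sub_map f g) x)

end

section

variable [Algebra R' S] [IsScalarTower R R' S] {P : Algebra.Extension.{u} R S} {P' : Algebra.Extension.{u} R' S}
  (f g : P.Hom P')

lemma map_f₀ : (NLCx.map f).f (-1) = (doubleXIso₀ _ _).hom ≫
    ModuleCat.ofHom (Algebra.Extension.Cotangent.map f) ≫
      (doubleXIso₀ (ModuleCat.ofHom P'.cotangentComplex) (show (ComplexShape.up ℤ).Rel (-1) 0 by simp)).inv := by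
  rw [NLCx.map, mkHomFromDouble_f₀]

lemma map_f₁ : (NLCx.map f).f 0 = (doubleXIso₁ _ _ (by decide)).hom ≫
    ModuleCat.ofHom (Algebra.Extension.CotangentSpace.map f) ≫
      (doubleXIso₁ (ModuleCat.ofHom P'.cotangentComplex) (show (ComplexShape.up ℤ).Rel (-1) 0 by simp)
        (by decide)).inv := by
  rw [NLCx.map, mkHomFromDouble_f₁]

theorem isIso_map (h₀ : Function.Bijective (Algebra.Extension.Cotangent.map f))
    (h₁ : Function.Bijective (Algebra.Extension.CotangentSpace.map f)) : IsIso (NLCx.map f) := by
  have i₀ : IsIso (ModuleCat.ofHom (Algebra.Extension.Cotangent.map f)) :=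
    (ConcreteCategory.isIso_iff_bijective _).mpr h₀
  have i₁ : IsIso (ModuleCat.ofHom (Algebra.Extension.CotangentSpace.map f)) :=
    (ConcreteCategory.isIso_iff_bijective _).mpr h₁
  refine DoubleHtpy.isIso_of_components _ ?_ ?_
  · rw [map_f₀]; infer_instance
  · rw [map_f₁]; infer_instance

/-- Two maps of presentations induce homotopic maps. -/
def mapHtpy : Homotopy (NLCx.map f) (NLCx.map g) :=
  DoubleHtpy.homotopy _ _ (ModuleCat.ofHom (f.sub g))
    (by
      rw [map_f₀, map_f₀, double_d _ _ (by decide)]
      simp only [Category.assoc, Iso.inv_hom_id_assoc, ← Preadditive.comp_sub, ← Preadditive.sub_comp]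
      rw [← Category.assoc (ModuleCat.ofHom P.cotangentComplex)]
      congr 2
      ext1
      exact Algebra.Extension.Cotangent.map_sub_map f g)
    (by
      rw [map_f₁, map_f₁, double_d _ _ (by decide)]
      simp only [Category.assoc, Iso.inv_hom_id_assoc, ← Preadditive.comp_sub, ← Preadditive.sub_comp]
      rw [← Category.assoc (ModuleCat.ofHom (f.sub g))]
      congr 2
      ext1
      exact Algebra.Extension.CotangentSpace.map_sub_map f g)

end

lemma map_id (P : Algebra.Extension.{u} R S) : NLCx.map (Algebra.Extension.Hom.id P) = 𝟙 (NLCx.cx P) := by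
  apply from_double_hom_ext
  · rw [map_f₀, Algebra.Extension.Cotangent.map_id, ModuleCat.ofHom_id, Category.id_comp, Iso.hom_inv_id]
    rfl
  · rw [map_f₁, Algebra.Extension.CotangentSpace.map_id, ModuleCat.ofHom_id, Category.id_comp, Iso.hom_inv_id]
    rfl

lemma map_comp {P P' P'' : Algebra.Extension.{u} R S} (f : P.Hom P') (g : P'.Hom P'') :
    NLCx.map f ≫ NLCx.map g = NLCx.map (g.comp f) := by
  apply from_double_hom_ext
  · rw [comp_f, map_f₀, map_f₀, map_f₀]
    simp only [Category.assoc, Iso.inv_hom_id_assoc]
    rw [← Category.assoc (ModuleCat.ofHom (Algebra.Extension.Cotangent.map f)), ← ModuleCat.ofHom_comp,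
      Algebra.Extension.Cotangent.map_comp]
    rfl
  · rw [comp_f, map_f₁, map_f₁, map_f₁]
    simp only [Category.assoc, Iso.inv_hom_id_assoc]
    rw [← Category.assoc (ModuleCat.ofHom (Algebra.Extension.CotangentSpace.map f)), ← ModuleCat.ofHom_comp,
      Algebra.Extension.CotangentSpace.map_comp]
    rfl

lemma bcMap_comp {P : Algebra.Extension.{u} R S} {P' P'' : Algebra.Extension.{u} R' S'} (f : P.Hom P')
    (g : P'.Hom P'') : NLCx.bcMap (S' := S') f ≫ NLCx.map g = NLCx.bcMap (g.comp f) := by
  apply from_double_hom_ext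
  · rw [comp_f, bcMap_f₀, map_f₀, bcMap_f₀]
    simp only [Category.assoc, Iso.inv_hom_id_assoc]
    rw [← Category.assoc (ModuleCat.ofHom (LinearMap.liftBaseChange S' (Algebra.Extension.Cotangent.map f))),
      ← ModuleCat.ofHom_comp]
    congr 3
    ext y
    simp [Algebra.Extension.Cotangent.map_comp]
  · rw [comp_f, bcMap_f₁, map_f₁, bcMap_f₁]
    simp only [Category.assoc, Iso.inv_hom_id_assoc]
    rw [← Category.assoc (ModuleCat.ofHom (LinearMap.liftBaseChange S' (Algebra.Extension.CotangentSpace.map f))),
      ← ModuleCat.ofHom_comp]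
    congr 3
    ext y
    simp [Algebra.Extension.CotangentSpace.map_comp]

/-- Two presentations of the same algebra have homotopy equivalent complexes. -/
def genEquiv {ι κ : Type u} (G : Algebra.Generators R S ι) (H : Algebra.Generators R S κ) :
    HomotopyEquiv (NLCx.cx G.toExtension) (NLCx.cx H.toExtension) where
  hom := NLCx.map (G.defaultHom H).toExtensionHom
  inv := NLCx.map (H.defaultHom G).toExtensionHom
  homotopyHomInvId := (Homotopy.ofEq (map_comp _ _)).trans ((mapHtpy _ _).trans (Homotopy.ofEq (map_id _)))
  homotopyInvHomId := (Homotopy.ofEq (map_comp _ _)).trans ((mapHtpy _ _).trans (Homotopy.ofEq (map_id _)))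

variable (R S R' S') in
/-- If base change of the presentation on all elements is exact, the canonical map is a homotopy equivalence. -/
def selfEquiv [Algebra.IsPushout R R' S S']
    (H : Function.Injective (((Algebra.Generators.self R S).toExtension.ker.restrictScalars R).subtype.lTensor R')) :
    HomotopyEquiv (NLCx.bcCx (Algebra.Generators.self R S).toExtension S')
      (NLCx.cx (Algebra.Generators.self R' S').toExtension) :=
  haveI := isIso_bcMap (svHom (Algebra.Generators.self R S) (bcGen (R' := R') (S' := S') (Algebra.Generators.self R S))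
      fun _ => rfl) (cotMap_bijective _ _ _ H) (spaceMap_bijective _ _ _)
  ((HomotopyEquiv.ofIso (asIso (NLCx.bcMap (S' := S')
      (svHom (Algebra.Generators.self R S) (bcGen (R' := R') (S' := S') (Algebra.Generators.self R S))
        fun _ => rfl)))).trans (genEquiv _ (Algebra.Generators.self R' S'))).grothReplaceHom
    (NLCx.bcMapSelf R S R' S') ((Homotopy.ofEq (bcMap_comp _ _)).trans (bcMapHtpy _ _))

end Groth.Agent.NLBC
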