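import Groth.Agent.Conormal.NLBaseChangeCx
import Groth.Agent.DRingKP.TorMore
import Groth.Agent.DRingKP.Tor
import Groth.Agent.DRingKP.Amp

/-!
# Derived base change of the naive cotangent complex
-/

universe u

open CategoryTheory CategoryTheory.Limits TensorProduct HomologicalComplex

attribute [local instance] HasDerivedCategory.standard

set_option backward.isDefEq.respectTransparency false
set_option linter.style.haveILetI false

noncomputable section

namespace Groth.Agent.NLBC

variable {R S : Type u} [CommRing R] [CommRing S] [Algebra R S] (P : Algebra.Extension.{u} R S)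

lemma hrel : (ComplexShape.up ℤ).Rel (-1) 0 := by simp

/-- The inclusion of the degree zero term. -/
def topι : (HomologicalComplex.single _ (ComplexShape.up ℤ) 0).obj (ModuleCat.of S P.CotangentSpace) ⟶ NLCx.cx P :=
  HomologicalComplex.mkHomFromSingle (doubleXIso₁ (ModuleCat.ofHom P.cotangentComplex) hrel (by decide)).inv
    fun j _ => by
      show _ ≫ (double (ModuleCat.ofHom P.cotangentComplex) hrel).d 0 j = 0
      rw [double_d_eq_zero₀ _ _ _ _ (by decide), comp_zero]

/-- The projection to the degree `-1` term. -/
def botπ : NLCx.cx P ⟶ (HomologicalComplex.single _ (ComplexShape.up ℤ) (-1)).obj (ModuleCat.of S P.Cotangent) :=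
  HomologicalComplex.mkHomToSingle (doubleXIso₀ (ModuleCat.ofHom P.cotangentComplex) hrel).hom
    fun i _ => by
      show (double (ModuleCat.ofHom P.cotangentComplex) hrel).d i (-1) ≫ _ = 0
      rw [double_d_eq_zero₁ _ _ _ _ (by decide), zero_comp]

/-- The short exact sequence of the two terms. -/
def termsSC : ShortComplex (DRing.Cx S) :=
  ShortComplex.mk (topι P) (botπ P) (HomologicalComplex.from_single_hom_ext (by
    rw [comp_f, zero_f_apply]
    exact (isZero_single_obj_X (ComplexShape.up ℤ) (-1) _ 0 (by decide)).eq_of_tgt _ _))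

theorem termsSC_shortExact : (termsSC P).ShortExact := by
  refine HomologicalComplex.shortExact_of_degreewise_shortExact _ fun k => ?_
  rcases eq_or_ne k 0 with rfl | hk
  · have : IsIso ((termsSC P).map (HomologicalComplex.eval _ _ 0)).f := by
      show IsIso ((topι P).f 0)
      rw [topι, mkHomFromSingle_f]
      infer_instance
    exact (ShortComplex.Splitting.ofIsIsoOfIsZero _ this (by
      show IsZero (((HomologicalComplex.single _ (ComplexShape.up ℤ) (-1)).obj (ModuleCat.of S P.Cotangent)).X 0)
      exact isZero_single_obj_X _ _ _ _ (by decide))).shortExact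
  · have hz : IsZero ((termsSC P).map (HomologicalComplex.eval _ _ k)).X₁ :=
      isZero_single_obj_X (ComplexShape.up ℤ) 0 (ModuleCat.of S P.CotangentSpace) k hk
    have : IsIso ((termsSC P).map (HomologicalComplex.eval _ _ k)).g := by
      rcases eq_or_ne k (-1) with rfl | hk'
      · show IsIso ((botπ P).f (-1))
        rw [botπ, mkHomToSingle_f]
        infer_instance
      · exact isIso_of_isInitial (isZero_double_X (ModuleCat.ofHom P.cotangentComplex) hrel k hk' hk).isInitial
          (isZero_single_obj_X (ComplexShape.up ℤ) (-1) (ModuleCat.of S P.Cotangent) k hk').isInitial _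
    exact (ShortComplex.Splitting.ofIsZeroOfIsIso _ hz this).shortExact

/-- If the complex has tor amplitude in `[-1, 0]` and its top term is flat, so is the bottom one. -/
theorem flat_cotangent [Module.Flat S P.CotangentSpace]
    (h : DRing.HasTorAmplitudeIn S (-1) 0 (DRing.toD (NLCx.cx P))) : Module.Flat S P.Cotangent := by
  have h₁ : DRing.HasTorAmplitudeIn S 0 1 (DRing.toD
      ((HomologicalComplex.single _ (ComplexShape.up ℤ) 0).obj (ModuleCat.of S P.CotangentSpace))) := by
    refine ⟨_, fun i hi => isZero_single_obj_X _ _ _ i (by omega), fun i => ?_, ⟨Iso.refl _⟩⟩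
    rcases eq_or_ne i 0 with rfl | hi
    · exact Module.Flat.of_linearEquiv
        (HomologicalComplex.singleObjXSelf (ComplexShape.up ℤ) 0 (ModuleCat.of S P.CotangentSpace)).toLinearEquiv
    · haveI := ModuleCat.subsingleton_of_isZero (isZero_single_obj_X (ComplexShape.up ℤ) 0
        (ModuleCat.of S P.CotangentSpace) i hi)
      infer_instance
  have h₃ : DRing.HasTorAmplitudeIn S (-1) 0 (DRing.toD
      ((HomologicalComplex.single _ (ComplexShape.up ℤ) (-1)).obj (ModuleCat.of S P.Cotangent))) :=
    DRingKP.amp_obj₃ (a := -1) (b := 0) _ (DerivedCategory.triangleOfSES_distinguished (termsSC_shortExact P)) h₁ h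
  have h₄ : DRing.HasTorAmplitudeIn S 0 1 (Dual.inD S P.Cotangent) := by
    have h' := DRingKP.amp_shift h₃ (-1)
    rw [sub_neg_eq_add, sub_neg_eq_add] at h'
    refine DRingKP.amp_of_iso ?_ h'
    exact (shiftFunctor _ (-1 : ℤ)).mapIso
        ((DerivedCategory.singleFunctorIsoCompQ (ModuleCat.{u} S) (-1)).app (ModuleCat.of S P.Cotangent)).symm ≪≫
      ((DerivedCategory.singleFunctors (ModuleCat.{u} S)).shiftIso (-1) 0 (-1) (by lia)).app
        (ModuleCat.of S P.Cotangent)
  exact (DRingKP.amp_zero_iff_flat P.Cotangent).1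
    (DRingKP.amp_shrink h₄ (DRingKP.isAbove_single _ 0))

variable (S' : Type u) [CommRing S'] [Algebra S S']

/-- Termwise base change of the complex is the tensored complex. -/
def bcCxIso : (DRingKP.bc (algebraMap S S')).obj (NLCx.cx P) ≅ NLCx.bcCx P S' := by
  let F := ModuleCat.extendScalars.{u, u, u} (algebraMap S S')
  refine HomologicalComplex.Hom.isoOfComponents (fun k =>
    if h₀ : k = -1 then
      eqToIso (by subst h₀; rfl) ≪≫ F.mapIso (doubleXIso₀ (ModuleCat.ofHom P.cotangentComplex) hrel) ≪≫
        DRingKP.extendTensorIso P.Cotangent ≪≫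
        (doubleXIso₀ (ModuleCat.ofHom (P.cotangentComplex.baseChange S')) hrel).symm ≪≫ eqToIso (by subst h₀; rfl)
    else if h₁ : k = 0 then
      eqToIso (by subst h₁; rfl) ≪≫
        F.mapIso (doubleXIso₁ (ModuleCat.ofHom P.cotangentComplex) hrel (by decide)) ≪≫
        DRingKP.extendTensorIso P.CotangentSpace ≪≫
        (doubleXIso₁ (ModuleCat.ofHom (P.cotangentComplex.baseChange S')) hrel (by decide)).symm ≪≫
        eqToIso (by subst h₁; rfl)
    else (F.map_isZero (isZero_double_X _ hrel k h₀ h₁)).iso (isZero_double_X _ hrel k h₀ h₁)) fun i j hij => ?_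
  obtain rfl : i + 1 = j := hij
  by_cases hi : i = -1
  · subst hi
    rw [dif_pos rfl, dif_neg (by decide), dif_pos (by decide)]
    show _ = F.map ((double (ModuleCat.ofHom P.cotangentComplex) hrel).d (-1) 0) ≫ _
    simp only [Int.reduceNeg, neg_add_cancel, eqToIso_refl, Iso.refl_trans, Iso.trans_refl, Iso.trans_hom,
      Iso.symm_hom, Functor.mapIso_hom, Category.assoc]
    show _ ≫ _ ≫ _ ≫ (double (ModuleCat.ofHom (P.cotangentComplex.baseChange S')) hrel).d (-1) 0 = _
    rw [double_d _ _ (by decide), double_d _ _ (by decide), Iso.inv_hom_id_assoc, ← Functor.map_comp_assoc,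
      Category.assoc, Category.assoc, Iso.inv_hom_id, Category.comp_id, Functor.map_comp, Category.assoc]
    congr 1
    simp only [← Category.assoc]
    congr 1
    refine ModuleCat.hom_ext (LinearMap.ext fun x => ?_)
    induction x using TensorProduct.induction_on with
    | zero => exact (map_zero _).trans (map_zero _).symm
    | tmul c m => rfl
    | add x y hx hy => exact (map_add _ x y).trans ((congrArg₂ (· + ·) hx hy).trans (map_add _ x y).symm)
  · by_cases hi' : i = 0
    · subst hi'
      exact (isZero_double_X _ hrel (0 + 1) (by decide) (by decide)).eq_of_tgt _ _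
    · exact (F.map_isZero (isZero_double_X _ hrel i hi hi')).eq_of_src _ _

/-- With flat terms the derived base change is computed termwise. -/
def lBaseChangeCxIso [DRing.HasLBaseChange (algebraMap S S')] [Module.Flat S P.CotangentSpace]
    [Module.Flat S P.Cotangent] :
    (DRing.LBaseChange (algebraMap S S')).obj (DRing.toD (NLCx.cx P)) ≅ DRing.toD (NLCx.bcCx P S') := by
  have hb : DRing.VanishesAbove (NLCx.cx P) 0 := fun i hi => isZero_double_X _ hrel i (by omega) (by omega)
  have hf : DRing.TermwiseFlat (NLCx.cx P) := fun i => by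
    by_cases h₀ : i = -1
    · subst h₀
      exact Module.Flat.of_linearEquiv (doubleXIso₀ (ModuleCat.ofHom P.cotangentComplex) hrel).toLinearEquiv
    by_cases h₁ : i = 0
    · subst h₁
      exact Module.Flat.of_linearEquiv
        (doubleXIso₁ (ModuleCat.ofHom P.cotangentComplex) hrel (by decide)).toLinearEquiv
    haveI := ModuleCat.subsingleton_of_isZero
      (isZero_double_X (ModuleCat.ofHom P.cotangentComplex) hrel i h₀ h₁)
    exact inferInstanceAs (Module.Flat S ((double (ModuleCat.ofHom P.cotangentComplex) hrel).X i))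
  haveI : (NLCx.cx P).IsStrictlyLE 0 := (CochainComplex.isStrictlyLE_iff _ 0).2 hb
  have hK : ∃ n, DRingKP.IsAbove n (DRing.toD (NLCx.cx P)) :=
    ⟨1, fun i hi => DerivedCategory.isZero_of_isLE (DRing.toD (NLCx.cx P)) 0 i (by lia)⟩
  let Q := (DRingKP.exists_proj_rep_le _ hK).choose
  have hQ := (DRingKP.exists_proj_rep_le _ hK).choose_spec
  let c := hQ.choose
  have hQb : DRing.VanishesAbove Q c := hQ.choose_spec.1
  have hQp := hQ.choose_spec.2.1
  let e := hQ.choose_spec.2.2.some
  haveI := DRingKP.isKProjective_of_vanishesAbove hQb hQp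
  let g := (PerfLocal.exists_lift e.hom).choose
  haveI : IsIso (DerivedCategory.Q.map g) := by
    rw [(PerfLocal.exists_lift e.hom).choose_spec]; infer_instance
  haveI : QuasiIso g := (DerivedCategory.isIso_Q_map_iff_quasiIso _ g).1 inferInstance
  haveI := DRingKP.quasiIso_bc (algebraMap S S') g hQb hb (DRingKP.flat_of_projective hQp) hf
  exact (DRing.LBaseChange (algebraMap S S')).mapIso (asIso (DerivedCategory.Q.map g)).symm ≪≫
    DRingKP.lBaseChangeIso (algebraMap S S') Q ≪≫
    asIso (DerivedCategory.Q.map ((DRingKP.bc (algebraMap S S')).map g)) ≪≫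
    DerivedCategory.Q.mapIso (bcCxIso P S')

end Groth.Agent.NLBC
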