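import Groth.Agent.Conormal.NLPerfect
import Groth.Agent.Conormal.NLBaseChangeD
import Groth.Agent.S2189
import Groth.Agent.S5165
import Groth.Agent.S9287
import Groth.Agent.SyntLib.Mor
import Mathlib.RingTheory.RegularLocalRing.Polynomial

/-!
# Flat algebras whose naive cotangent complex has tor amplitude in `[-1, 0]` are local complete intersections
-/

universe u

open CategoryTheory TensorProduct MvPolynomial

attribute [local instance] HasDerivedCategory.standard

set_option backward.isDefEq.respectTransparency false
set_option linter.style.haveILetI false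

noncomputable section

namespace Groth.Agent.NLBC

/-- Koszul regularity transfers along ring isomorphisms. -/
theorem kAt_map_equiv {P P' : Type u} [CommRing P] [CommRing P'] (e : P ≃+* P') {I : Ideal P}
    (h : ∀ Q : PrimeSpectrum P, KoszulLib.KAt I Q.asIdeal) (Q : PrimeSpectrum P') :
    KoszulLib.KAt (I.map e.toRingHom) Q.asIdeal := by
  letI : Algebra P P' := e.toRingHom.toAlgebra
  haveI : Module.Flat P P' :=
    Module.Flat.of_linearEquiv (LinearEquiv.ofBijective (Algebra.linearMap P P') e.bijective).symm
  exact KoszulLib.KAt.map (B := P') (Q := Q.asIdeal) (h ⟨Q.asIdeal.comap _, inferInstance⟩)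

/-- An ideal of a regular ring with projective conormal module is Koszul-regular. -/
theorem kAt_of_projective_cotangent {P : Type u} [CommRing P] [IsRegularRing P] (I : Ideal P)
    [Module.Projective (P ⧸ I) I.Cotangent] (Q : PrimeSpectrum P) : KoszulLib.KAt I Q.asIdeal := by
  obtain ⟨d, hd⟩ := S5165.result P I
  have hpd : HasProjectiveDimensionLT (ModuleCat.of P I) (d + 1) := hd
  refine KoszulLib.isKoszulRegularIdeal_iff.mp (fun R hR => ?_) Q
  obtain ⟨g, hg, rs, hrs, hI⟩ := S2189.result I (d + 1) hpd R.asIdeal hR
  refine ⟨g, hg, List.ofFn rs.get, KoszulLib.isKoszulRegularSeq_iff_acyclic.mpr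
    (KoszulLib.acyclic_of_isWeaklyRegular' ?_), ?_⟩
  · rw [List.ofFn_get]; exact hrs.toIsWeaklyRegular
  · rw [List.ofFn_get]; exact hI.symm

/-- Over a field, a flat conormal module gives a local complete intersection. -/
theorem isLCI_of_field {k S : Type u} [Field k] [CommRing S] [Algebra k S] {n : ℕ}
    (G : Algebra.Generators k S (ULift.{u} (Fin n))) [Module.Flat S G.toExtension.Cotangent] : LCI.IsLCI k S := by
  let P := G.toExtension
  haveI : IsRegularRing P.Ring := inferInstanceAs (IsRegularRing (MvPolynomial (ULift.{u} (Fin n)) k))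
  haveI : IsNoetherianRing P.Ring := inferInstanceAs (IsNoetherianRing (MvPolynomial (ULift.{u} (Fin n)) k))
  haveI : IsNoetherianRing S := isNoetherianRing_of_surjective P.Ring S _ P.algebraMap_surjective
  haveI : Module.Finite S P.Cotangent := Algebra.Extension.Cotangent.finite (IsNoetherian.noetherian _)
  haveI : Module.Projective S P.Cotangent :=
    haveI := Module.finitePresentation_of_finite S P.Cotangent
    Module.Flat.projective_of_finitePresentation
  let σ : P.Ring ⧸ P.ker ≃+* S := RingHom.quotientKerEquivOfSurjective P.algebraMap_surjective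
  letI := RingHomInvPair.of_ringEquiv σ
  letI := RingHomInvPair.of_ringEquiv_symm σ
  let e : P.ker.Cotangent ≃ₛₗ[(σ : P.Ring ⧸ P.ker →+* S)] P.Cotangent :=
    { toFun := Algebra.Extension.Cotangent.of
      invFun := Algebra.Extension.Cotangent.val
      left_inv := fun _ => rfl
      right_inv := fun _ => rfl
      map_add' := fun _ _ => rfl
      map_smul' := fun r x => by
        obtain ⟨p, rfl⟩ := Ideal.Quotient.mk_surjective r
        show _ = algebraMap P.Ring S p • Algebra.Extension.Cotangent.of x
        rw [algebraMap_smul]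
        refine Algebra.Extension.Cotangent.ext ?_
        rw [Algebra.Extension.Cotangent.val_smul']
        exact algebraMap_smul (P.Ring ⧸ P.ker) p x }
  haveI : Module.Projective (P.Ring ⧸ P.ker) P.ker.Cotangent := Module.Projective.of_equiv e.symm
  let r : MvPolynomial (Fin n) k ≃ₐ[k] MvPolynomial (ULift.{u} (Fin n)) k := renameEquiv k Equiv.ulift.symm
  let f : MvPolynomial (Fin n) k →ₐ[k] S := (aeval G.val).comp r.toAlgHom
  have hf : Function.Surjective f := fun b =>
    ⟨r.symm (G.σ b), (congrArg (aeval G.val) (r.apply_symm_apply _)).trans (G.aeval_val_σ b)⟩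
  refine ⟨Algebra.FiniteType.iff_quotient_mvPolynomial''.mpr ⟨n, f, hf⟩, n, f, hf,
    KoszulLib.isKoszulRegularIdeal_iff.mpr fun Q => ?_⟩
  have hmap : P.ker.map (r.symm.toRingEquiv : P.Ring ≃+* MvPolynomial (Fin n) k).toRingHom =
      RingHom.ker f.toRingHom := by
    refine le_antisymm (Ideal.map_le_iff_le_comap.mpr fun p hp => ?_) fun p hp => ?_
    · show aeval G.val (r (r.symm p)) = 0
      rw [r.apply_symm_apply]
      exact (G.algebraMap_apply _).symm.trans hp
    · have : r p ∈ P.ker := (G.algebraMap_apply _).trans hp
      have h2 := Ideal.mem_map_of_mem (r.symm.toRingEquiv : P.Ring ≃+* MvPolynomial (Fin n) k).toRingHom this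
      rwa [show (r.symm.toRingEquiv : P.Ring ≃+* MvPolynomial (Fin n) k).toRingHom (r p) = p from
        r.symm_apply_apply p] at h2
  rw [← hmap]
  exact kAt_map_equiv _ (fun R => kAt_of_projective_cotangent P.ker R) Q

/-- The criterion. -/
theorem isLCI_of_torAmplitude {A B : Type u} [CommRing A] [CommRing B] [Algebra A B] [Module.Flat A B]
    [Algebra.FinitePresentation A B] (h : DRing.HasTorAmplitudeIn B (-1) 0 (LCI.NL A B)) : LCI.IsLCI A B := by
  obtain ⟨n, ⟨G⟩⟩ := exists_gen (A := A) (B := B) inferInstance
  haveI : Module.Free B G.toExtension.CotangentSpace := Module.Free.of_basis G.cotangentSpaceBasis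
  haveI := flat_cotangent G.toExtension (DRingKP.amp_of_iso (nlIso G).symm h)
  refine ((Groth.Agent.S9287.result A B).mp ⟨inferInstance, inferInstance, fun p => ?_⟩).2
  let κ := p.asIdeal.ResidueField
  let T := p.asIdeal.Fiber B
  letI : Algebra B T := Algebra.TensorProduct.rightAlgebra
  haveI : IsScalarTower A B T := Algebra.TensorProduct.right_isScalarTower
  haveI : Algebra.IsPushout A κ B T := TensorProduct.isPushout
  let G' : Algebra.Generators κ T (ULift.{u} (Fin n)) := bcGen G
  have hG : ∀ i, G'.val i = algebraMap B T (G.val i) := fun _ => rfl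
  haveI : Module.Flat T G'.toExtension.Cotangent :=
    Module.Flat.of_linearEquiv
      (LinearEquiv.ofBijective _ (cotMap_bijective G G' hG (lTensor_injective_of_flat G))).symm
  exact SyntLib.isLCIOver_of_isSyntomic ((Groth.Agent.S9287.result κ T).mpr ⟨inferInstance, isLCI_of_field G'⟩)

end Groth.Agent.NLBC
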