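import Groth.Agent.Conormal.NLQuasiIso
import Groth.Agent.Hensel.HenselizationMore
import Groth.Agent.Hensel.PairHenselization
import Mathlib.RingTheory.RingHom.Etale

/-!
# Lifting (strict) henselizations to presentations
-/

universe u

open CategoryTheory CategoryTheory.Limits TensorProduct IsLocalRing

set_option backward.isDefEq.respectTransparency false
set_option linter.style.haveILetI false

noncomputable section

namespace Groth.Agent.NLBC

/-- A surjection whose kernel is the extended ideal gives the quasi-isomorphism. -/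
theorem quasiIso_of_localLift {A B A' T : Type u} [CommRing A] [CommRing B] [CommRing A'] [CommRing T]
    [Algebra A B] [Algebra A' T] [Algebra A A'] [Algebra B T] [Algebra A T] [IsScalarTower A A' T]
    [IsScalarTower A B T] [Algebra.FormallyEtale A A']
    (L : Type u) [CommRing L] [Algebra (Algebra.Generators.self A B).toExtension.Ring L]
    (M : Submonoid (Algebra.Generators.self A B).toExtension.Ring) [IsLocalization M L]
    (π : L →+* B) (hπ : ∀ p, π (algebraMap _ L p) = algebraMap (Algebra.Generators.self A B).toExtension.Ring B p)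
    (H : Type u) [CommRing H] [Algebra L H] [Algebra.FormallyEtale L H] [Module.Flat L H]
    (σ : H →+* T) (hσ : ∀ l, σ (algebraMap L H l) = algebraMap B T (π l)) (hsurj : Function.Surjective σ)
    (hker : RingHom.ker σ ≤ Ideal.map (algebraMap L H) (RingHom.ker π)) :
    QuasiIso (NLCx.bcMapSelf A B A' T) := by
  let P := (Algebra.Generators.self A B).toExtension
  letI : Algebra P.Ring H := ((algebraMap L H).comp (algebraMap P.Ring L)).toAlgebra
  haveI : IsScalarTower P.Ring L H := IsScalarTower.of_algebraMap_eq' rfl
  letI : Algebra A H := ((algebraMap P.Ring H).comp (algebraMap A P.Ring)).toAlgebra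
  haveI : IsScalarTower A P.Ring H := IsScalarTower.of_algebraMap_eq' rfl
  haveI : Algebra.FormallyEtale P.Ring L := Algebra.FormallyEtale.of_isLocalization M
  haveI : Algebra.FormallyEtale P.Ring H := Algebra.FormallyEtale.comp P.Ring L H
  haveI : Module.Flat P.Ring L := IsLocalization.flat L M
  haveI : Module.Flat P.Ring H := Module.Flat.trans P.Ring L H
  haveI : Algebra.FormallySmooth A P.Ring := inferInstanceAs (Algebra.FormallySmooth A (MvPolynomial _ _))
  have hσ' : ∀ p, σ (algebraMap P.Ring H p) = algebraMap B T (algebraMap P.Ring B p) := fun p => by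
    rw [IsScalarTower.algebraMap_apply P.Ring L H, hσ, hπ]
  let σA : H →ₐ[A] T :=
    { σ with
      commutes' := fun r => by
        show σ (algebraMap A H r) = _
        rw [IsScalarTower.algebraMap_apply A P.Ring H, hσ', ← IsScalarTower.algebraMap_apply A P.Ring B,
          ← IsScalarTower.algebraMap_apply A B T] }
  let Q : Algebra.Extension.{u} A T := Algebra.Extension.ofSurjective σA hsurj
  let f : P.Hom Q :=
    { toRingHom := algebraMap P.Ring H
      toRingHom_algebraMap := fun r => (IsScalarTower.algebraMap_apply A P.Ring H r).symm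
      algebraMap_toRingHom := fun p => hσ' p }
  haveI : Algebra.FormallySmooth A Q.Ring := (Algebra.FormallySmooth.comp A P.Ring H : Algebra.FormallySmooth A H)
  refine quasiIso_bcMapSelf_of_lift Q f (show RingHom.FormallyEtale (algebraMap P.Ring H) from RingHom.formallyEtale_algebraMap.mpr ‹_›)
    (show RingHom.Flat (algebraMap P.Ring H) from RingHom.flat_algebraMap_iff.mpr ‹_›) (le_antisymm ?_ (Ideal.map_le_iff_le_comap.mpr fun p hp => ?_))
  · have h1 : RingHom.ker π ≤ Ideal.map (algebraMap P.Ring L) P.ker := by
      intro l hl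
      obtain ⟨⟨p, m⟩, hpm⟩ := IsLocalization.surj M l
      rw [IsLocalization.mem_map_algebraMap_iff M L]
      refine ⟨⟨⟨p, ?_⟩, m⟩, hpm⟩
      show algebraMap P.Ring B p = 0
      rw [← hπ, ← hpm, map_mul, RingHom.mem_ker.mp hl, zero_mul]
    intro z hz
    have := (hker.trans (Ideal.map_mono h1)) (RingHom.mem_ker.mpr hz)
    rw [Ideal.map_map] at this
    exact this
  · show σ (algebraMap P.Ring H p) = 0
    rw [hσ', show algebraMap P.Ring B p = 0 from hp, map_zero]

/-- The local ring of the presentation at the closed point. -/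
theorem exists_loc (A B : Type u) [CommRing A] [CommRing B] [IsLocalRing B] [Algebra A B] :
    ∃ (M : Submonoid (Algebra.Generators.self A B).toExtension.Ring) (_ : IsLocalRing (Localization M))
      (π : Localization M →+* B), Function.Surjective π ∧ IsLocalHom π ∧
      ∀ p, π (algebraMap _ _ p) = algebraMap (Algebra.Generators.self A B).toExtension.Ring B p := by
  let P := (Algebra.Generators.self A B).toExtension
  let q : Ideal P.Ring := (maximalIdeal B).comap (algebraMap P.Ring B)
  haveI : q.IsPrime := inferInstance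
  have hu : ∀ y : q.primeCompl, IsUnit (algebraMap P.Ring B y) := fun y =>
    IsLocalRing.notMem_maximalIdeal.mp y.2
  let π : Localization.AtPrime q →+* B := IsLocalization.lift hu
  refine ⟨q.primeCompl, inferInstanceAs (IsLocalRing (Localization.AtPrime q)), π, fun b => ?_, ⟨fun l hl => ?_⟩,
    IsLocalization.lift_eq hu⟩
  · obtain ⟨p, rfl⟩ := P.algebraMap_surjective b
    exact ⟨algebraMap _ _ p, IsLocalization.lift_eq hu p⟩
  · obtain ⟨⟨p, m⟩, hpm⟩ := IsLocalization.surj q.primeCompl l
    have h1 : IsUnit (algebraMap P.Ring B p) := by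
      rw [← IsLocalization.lift_eq (S := Localization.AtPrime q) hu p, ← hpm, map_mul]
      exact hl.mul ((IsLocalization.map_units (Localization.AtPrime q) m).map π)
    have h2 : IsUnit (algebraMap P.Ring (Localization.AtPrime q) p) :=
      IsLocalization.map_units _ (⟨p, fun hp => hp h1⟩ : q.primeCompl)
    rw [← hpm] at h2
    exact isUnit_of_mul_isUnit_left h2

section

variable {L B T : Type u} [CommRing L] [IsLocalRing L] [CommRing B] [IsLocalRing B] [CommRing T] [IsLocalRing T]
  (π : L →+* B) (hπ : Function.Surjective π) [IsLocalHom π]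
  [Algebra B T] [IsLocalHom (algebraMap B T)]
  {H : Type u} [CommRing H] [HenselianLocalRing H] [Algebra L H] [IsLocalHom (algebraMap L H)]
  (σ : H →+* T) (hσ : σ.comp (algebraMap L H) = (algebraMap B T).comp π)

include hπ hσ in
/-- The quotient by the extended kernel receives the smaller ring. -/
theorem exists_quotient_local :
    ∃ (S : Type u) (_ : CommRing S) (_ : HenselianLocalRing S) (mk : H →+* S) (ρ : B →+* S) (σ' : S →+* T),
      Function.Surjective mk ∧ IsLocalHom mk ∧ IsLocalHom ρ ∧ ρ.comp π = mk.comp (algebraMap L H) ∧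
      σ'.comp mk = σ ∧ σ'.comp ρ = algebraMap B T ∧
      RingHom.ker mk = Ideal.map (algebraMap L H) (RingHom.ker π) := by
  let J := Ideal.map (algebraMap L H) (RingHom.ker π)
  have hJ : J ≤ RingHom.ker σ := Ideal.map_le_iff_le_comap.mpr fun l hl => by
    rw [Ideal.mem_comap, RingHom.mem_ker, ← RingHom.comp_apply, hσ, RingHom.comp_apply,
      RingHom.mem_ker.mp hl, map_zero]
  haveI : Nontrivial (H ⧸ J) :=
    Ideal.Quotient.nontrivial_iff.mpr fun h => RingHom.ker_ne_top σ (top_le_iff.mp (h ▸ hJ))
  haveI : IsLocalRing (H ⧸ J) := IsLocalRing.of_surjective' (Ideal.Quotient.mk J) Ideal.Quotient.mk_surjective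
  haveI := Hensel.henselianLocalRing_finite H (H ⧸ J)
  let mk := Ideal.Quotient.mk J
  haveI : IsLocalHom mk := IsLocalHom.of_surjective _ Ideal.Quotient.mk_surjective
  have hk : RingHom.ker π ≤ RingHom.ker (mk.comp (algebraMap L H)) := fun l hl => by
    rw [RingHom.mem_ker, RingHom.comp_apply, Ideal.Quotient.eq_zero_iff_mem]
    exact Ideal.mem_map_of_mem _ hl
  let ρ := π.liftOfSurjective hπ ⟨_, hk⟩
  have hρ : ρ.comp π = mk.comp (algebraMap L H) := π.liftOfSurjective_comp hπ ⟨_, hk⟩
  refine ⟨H ⧸ J, inferInstance, inferInstance, mk, ρ, Ideal.Quotient.lift J σ fun z hz => hJ hz,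
    Ideal.Quotient.mk_surjective, inferInstance, ⟨fun b hb => ?_⟩, hρ, Ideal.Quotient.lift_comp_mk _ _ _, ?_,
    Ideal.mk_ker⟩
  · obtain ⟨l, rfl⟩ := hπ b
    rw [← RingHom.comp_apply, hρ] at hb
    exact (isUnit_of_map_unit (algebraMap L H) l (isUnit_of_map_unit mk _ hb)).map π
  · refine RingHom.ext fun b => ?_
    obtain ⟨l, rfl⟩ := hπ b
    rw [RingHom.comp_apply, ← RingHom.comp_apply ρ, hρ, RingHom.comp_apply, Ideal.Quotient.lift_mk,
      ← RingHom.comp_apply, hσ, RingHom.comp_apply]

end

/-- Henselizations. -/
theorem quasiIso_bcMapSelf_henselization (A B A' T : Type u) [CommRing A] [CommRing B] [CommRing A'] [CommRing T]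
    [IsLocalRing B] [IsLocalRing T] [Algebra A B] [Algebra A' T] [Algebra A A'] [Algebra B T]
    [IsLocalHom (algebraMap B T)] [_root_.Hensel.IsHenselization B T] [Algebra A T] [IsScalarTower A A' T]
    [IsScalarTower A B T] [Algebra.FormallyEtale A A'] : QuasiIso (NLCx.bcMapSelf A B A' T) := by
  obtain ⟨M, hL, π, hπs, hπl, hπ⟩ := exists_loc A B
  obtain ⟨hloc, hH⟩ := Hensel.exists_henselization (Localization M)
  haveI : HenselianLocalRing T := _root_.Hensel.IsHenselization.henselian (R := B)
  haveI := hH.henselian
  haveI := Hensel.formallyEtale_env (Localization M) (ResidueField (Localization M))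
  haveI := Hensel.flat_env (R := Localization M) (K := ResidueField (Localization M))
  obtain ⟨σ, hσ, -⟩ := hH.universal T ((algebraMap B T).comp π) (RingHom.isLocalHom_comp _ _)
  obtain ⟨S, _, _, mk, ρ, σ', hmk, hmkl, hρl, hρ, hσ', hσρ, hkmk⟩ := exists_quotient_local π hπs σ hσ
  obtain ⟨τ, hτ, -⟩ := _root_.Hensel.IsHenselization.universal (R := B) (S := T) S ρ hρl
  have h1 : σ'.comp τ = RingHom.id T :=
    (_root_.Hensel.IsHenselization.universal (R := B) (S := T) T (algebraMap B T) ‹_›).unique
      (by rw [RingHom.comp_assoc, hτ, hσρ]) (RingHom.id_comp _)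
  have h2 : τ.comp σ = mk :=
    (hH.universal S (mk.comp (algebraMap _ _)) (RingHom.isLocalHom_comp _ _)).unique
      (by rw [RingHom.comp_assoc, hσ, ← RingHom.comp_assoc, hτ, hρ]) rfl
  refine quasiIso_of_localLift (Localization M) M π hπ _ σ (fun l => RingHom.congr_fun hσ l) (fun y => ?_) ?_
  · obtain ⟨z, hz⟩ := hmk (τ y)
    refine ⟨z, ?_⟩
    rw [← hσ', RingHom.comp_apply, hz, ← RingHom.comp_apply, h1, RingHom.id_apply]
  · intro z hz
    exact hkmk.le (RingHom.mem_ker.mpr ((RingHom.congr_fun h2 z).symm.trans
      ((congrArg τ (RingHom.mem_ker.mp hz)).trans (map_zero τ))))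

set_option maxHeartbeats 1600000 in
/-- Strict henselizations. -/
theorem quasiIso_bcMapSelf_strictHenselization (A B A' T : Type u) [CommRing A] [CommRing B] [CommRing A']
    [CommRing T] [IsLocalRing B] [IsLocalRing T] [Algebra A B] [Algebra A' T] [Algebra A A'] [Algebra B T]
    [IsLocalHom (algebraMap B T)] [_root_.Hensel.IsStrictHenselization B T] [Algebra A T] [IsScalarTower A A' T]
    [IsScalarTower A B T] [Algebra.FormallyEtale A A'] : QuasiIso (NLCx.bcMapSelf A B A' T) := by
  obtain ⟨M, hL, π, hπs, hπl, hπ⟩ := exists_loc A B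
  obtain ⟨hloc, hH⟩ := Hensel.exists_strictHenselization (Localization M)
  haveI : HenselianLocalRing T := _root_.Hensel.IsStrictHenselization.henselian (R := B)
  haveI := hH.henselian
  haveI := Hensel.formallyEtale_env (Localization M) (SeparableClosure (ResidueField (Localization M)))
  haveI := Hensel.flat_env (R := Localization M) (K := SeparableClosure (ResidueField (Localization M)))
  haveI : IsLocalHom ((algebraMap B T).comp π) := RingHom.isLocalHom_comp _ _
  -- the residue fields
  haveI hsB : IsSepClosure (ResidueField B) (ResidueField T) :=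
    _root_.Hensel.IsStrictHenselization.isSepClosure
  haveI := hH.isSepClosure
  letI : Algebra (ResidueField (Localization M)) (ResidueField B) := (ResidueField.map π).toAlgebra
  letI : Algebra (ResidueField (Localization M)) (ResidueField T) :=
    (ResidueField.map ((algebraMap B T).comp π)).toAlgebra
  haveI : IsScalarTower (ResidueField (Localization M)) (ResidueField B) (ResidueField T) :=
    IsScalarTower.of_algebraMap_eq fun c => by
      obtain ⟨l, rfl⟩ := residue_surjective c
      rfl
  have hbij : Function.Bijective (algebraMap (ResidueField (Localization M)) (ResidueField B)) :=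
    ⟨RingHom.injective _, fun c => by
      obtain ⟨b, rfl⟩ := residue_surjective c
      obtain ⟨l, rfl⟩ := hπs b
      exact ⟨residue _ l, rfl⟩⟩
  haveI : Algebra.IsSeparable (ResidueField (Localization M)) (ResidueField B) :=
    ⟨fun c => by obtain ⟨x, rfl⟩ := hbij.2 c; exact isSeparable_algebraMap x⟩
  haveI : Algebra.IsSeparable (ResidueField B) (ResidueField T) := hsB.separable
  haveI : IsSepClosure (ResidueField (Localization M)) (ResidueField T) :=
    ⟨hsB.sep_closed, Algebra.IsSeparable.trans _ (ResidueField B) _⟩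
  let ε := IsSepClosure.equiv (ResidueField (Localization M))
    (ResidueField (Hensel.Env (Localization M) (SeparableClosure (ResidueField (Localization M)))))
    (ResidueField T)
  obtain ⟨σ, ⟨hσ, hσr⟩, -⟩ := hH.universal T ((algebraMap B T).comp π) ε.toRingEquiv.toRingHom
    (RingHom.ext fun c => ε.commutes c)
  obtain ⟨S, _, _, mk, ρ, σ', hmk, hmkl, hρl, hρ, hσ', hσρ, hkmk⟩ := exists_quotient_local π hπs σ hσ
  let τr : ResidueField T →+* ResidueField S := (ResidueField.map mk).comp ε.symm.toRingEquiv.toRingHom
  obtain ⟨τ, ⟨hτ, hτr⟩, -⟩ := _root_.Hensel.IsStrictHenselization.universal (R := B) (S := T) S ρ τr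
    (RingHom.ext fun c => by
      obtain ⟨x, rfl⟩ := hbij.2 c
      obtain ⟨l, rfl⟩ := residue_surjective x
      show ResidueField.map mk (ε.symm (algebraMap _ _ (residue _ l))) = residue S (ρ (π l))
      rw [ε.symm.commutes, ← RingHom.comp_apply ρ, hρ]
      rfl)
  have h1 : σ'.comp τ = RingHom.id T :=
    (_root_.Hensel.IsStrictHenselization.universal (R := B) (S := T) T (algebraMap B T) (RingHom.id _)
      (RingHom.id_comp _)).unique
      ⟨by rw [RingHom.comp_assoc, hτ, hσρ], fun y => by
        obtain ⟨z, hz⟩ := hmk (τ y)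
        have h := hτr y
        rw [← hz] at h
        have h' : residue _ z = ε.symm (residue T y) := RingHom.injective (ResidueField.map mk)
          ((ResidueField.map_residue mk z).trans h)
        rw [RingHom.comp_apply, ← hz, show σ' (mk z) = σ z from RingHom.congr_fun hσ' z, hσr, h']
        exact ε.apply_symm_apply _⟩
      ⟨RingHom.id_comp _, fun y => rfl⟩
  have h2 : τ.comp σ = mk :=
    (hH.universal S (mk.comp (algebraMap _ _)) (ResidueField.map mk) (ResidueField.map_comp _ _).symm).unique
      ⟨by rw [RingHom.comp_assoc, hσ, ← RingHom.comp_assoc, hτ, hρ], fun z => by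
        refine ((congrArg (residue S) (RingHom.comp_apply τ σ z)).trans (hτr (σ z))).trans ?_
        refine (congrArg τr (hσr z)).trans ?_
        show ResidueField.map mk (ε.symm (ε (residue _ z))) = ResidueField.map mk (residue _ z)
        simp only [AlgEquiv.symm_apply_apply]⟩
      ⟨rfl, fun z => (ResidueField.map_residue mk z).symm⟩
  refine quasiIso_of_localLift (Localization M) M π hπ _ σ (fun l => RingHom.congr_fun hσ l) (fun y => ?_) ?_
  · obtain ⟨z, hz⟩ := hmk (τ y)
    refine ⟨z, ?_⟩
    rw [← hσ', RingHom.comp_apply, hz, ← RingHom.comp_apply, h1, RingHom.id_apply]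
  · intro z hz
    exact hkmk.le (RingHom.mem_ker.mpr ((RingHom.congr_fun h2 z).symm.trans
      ((congrArg τ (RingHom.mem_ker.mp hz)).trans (map_zero τ))))

end Groth.Agent.NLBC
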