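import Groth.Agent.Conormal.NLBaseChange
import Groth.Agent.KoszulLib.Conormal
import Groth.Agent.KoszulLib.Pres

/-!
# The kernel of base change on `H^{-1}` of the naive cotangent complex
-/

universe u

open TensorProduct MvPolynomial

set_option backward.isDefEq.respectTransparency false
set_option linter.style.haveILetI false

noncomputable section

namespace Groth.Agent.NLBC

section Pres

variable {A B : Type u} [CommRing A] [CommRing B] [Algebra A B]

theorem finite_projective_cotangent (P : Algebra.Extension.{u} A B)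
    (h : ∀ Q : PrimeSpectrum P.Ring, KoszulLib.KAt P.ker Q.asIdeal) :
    Module.Finite B P.Cotangent ∧ Module.Projective B P.Cotangent := by
  obtain ⟨hf, hp⟩ := KoszulLib.cotangent_finite_projective h
  let σ : P.Ring ⧸ P.ker ≃+* B := RingHom.quotientKerEquivOfSurjective P.algebraMap_surjective
  letI := RingHomInvPair.of_ringEquiv σ
  letI := RingHomInvPair.of_ringEquiv_symm σ
  let e : P.ker.Cotangent ≃ₛₗ[(σ : P.Ring ⧸ P.ker →+* B)] P.Cotangent :=
    { toFun := Algebra.Extension.Cotangent.of
      invFun := Algebra.Extension.Cotangent.val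
      left_inv := fun _ => rfl
      right_inv := fun _ => rfl
      map_add' := fun _ _ => rfl
      map_smul' := fun r x => by
        obtain ⟨p, rfl⟩ := Ideal.Quotient.mk_surjective r
        show _ = algebraMap P.Ring B p • Algebra.Extension.Cotangent.of x
        rw [algebraMap_smul]
        refine Algebra.Extension.Cotangent.ext ?_
        rw [Algebra.Extension.Cotangent.val_smul']
        exact algebraMap_smul (P.Ring ⧸ P.ker) p x }
  exact ⟨Module.Finite.of_surjective e.toLinearMap e.surjective, Module.Projective.of_equiv e⟩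

lemma exists_gen (hft : Algebra.FiniteType A B) :
    ∃ n : ℕ, Nonempty (Algebra.Generators A B (ULift.{u} (Fin n))) := by
  obtain ⟨n, f, hf⟩ := Algebra.FiniteType.iff_quotient_mvPolynomial''.mp hft
  refine ⟨n, ⟨Algebra.Generators.ofAlgHom (f.comp (renameEquiv A Equiv.ulift).toAlgHom) ?_⟩⟩
  exact hf.comp (renameEquiv A Equiv.ulift).surjective

/-- The ideal of a finite presentation of a local complete intersection is Koszul-regular. -/
theorem kAt_generators (hl : LCI.IsLCI A B) {n : ℕ} (G : Algebra.Generators A B (ULift.{u} (Fin n)))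
    (Q : PrimeSpectrum G.toExtension.Ring) : KoszulLib.KAt G.toExtension.ker Q.asIdeal := by
  let e : MvPolynomial (Fin n) A ≃ₐ[A] MvPolynomial (ULift.{u} (Fin n)) A :=
    renameEquiv A Equiv.ulift.symm
  let f : MvPolynomial (Fin n) A →ₐ[A] B := (aeval G.val).comp e.toAlgHom
  have hf : Function.Surjective f := fun b =>
    ⟨e.symm (G.σ b), (congrArg (aeval G.val) (e.apply_symm_apply _)).trans (G.aeval_val_σ b)⟩
  letI : Algebra (MvPolynomial (Fin n) A) (MvPolynomial (ULift.{u} (Fin n)) A) := e.toRingEquiv.toRingHom.toAlgebra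
  haveI : Module.Flat (MvPolynomial (Fin n) A) (MvPolynomial (ULift.{u} (Fin n)) A) :=
    Module.Flat.of_linearEquiv
      (LinearEquiv.ofBijective (Algebra.linearMap (MvPolynomial (Fin n) A) _) e.bijective).symm
  have h := KoszulLib.KAt.map (B := MvPolynomial (ULift.{u} (Fin n)) A) (Q := Q.asIdeal)
    ((KoszulLib.isLCI_iff.mp hl).2 n f hf ⟨Q.asIdeal.comap _, inferInstance⟩)
  have : Ideal.map (algebraMap (MvPolynomial (Fin n) A) (MvPolynomial (ULift.{u} (Fin n)) A)) (RingHom.ker f.toRingHom) = G.toExtension.ker := by
    refine le_antisymm (Ideal.map_le_iff_le_comap.mpr fun p hp => ?_) fun p hp => ?_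
    · show algebraMap G.toExtension.Ring B (e p) = 0
      exact (G.algebraMap_apply _).trans hp
    · rw [show p = e (e.symm p) from (e.apply_symm_apply p).symm]
      refine Ideal.mem_map_of_mem _ ?_
      show aeval G.val (e (e.symm p)) = 0
      rw [e.apply_symm_apply]
      exact (G.algebraMap_apply _).symm.trans hp
  rwa [this] at h

end Pres

variable {R S R' S' : Type u} [CommRing R] [CommRing S] [CommRing R'] [CommRing S'] [Algebra R S]
  [Algebra R' S'] [Algebra R R'] [Algebra S S'] [Algebra R S'] [IsScalarTower R R' S'] [IsScalarTower R S S']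

lemma map_mem_bcH1 {P P₂ : Algebra.Extension.{u} R S} (u : P.Hom P₂) {x : S' ⊗[S] P.Cotangent}
    (hx : x ∈ NLCx.bcH1 P S') : (Algebra.Extension.Cotangent.map u).baseChange S' x ∈ NLCx.bcH1 P₂ S' := by
  have key : P₂.cotangentComplex.baseChange S' ∘ₗ (Algebra.Extension.Cotangent.map u).baseChange S' =
      (Algebra.Extension.CotangentSpace.map u).baseChange S' ∘ₗ P.cotangentComplex.baseChange S' := by
    rw [← LinearMap.baseChange_comp, ← LinearMap.baseChange_comp]
    congr 1
    exact LinearMap.ext fun y => (Algebra.Extension.CotangentSpace.map_cotangentComplex u y).symm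
  have := DFunLike.congr_fun key x
  rw [LinearMap.comp_apply, LinearMap.comp_apply, LinearMap.mem_ker.mp hx, map_zero] at this
  exact this

lemma baseChange_map_eq {P P₂ : Algebra.Extension.{u} R S} (f g : P.Hom P₂) {x : S' ⊗[S] P.Cotangent}
    (hx : x ∈ NLCx.bcH1 P S') :
    (Algebra.Extension.Cotangent.map f).baseChange S' x = (Algebra.Extension.Cotangent.map g).baseChange S' x := by
  have key : (Algebra.Extension.Cotangent.map f).baseChange S' - (Algebra.Extension.Cotangent.map g).baseChange S' =
      (f.sub g).baseChange S' ∘ₗ P.cotangentComplex.baseChange S' := by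
    rw [← LinearMap.baseChange_sub, ← LinearMap.baseChange_comp]
    congr 1
    exact Algebra.Extension.Cotangent.map_sub_map f g
  have := DFunLike.congr_fun key x
  rw [LinearMap.comp_apply, LinearMap.mem_ker.mp hx, map_zero, LinearMap.sub_apply, sub_eq_zero] at this
  exact this

lemma baseChange_roundtrip {P P₂ : Algebra.Extension.{u} R S} (u : P.Hom P₂) (w : P₂.Hom P)
    {x : S' ⊗[S] P.Cotangent} (hx : x ∈ NLCx.bcH1 P S') :
    (Algebra.Extension.Cotangent.map w).baseChange S' ((Algebra.Extension.Cotangent.map u).baseChange S' x) = x := by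
  have h : (Algebra.Extension.Cotangent.map w).baseChange S' ∘ₗ (Algebra.Extension.Cotangent.map u).baseChange S' =
      (Algebra.Extension.Cotangent.map (w.comp u)).baseChange S' := by
    rw [← LinearMap.baseChange_comp]
    congr 1
    exact LinearMap.ext fun y => (DFunLike.congr_fun (Algebra.Extension.Cotangent.map_comp (f := u) (g := w)) y).symm
  rw [← LinearMap.comp_apply, h, baseChange_map_eq _ (Algebra.Extension.Hom.id _) hx,
    Algebra.Extension.Cotangent.map_id, LinearMap.baseChange_id, LinearMap.id_apply]

/-- Two presentations have the same base changed `H^{-1}`. -/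
def bcH1Equiv {ι κ : Type u} (G : Algebra.Generators R S ι) (H : Algebra.Generators R S κ) :
    NLCx.bcH1 G.toExtension S' ≃ₗ[S'] NLCx.bcH1 H.toExtension S' where
  toFun x := ⟨_, map_mem_bcH1 (G.defaultHom H).toExtensionHom x.2⟩
  map_add' x y := Subtype.ext (map_add _ _ _)
  map_smul' r x := Subtype.ext (map_smul _ _ _)
  invFun x := ⟨_, map_mem_bcH1 (H.defaultHom G).toExtensionHom x.2⟩
  left_inv x := Subtype.ext (baseChange_roundtrip _ _ x.2)
  right_inv x := Subtype.ext (baseChange_roundtrip _ _ x.2)

variable {ι : Type u} (G : Algebra.Generators R S ι) (G' : Algebra.Generators R' S' ι)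
  (h : ∀ i, G'.val i = algebraMap S S' (G.val i))

/-- The kernel on `H^{-1}` is the kernel on conormal modules. -/
def kerBcH1Equiv :
    LinearMap.ker (cotMap G G' h) ≃ₗ[S'] LinearMap.ker (NLCx.bcH1Map (svHom G G' h)) where
  toFun x := ⟨⟨x.1, LinearMap.mem_ker.mpr ((spaceMap_bijective G G' h).1 (by
      rw [map_zero, ← LinearMap.comp_apply, ← comp_cotMap, LinearMap.comp_apply, LinearMap.mem_ker.mp x.2,
        map_zero]))⟩,
    LinearMap.mem_ker.mpr (Algebra.Extension.h1Cotangentι_ext _ _ (LinearMap.mem_ker.mp x.2))⟩
  map_add' _ _ := rfl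
  map_smul' _ _ := rfl
  invFun x := ⟨x.1.1, LinearMap.mem_ker.mpr (congrArg (fun z => z.1) (LinearMap.mem_ker.mp x.2))⟩
  left_inv _ := rfl
  right_inv _ := rfl

/-- The kernel for the presentations on all elements. -/
def kerSelfEquiv :
    LinearMap.ker (cotMap G G' h) ≃ₗ[S'] LinearMap.ker (NLCx.bcH1Map
      ((Algebra.Generators.self R S).defaultHom (Algebra.Generators.self R' S')).toExtensionHom) := by
  refine (kerBcH1Equiv G G' h).trans ((bcH1Equiv G (Algebra.Generators.self R S)).ofSubmodules _ _ ?_)
  let u := (G.defaultHom (Algebra.Generators.self R S)).toExtensionHom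
  let d := ((Algebra.Generators.self R S).defaultHom (Algebra.Generators.self R' S')).toExtensionHom
  let u' := (G'.defaultHom (Algebra.Generators.self R' S')).toExtensionHom
  have hd : LinearMap.liftBaseChange S' (Algebra.Extension.Cotangent.map (d.comp u)) =
      LinearMap.liftBaseChange S' (Algebra.Extension.Cotangent.map d) ∘ₗ
        (Algebra.Extension.Cotangent.map u).baseChange S' := by
    ext y
    simp [Algebra.Extension.Cotangent.map_comp]
  have hu : LinearMap.liftBaseChange S' (Algebra.Extension.Cotangent.map (u'.comp (svHom G G' h))) =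
      Algebra.Extension.Cotangent.map u' ∘ₗ cotMap G G' h := by
    ext y
    simp [Algebra.Extension.Cotangent.map_comp]
  have key : ∀ x : NLCx.bcH1 G.toExtension S', NLCx.bcH1Map d (bcH1Equiv G (Algebra.Generators.self R S) x) =
      Algebra.Extension.H1Cotangent.map u' (NLCx.bcH1Map (svHom G G' h) x) := fun x => by
    have h1 : NLCx.bcH1Map d (bcH1Equiv G (Algebra.Generators.self R S) x) = NLCx.bcH1Map (d.comp u) x :=
      Algebra.Extension.h1Cotangentι_ext _ _ (DFunLike.congr_fun hd x.1).symm
    rw [h1, bcH1Map_eq (d.comp u) (u'.comp (svHom G G' h))]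
    exact Algebra.Extension.h1Cotangentι_ext _ _ (DFunLike.congr_fun hu x.1)
  have hinj : Function.Injective (Algebra.Extension.H1Cotangent.map u') := (G'.equivH1Cotangent).injective
  ext y
  simp only [Submodule.mem_map, LinearMap.mem_ker]
  constructor
  · rintro ⟨x, hx, rfl⟩
    exact (key x).trans ((congrArg _ hx).trans (map_zero _))
  · intro hy
    obtain ⟨x, rfl⟩ := (bcH1Equiv G (Algebra.Generators.self R S)).surjective y
    exact ⟨x, hinj ((key x).symm.trans (hy.trans (map_zero _).symm)), rfl⟩

end Groth.Agent.NLBC
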