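import Groth.Agent.Conormal.NLKer
import Groth.Agent.Conormal.NLBaseChangeCx
import Groth.Prelude.Def_DRing2

/-!
# The naive cotangent complex of a local complete intersection is perfect
-/

universe u

open CategoryTheory CategoryTheory.Limits HomologicalComplex

attribute [local instance] HasDerivedCategory.standard

set_option backward.isDefEq.respectTransparency false
set_option linter.style.haveILetI false

noncomputable section

namespace Groth.Agent.NLBC

variable {A B : Type u} [CommRing A] [CommRing B] [Algebra A B]

/-- A presentation with finite projective terms represents the naive cotangent complex. -/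
theorem termwiseFiniteProjective_cx (P : Algebra.Extension.{u} A B) [Module.Finite B P.Cotangent]
    [Module.Projective B P.Cotangent] [Module.Finite B P.CotangentSpace] [Module.Projective B P.CotangentSpace] :
    DRing.VanishesOutside (NLCx.cx P) (-1) 0 ∧ DRing.TermwiseFiniteProjective (NLCx.cx P) := by
  have hr : (ComplexShape.up ℤ).Rel (-1) 0 := by simp
  refine ⟨fun i hi => isZero_double_X _ hr i (by omega) (by omega), fun i => ?_⟩
  by_cases h₀ : i = -1
  · subst h₀
    let e := (doubleXIso₀ (ModuleCat.ofHom P.cotangentComplex) hr).toLinearEquiv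
    exact ⟨Module.Finite.equiv e.symm, Module.Projective.of_equiv e.symm⟩
  by_cases h₁ : i = 0
  · subst h₁
    let e := (doubleXIso₁ (ModuleCat.ofHom P.cotangentComplex) hr (by decide)).toLinearEquiv
    exact ⟨Module.Finite.equiv e.symm, Module.Projective.of_equiv e.symm⟩
  haveI := ModuleCat.subsingleton_of_isZero (isZero_double_X (ModuleCat.ofHom P.cotangentComplex) hr i h₀ h₁)
  exact ⟨inferInstanceAs (Module.Finite B ((double (ModuleCat.ofHom P.cotangentComplex) hr).X i)),
    inferInstanceAs (Module.Projective B ((double (ModuleCat.ofHom P.cotangentComplex) hr).X i))⟩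

/-- Any presentation represents `NL`. -/
def nlIso {ι : Type u} (G : Algebra.Generators A B ι) : DRing.toD (NLCx.cx G.toExtension) ≅ LCI.NL A B :=
  let e := genEquiv G (Algebra.Generators.self A B)
  haveI : QuasiIso e.hom := e.quasiIso_hom
  haveI : IsIso (DerivedCategory.Q.map e.hom) := (DerivedCategory.isIso_Q_map_iff_quasiIso _ _).2 inferInstance
  asIso (DerivedCategory.Q.map e.hom)

theorem nl_perfect_of_isLCI (h : LCI.IsLCI A B) :
    DRing.IsPerfect B (LCI.NL A B) ∧ DRing.HasTorAmplitudeIn B (-1) 0 (LCI.NL A B) := by
  obtain ⟨n, ⟨G⟩⟩ := exists_gen h.1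
  obtain ⟨_, _⟩ := finite_projective_cotangent G.toExtension (kAt_generators h G)
  haveI : Module.Finite B G.toExtension.CotangentSpace := Module.Finite.of_basis G.cotangentSpaceBasis
  haveI : Module.Free B G.toExtension.CotangentSpace := Module.Free.of_basis G.cotangentSpaceBasis
  obtain ⟨h1, h2⟩ := termwiseFiniteProjective_cx G.toExtension
  refine ⟨⟨_, _, _, h1, h2, ⟨nlIso G⟩⟩, _, h1, fun i => ?_, ⟨nlIso G⟩⟩
  haveI := (h2 i).2
  infer_instance

end Groth.Agent.NLBC
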