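import Groth.Agent.Conormal.NLBaseChangeCx
import Groth.Agent.FlatCx.Homology
import Groth.Agent.Conormal.H1Ring
import Mathlib.RingTheory.RingHom.Flat

/-!
# Quasi-isomorphisms of naive cotangent complexes
-/

universe u

open CategoryTheory CategoryTheory.Limits TensorProduct HomologicalComplex

set_option backward.isDefEq.respectTransparency false
set_option linter.style.haveILetI false

noncomputable section

namespace Groth.Agent.NLBC

variable {A : Type u} [CommRing A] {X₀ X₁ Y₀ Y₁ : ModuleCat.{u} A} {f : X₀ ⟶ X₁} {f' : Y₀ ⟶ Y₁}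
  {hr : (ComplexShape.up ℤ).Rel (-1) 0}

/-- Elementwise criterion for two-term complexes. -/
theorem quasiIso_double (φ : double f hr ⟶ double f' hr) (a : X₀ ⟶ Y₀) (b : X₁ ⟶ Y₁)
    (ha : φ.f (-1) = (doubleXIso₀ f hr).hom ≫ a ≫ (doubleXIso₀ f' hr).inv)
    (hb : φ.f 0 = (doubleXIso₁ f hr (by decide)).hom ≫ b ≫ (doubleXIso₁ f' hr (by decide)).inv)
    (h₁ : ∀ x, f x = 0 → a x = 0 → x = 0) (h₂ : ∀ y, f' y = 0 → ∃ x, f x = 0 ∧ a x = y)
    (h₃ : ∀ y, (∃ x, f' x = b y) → ∃ x, f x = y) (h₄ : ∀ z, ∃ y x, f' x = b y - z) : QuasiIso φ := by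
  let e₀ := (doubleXIso₀ f hr).toLinearEquiv
  let e₀' := (doubleXIso₀ f' hr).toLinearEquiv
  let e₁ := (doubleXIso₁ f hr (by decide)).toLinearEquiv
  let e₁' := (doubleXIso₁ f' hr (by decide)).toLinearEquiv
  have ea : ∀ z, (φ.f (-1)).hom z = e₀'.symm (a (e₀ z)) := fun z => by rw [ha]; rfl
  have eb : ∀ z, (φ.f 0).hom z = e₁'.symm (b (e₁ z)) := fun z => by rw [hb]; rfl
  have ed : ∀ z, ((double f hr).d (-1) 0).hom z = e₁.symm (f (e₀ z)) := fun z => by
    rw [double_d f hr (by decide)]; rfl
  have ed' : ∀ z, ((double f' hr).d (-1) 0).hom z = e₁'.symm (f' (e₀' z)) := fun z => by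
    rw [double_d f' hr (by decide)]; rfl
  refine ⟨fun k => (quasiIsoAt_iff_isIso_homologyMap φ k).mpr ?_⟩
  by_cases hk₁ : k = -1
  · subst hk₁
    have hp : (ComplexShape.up ℤ).prev (-1) = -2 := by simp
    have hn : (ComplexShape.up ℤ).next (-1) = 0 := by simp
    refine (ConcreteCategory.isIso_iff_bijective _).mpr
      ⟨(FlatCx.homologyMap_injective_iff φ hp hn).mpr fun z hz hzr => ?_,
        (FlatCx.homologyMap_surjective_iff φ hp hn).mpr fun z hz => ?_⟩
    · rw [ed, map_eq_zero_iff _ e₁.symm.injective] at hz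
      rw [double_d_eq_zero₀ f' hr _ _ (by decide)] at hzr
      obtain ⟨w, hw⟩ := hzr
      have h0 : e₀'.symm (a (e₀ z)) = 0 := (ea z).symm.trans (hw.symm.trans rfl)
      have : e₀ z = 0 := h₁ _ hz ((map_eq_zero_iff _ e₀'.symm.injective).mp h0)
      rw [(map_eq_zero_iff _ e₀.injective).mp this]
      exact Submodule.zero_mem _
    · rw [ed', map_eq_zero_iff _ e₁'.symm.injective] at hz
      obtain ⟨x, hx, hx'⟩ := h₂ _ hz
      refine ⟨e₀.symm x, by rw [ed, e₀.apply_symm_apply, hx, map_zero], ?_⟩
      rw [ea, e₀.apply_symm_apply, hx', e₀'.symm_apply_apply, sub_self]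
      exact Submodule.zero_mem _
  by_cases hk₀ : k = 0
  · subst hk₀
    have hp : (ComplexShape.up ℤ).prev 0 = -1 := by simp
    have hn : (ComplexShape.up ℤ).next 0 = 1 := by simp
    refine (ConcreteCategory.isIso_iff_bijective _).mpr
      ⟨(FlatCx.homologyMap_injective_iff φ hp hn).mpr fun z _ hzr => ?_,
        (FlatCx.homologyMap_surjective_iff φ hp hn).mpr fun z _ => ?_⟩
    · obtain ⟨w, hw⟩ := hzr
      rw [ed', eb] at hw
      obtain ⟨x, hx⟩ := h₃ _ ⟨_, e₁'.symm.injective hw⟩
      exact ⟨e₀.symm x, by rw [ed, e₀.apply_symm_apply, hx, e₁.symm_apply_apply]⟩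
    · obtain ⟨y, x, hx⟩ := h₄ (e₁' z)
      refine ⟨e₁.symm y, ?_, e₀'.symm x, ?_⟩
      · rw [double_d_eq_zero₀ f hr _ _ (by decide)]; rfl
      · rw [ed', e₀'.apply_symm_apply, hx, map_sub, e₁'.symm_apply_apply, eb, e₁.apply_symm_apply]
  exact isIso_of_isInitial
    ((ShortComplex.isZero_homology_of_isZero_X₂ _ (isZero_double_X f hr k hk₁ hk₀)).isInitial)
    ((ShortComplex.isZero_homology_of_isZero_X₂ _ (isZero_double_X f' hr k hk₁ hk₀)).isInitial) _

/-- Homotopic maps are quasi-isomorphisms together. -/
theorem quasiIso_of_homotopy {K L : CochainComplex (ModuleCat.{u} A) ℤ} {φ ψ : K ⟶ L} (h : Homotopy φ ψ)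
    (hφ : QuasiIso φ) : QuasiIso ψ := by
  refine ⟨fun i => (quasiIsoAt_iff_isIso_homologyMap ψ i).mpr ?_⟩
  rw [← h.homologyMap_eq i]
  exact (quasiIsoAt_iff_isIso_homologyMap φ i).mp (hφ.quasiIsoAt i)

section Map

variable {R S R' : Type u} [CommRing R] [CommRing S] [Algebra R S] [CommRing R'] [Algebra R' S] [Algebra R R']
  [IsScalarTower R R' S] {P : Algebra.Extension.{u} R S} {P' : Algebra.Extension.{u} R' S}

/-- A map of presentations which is bijective on the cohomology modules is a quasi-isomorphism. -/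
theorem quasiIso_map (g : P.Hom P') (h₁ : Function.Bijective (Algebra.Extension.H1Cotangent.map g))
    (h₀ : Function.Bijective (KaehlerDifferential.map R R' S S)) : QuasiIso (NLCx.map g) := by
  have hnat : ∀ w, KaehlerDifferential.map R R' S S (P.toKaehler w) =
      P'.toKaehler (Algebra.Extension.CotangentSpace.map g w) := fun w => by
    induction w using TensorProduct.induction_on with
    | zero => simp only [map_zero]
    | add a b ha hb => simp only [map_add, ha, hb]
    | tmul x y =>
      have hy : y ∈ Submodule.span P.Ring (Set.range (KaehlerDifferential.D R P.Ring)) := by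
        rw [KaehlerDifferential.span_range_derivation]; exact Submodule.mem_top
      induction hy using Submodule.span_induction generalizing x with
      | mem y hy =>
        obtain ⟨a, rfl⟩ := hy
        rw [Algebra.Extension.CotangentSpace.map_tmul]
        simp only [Algebra.Extension.toKaehler, KaehlerDifferential.mapBaseChange_tmul, map_smul,
          KaehlerDifferential.map_D]
        rw [show g.toAlgHom a = g.toRingHom a from rfl, g.algebraMap_toRingHom a]
        simp
      | zero => simp only [TensorProduct.tmul_zero, map_zero]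
      | add a b _ _ ha hb => simp only [TensorProduct.tmul_add, map_add, ha, hb]
      | smul r a _ ha => rw [← TensorProduct.smul_tmul]; exact ha _
  refine quasiIso_double (NLCx.map g) (ModuleCat.ofHom (Algebra.Extension.Cotangent.map g))
    (ModuleCat.ofHom (Algebra.Extension.CotangentSpace.map g)) (map_f₀ g) (map_f₁ g)
    (fun x hx hax => ?_) (fun y hy => ?_) (fun y hy => ?_) fun z => ?_
  · have := h₁.1 (a₁ := ⟨x, hx⟩) (a₂ := 0) (Algebra.Extension.h1Cotangentι_ext _ _ (hax.trans
      (congrArg Subtype.val (map_zero (Algebra.Extension.H1Cotangent.map g))).symm))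
    exact congrArg Subtype.val this
  · obtain ⟨x, hx⟩ := h₁.2 ⟨y, hy⟩
    exact ⟨x.1, x.2, congrArg Subtype.val hx⟩
  · obtain ⟨w, hw⟩ := hy
    refine (P.exact_cotangentComplex_toKaehler y).mp (h₀.1 ?_)
    rw [map_zero, hnat]
    exact (P'.exact_cotangentComplex_toKaehler _).mpr ⟨w, hw⟩
  · obtain ⟨w, hw⟩ := h₀.2 (P'.toKaehler z)
    obtain ⟨y, rfl⟩ := P.toKaehler_surjective w
    obtain ⟨x, hx⟩ := (P'.exact_cotangentComplex_toKaehler (Algebra.Extension.CotangentSpace.map g y - z)).mp
      (by rw [map_sub, ← hnat, hw, sub_self])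
    exact ⟨y, x, hx⟩

end Map

/-- The canonical map is a quasi-isomorphism if the presentation lifts along a flat formally étale ring map. -/
theorem quasiIso_bcMapSelf_of_lift {R S R' T : Type u} [CommRing R] [CommRing S] [CommRing R'] [CommRing T]
    [Algebra R S] [Algebra R' T] [Algebra R R'] [Algebra S T] [Algebra R T] [IsScalarTower R R' T]
    [IsScalarTower R S T] [Algebra.FormallyEtale R R']
    (Q : Algebra.Extension.{u} R T) [Algebra.FormallySmooth R Q.Ring]
    (f : (Algebra.Generators.self R S).toExtension.Hom Q) (hfe : f.toRingHom.FormallyEtale)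
    (hflat : f.toRingHom.Flat) (hker : Q.ker = Ideal.map f.toRingHom (Algebra.Generators.self R S).toExtension.ker) :
    QuasiIso (NLCx.bcMapSelf R S R' T) := by
  let P := (Algebra.Generators.self R S).toExtension
  let T₀ := (Algebra.Generators.self R T).toExtension
  letI alg : Algebra P.Ring Q.Ring := f.toRingHom.toAlgebra
  have halg : algebraMap P.Ring Q.Ring = f.toRingHom := rfl
  haveI : Module.Flat P.Ring Q.Ring := hflat
  have hH : Function.Bijective ((f.mapKer halg).liftBaseChange Q.Ring) := by
    constructor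
    · have he : (Submodule.subtype Q.ker) ∘ ((f.mapKer halg).liftBaseChange Q.Ring) =
          (TensorProduct.AlgebraTensorModule.rid P.Ring Q.Ring Q.Ring) ∘ (P.ker.subtype.lTensor Q.Ring) := by
        funext x
        induction x using TensorProduct.induction_on with
        | zero => simp
        | tmul q a =>
          simp [halg, Algebra.smul_def, mul_comm]
          exact ((TensorProduct.AlgebraTensorModule.rid_tmul (A := Q.Ring) (a : P.Ring) q).trans
            ((Algebra.smul_def _ _).trans (mul_comm _ _))).symm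
        | add x y hx hy => simp only [Function.comp_apply, map_add] at hx hy ⊢; rw [hx, hy]
      refine Function.Injective.of_comp (f := Submodule.subtype Q.ker) ?_
      rw [he]
      exact (LinearEquiv.injective _).comp
        (Module.Flat.lTensor_preserves_injective_linearMap _ P.ker.injective_subtype)
    · rintro ⟨q, hq⟩
      have hq' := hq
      rw [hker] at hq'
      induction hq' using Submodule.span_induction with
      | mem p hp =>
        obtain ⟨a, ha, rfl⟩ := hp
        exact ⟨1 ⊗ₜ ⟨a, ha⟩, Subtype.ext (by simp)⟩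
      | zero => exact ⟨0, Subtype.ext (by simp)⟩
      | add x y hx hy hx' hy' =>
        obtain ⟨u, hu⟩ := hx' (hker ▸ hx)
        obtain ⟨v, hv⟩ := hy' (hker ▸ hy)
        exact ⟨u + v, by rw [map_add, hu, hv]; rfl⟩
      | smul r x hx hx' =>
        obtain ⟨u, hu⟩ := hx' (hker ▸ hx)
        exact ⟨r • u, by rw [map_smul, hu]; rfl⟩
  haveI hi : IsIso (NLCx.bcMap (S' := T) f) :=
    isIso_bcMap f (Algebra.Extension.tensorCotangent f halg hH).bijective
      (Algebra.Extension.tensorCotangentSpaceOfFormallyEtale f hfe).bijective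
  let s : P.Hom T₀ := ((Algebra.Generators.self R S).defaultHom (Algebra.Generators.self R T)).toExtensionHom
  let v : T₀.Hom (Algebra.Generators.self R' T).toExtension :=
    ((Algebra.Generators.self R T).defaultHom (Algebra.Generators.self R' T)).toExtensionHom
  haveI : Algebra.FormallySmooth R T₀.Ring := inferInstanceAs (Algebra.FormallySmooth R (MvPolynomial _ _))
  have hd : QuasiIso (NLCx.map Q.defaultHom) := by
    refine quasiIso_map _ ?_ ?_
    · rw [← Algebra.Extension.H1Cotangent.equivOfFormallySmooth_toLinearMap Q.defaultHom]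
      exact LinearEquiv.bijective _
    · exact ⟨(injective_iff_map_eq_zero _).mpr fun t ht => by
        obtain ⟨w, rfl⟩ := (KaehlerDifferential.exact_mapBaseChange_map R R T t).mp ht
        rw [Subsingleton.elim w 0, map_zero], KaehlerDifferential.map_surjective R R T⟩
  have hv : QuasiIso (NLCx.map v) :=
    quasiIso_map v (Conormal.bijective_map_of_formallyEtale R R' T)
      ⟨(injective_iff_map_eq_zero _).mpr fun t ht => by
        obtain ⟨w, rfl⟩ := (KaehlerDifferential.exact_mapBaseChange_map R R' T t).mp ht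
        rw [Subsingleton.elim w 0, map_zero], KaehlerDifferential.map_surjective R R' T⟩
  have hs : QuasiIso (NLCx.bcMap (S' := T) s ≫ NLCx.map Q.defaultHom) := by
    rw [bcMap_comp]
    exact quasiIso_of_homotopy (bcMapHtpy f (Q.defaultHom.comp s)) inferInstance
  haveI : QuasiIso (NLCx.bcMap (S' := T) s) := quasiIso_of_comp_right _ (NLCx.map Q.defaultHom)
  have hc : NLCx.bcMap (S' := T) s ≫ NLCx.map v = NLCx.bcMap (v.comp s) := by
    apply from_double_hom_ext
    · rw [comp_f, bcMap_f₀, map_f₀, bcMap_f₀]
      simp only [Category.assoc, Iso.inv_hom_id_assoc]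
      rw [← Category.assoc (ModuleCat.ofHom (LinearMap.liftBaseChange T (Algebra.Extension.Cotangent.map s))),
        ← ModuleCat.ofHom_comp]
      congr 3
      ext y
      simp [Algebra.Extension.Cotangent.map_comp]
    · rw [comp_f, bcMap_f₁, map_f₁, bcMap_f₁]
      simp only [Category.assoc, Iso.inv_hom_id_assoc]
      rw [← Category.assoc
          (ModuleCat.ofHom (LinearMap.liftBaseChange T (Algebra.Extension.CotangentSpace.map s))),
        ← ModuleCat.ofHom_comp]
      congr 3
      ext y
      simp [Algebra.Extension.CotangentSpace.map_comp]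
  have : QuasiIso (NLCx.bcMap (S' := T) (v.comp s)) := hc ▸ inferInstance
  exact quasiIso_of_homotopy (bcMapHtpy (v.comp s) _) this

end Groth.Agent.NLBC
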