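import Groth.Agent.Conormal.H1
import Groth.Agent.QC.Local
import Mathlib.AlgebraicGeometry.Morphisms.Etale

/-!
# The first cohomology sheaf of the naive cotangent complex of a morphism
-/

universe u

open CategoryTheory CategoryTheory.Limits AlgebraicGeometry TopologicalSpace Opposite TensorProduct

set_option backward.isDefEq.respectTransparency false
set_option linter.style.haveILetI false

noncomputable section

namespace Groth.Agent.NLSheaf

open Groth.Agent.QC Groth.Agent.ModDesc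

variable {X Y : Scheme.{u}} (f : X ⟶ Y)

/-- An affine chart pair. -/
structure Pair where
  /-- the source -/
  U : X.affineOpens
  /-- the target -/
  V : Y.affineOpens
  e : U.1 ≤ f ⁻¹ᵁ V.1

variable {f}

/-- `H¹` of a pair. -/
abbrev H1 (P : Pair f) : Type u := NLCx.ChartH1 f P.U P.V P.e

/-- Nested pairs. -/
structure Sub (Q P : Pair f) : Prop where
  hU : Q.U.1 ≤ P.U.1
  hV : Q.V.1 ≤ P.V.1

lemma Sub.refl (P : Pair f) : Sub P P := ⟨le_rfl, le_rfl⟩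

lemma Sub.trans {R Q P : Pair f} (h : Sub R Q) (h' : Sub Q P) : Sub R P :=
  ⟨h.hU.trans h'.hU, h.hV.trans h'.hV⟩

/-- Restriction between nested pairs. -/
def rho {Q P : Pair f} (h : Sub Q P) : H1 P →+ H1 Q := NLCx.chartRes P.e Q.e h.hU h.hV

lemma rho_rho {R Q P : Pair f} (h : Sub R Q) (h' : Sub Q P) (x : H1 P) :
    rho h (rho h' x) = rho (h.trans h') x := Conormal.chartRes_chartRes P.e Q.e R.e h'.hU h'.hV h.hU h.hV x

lemma rho_smul {Q P : Pair f} (h : Sub Q P) (a : Γ(X, P.U.1)) (x : H1 P) :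
    rho h (a • x) = resO X h.hU a • rho h x := Conormal.chartRes_smul P.e Q.e h.hU h.hV a x

lemma exists_sub (P : Pair f) {z : X} (hz : z ∈ P.U.1) (O : X.Opens) (hO : z ∈ O) (W : Y.Opens)
    (hW : f z ∈ W) : ∃ Q : Pair f, Sub Q P ∧ z ∈ Q.U.1 ∧ Q.U.1 ≤ O ∧ Q.V.1 ≤ W := by
  obtain ⟨_, ⟨V', hV', rfl⟩, hzV, hV⟩ := Y.isBasis_affineOpens.exists_subset_of_mem_open
    (show f z ∈ ((P.V.1 ⊓ W : Y.Opens) : Set Y) from ⟨P.e hz, hW⟩) (P.V.1 ⊓ W).2
  obtain ⟨_, ⟨U', hU', rfl⟩, hzU, hU⟩ := X.isBasis_affineOpens.exists_subset_of_mem_open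
    (show z ∈ ((P.U.1 ⊓ O ⊓ f ⁻¹ᵁ V' : X.Opens) : Set X) from ⟨⟨hz, hO⟩, hzV⟩) (P.U.1 ⊓ O ⊓ f ⁻¹ᵁ V').2
  exact ⟨⟨⟨U', hU'⟩, ⟨V', hV'⟩, fun x hx => (hU hx).2⟩, ⟨fun x hx => (hU hx).1.1, fun x hx => (hV hx).1⟩,
    hzU, fun x hx => (hU hx).1.2, fun x hx => (hV hx).2⟩

lemma formallyEtale_res {V V' : Y.affineOpens} (h : V'.1 ≤ V.1) :
    letI := (Y.presheaf.map (homOfLE h).op).hom.toAlgebra
    Algebra.FormallyEtale Γ(Y, V.1) Γ(Y, V'.1) := by
  letI := (Y.presheaf.map (homOfLE h).op).hom.toAlgebra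
  have h0 := HasRingHomProperty.appLE @Etale (𝟙 Y) inferInstance V V' (by simpa using h)
  rw [Scheme.Hom.appLE, Scheme.Hom.id_app, Category.id_comp] at h0
  haveI : Algebra.Etale Γ(Y, V.1) Γ(Y, V'.1) := h0
  infer_instance

/-- Restriction to a basic open localises, whatever the target. -/
lemma rho_localizes {P Q : Pair f} (h : Sub Q P) (b : Γ(X, P.U.1)) (hb : Q.U.1 = X.basicOpen b) :
    (∀ x : H1 P, rho h x = 0 → ∃ n : ℕ, b ^ n • x = 0) ∧
      ∀ y : H1 Q, ∃ (n : ℕ) (x : H1 P), resO X h.hU (b ^ n) • y = rho h x := by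
  letI := (f.appLE P.V.1 P.U.1 P.e).hom.toAlgebra
  letI := (f.appLE Q.V.1 Q.U.1 Q.e).hom.toAlgebra
  letI := (f.appLE P.V.1 Q.U.1 (h.hU.trans P.e)).hom.toAlgebra
  letI := (X.presheaf.map (homOfLE h.hU).op).hom.toAlgebra
  letI := (Y.presheaf.map (homOfLE h.hV).op).hom.toAlgebra
  haveI : IsScalarTower Γ(Y, P.V.1) Γ(Y, Q.V.1) Γ(X, Q.U.1) := IsScalarTower.of_algebraMap_eq' (by
      change (f.appLE _ _ _).hom = (f.appLE _ _ _).hom.comp (Y.presheaf.map _).hom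
      rw [← CommRingCat.hom_comp, Scheme.Hom.map_appLE])
  haveI : IsScalarTower Γ(Y, P.V.1) Γ(X, P.U.1) Γ(X, Q.U.1) := IsScalarTower.of_algebraMap_eq' (by
      change (f.appLE _ _ _).hom = (X.presheaf.map _).hom.comp (f.appLE _ _ _).hom
      rw [← CommRingCat.hom_comp, Scheme.Hom.appLE_map])
  haveI : IsLocalization.Away b Γ(X, Q.U.1) := P.U.2.isLocalization_of_eq_basicOpen _ (homOfLE h.hU) hb
  haveI : Algebra.FormallyEtale Γ(Y, P.V.1) Γ(Y, Q.V.1) := formallyEtale_res h.hV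
  haveI hloc := Conormal.isLocalizedModule_map Γ(Y, P.V.1) Γ(Y, Q.V.1) Γ(X, P.U.1) Γ(X, Q.U.1)
    (Submonoid.powers b)
  refine ⟨fun x hx => ?_, fun y => ?_⟩
  · obtain ⟨⟨_, n, rfl⟩, hn⟩ := (IsLocalizedModule.eq_zero_iff (Submonoid.powers b)
      (Algebra.H1Cotangent.map Γ(Y, P.V.1) Γ(Y, Q.V.1) Γ(X, P.U.1) Γ(X, Q.U.1))).mp hx
    exact ⟨n, hn⟩
  · obtain ⟨⟨x, ⟨_, n, rfl⟩⟩, hn⟩ := IsLocalizedModule.surj (Submonoid.powers b)
      (Algebra.H1Cotangent.map Γ(Y, P.V.1) Γ(Y, Q.V.1) Γ(X, P.U.1) Γ(X, Q.U.1)) y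
    exact ⟨n, x, (algebraMap_smul Γ(X, Q.U.1) (b ^ n) y).trans hn⟩

lemma isUnit_pow_res {P : Pair f} (b : Γ(X, P.U.1)) {O : X.Opens} (h : O ≤ P.U.1) (hb : O ≤ X.basicOpen b)
    (n : ℕ) : IsUnit (resO X h (b ^ n)) := by
  rw [map_pow]
  refine IsUnit.pow n ?_
  rw [← resO_resO hb (X.basicOpen_le b) b]
  exact (RingedSpace.isUnit_res_basicOpen _ b).map (resO X hb)

/-- A class vanishing near every point vanishes. -/
theorem eq_zero_of_locally {P : Pair f} (x : H1 P)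
    (h : ∀ z ∈ P.U.1, ∃ (Q : Pair f) (hQ : Sub Q P), z ∈ Q.U.1 ∧ rho hQ x = 0) : x = 0 := by
  let T : Set Γ(X, P.U.1) := {b | ∃ (Q : Pair f) (hQ : Sub Q P), X.basicOpen b ≤ Q.U.1 ∧ rho hQ x = 0}
  have hspan : Ideal.span T = ⊤ := by
    rw [← P.U.2.iSup_basicOpen_eq_self_iff]
    refine le_antisymm (iSup_le fun r => X.basicOpen_le _) fun z hz => ?_
    obtain ⟨Q, hQ, hzQ, hx⟩ := h z hz
    obtain ⟨b, hb, hzb⟩ := P.U.2.exists_basicOpen_le ⟨z, hzQ⟩ hz
    exact Opens.mem_iSup.mpr ⟨⟨b, Q, hQ, hb, hx⟩, hzb⟩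
  refine (Submodule.mem_bot Γ(X, P.U.1)).mp (Submodule.mem_of_span_eq_top_of_smul_pow_mem ⊥ T hspan x ?_)
  rintro ⟨b, Q, hQ, hb, hx⟩
  let Q' : Pair f := ⟨⟨X.basicOpen b, P.U.2.basicOpen b⟩, Q.V, hb.trans Q.e⟩
  have hQ' : Sub Q' Q := ⟨hb, le_rfl⟩
  obtain ⟨n, hn⟩ := (rho_localizes (hQ'.trans hQ) b rfl).1 x (by rw [← rho_rho hQ' hQ, hx, map_zero])
  exact ⟨n, hn⟩

/-- Classes agreeing near every point agree. -/
theorem eq_of_locally {P : Pair f} (x y : H1 P)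
    (h : ∀ z ∈ P.U.1, ∃ (Q : Pair f) (hQ : Sub Q P), z ∈ Q.U.1 ∧ rho hQ x = rho hQ y) : x = y :=
  sub_eq_zero.mp (eq_zero_of_locally _ fun z hz => by
    obtain ⟨Q, hQ, hzQ, he⟩ := h z hz
    exact ⟨Q, hQ, hzQ, by rw [map_sub, he, sub_self]⟩)

lemma exists_common_exponent {ι : Type*} (s : Finset ι) (p : ι → ℕ → Prop) (hp : ∀ i ∈ s, ∃ n, p i n)
    (hmono : ∀ i n m, n ≤ m → p i n → p i m) : ∃ n, ∀ i ∈ s, p i n := by
  classical
  choose! n hn using hp
  exact ⟨s.sup n, fun i hi => hmono i _ _ (Finset.le_sup hi) (hn i hi)⟩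

/-- Compatible elements of localisations come from the module. -/
theorem exists_of_compatible {R M : Type*} [CommRing R] [AddCommGroup M] [Module R M] {ι : Type*} (s : Finset ι)
    (b : ι → R) (hb : Ideal.span (b '' s) = ⊤) (m : ι → M) (n : ι → ℕ)
    (h : ∀ i ∈ s, ∀ j ∈ s, ∃ N : ℕ, (b i * b j) ^ N • (b i ^ n i • m j - b j ^ n j • m i) = 0) :
    ∃ (x : M) (K : ℕ), ∀ i ∈ s, b i ^ (n i + K) • x = b i ^ K • m i := by
  classical
  obtain ⟨K, hK⟩ := exists_common_exponent (s ×ˢ s)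
    (fun q K => (b q.1 * b q.2) ^ K • (b q.1 ^ n q.1 • m q.2 - b q.2 ^ n q.2 • m q.1) = 0)
    (fun q hq => h _ (Finset.mem_product.mp hq).1 _ (Finset.mem_product.mp hq).2)
    fun q N N' hN hq => by rw [← Nat.sub_add_cancel hN, pow_add, mul_smul, hq, smul_zero]
  have hspan : Ideal.span ((fun i => b i ^ (n i + K)) '' s) = ⊤ := by
    refine top_unique ((Ideal.span_pow_eq_top _ hb (s.sup n + K)).ge.trans (Ideal.span_le.mpr ?_))
    rintro _ ⟨_, ⟨i, hi, rfl⟩, rfl⟩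
    show b i ^ (s.sup n + K) ∈ _
    rw [← Nat.sub_add_cancel (Nat.add_le_add_right (Finset.le_sup (f := n) hi) K), pow_add]
    exact Ideal.mul_mem_left _ _ (Ideal.subset_span ⟨i, hi, rfl⟩)
  have h1 : (1 : R) ∈ Ideal.span ((fun i => b i ^ (n i + K)) '' s) := hspan ▸ Submodule.mem_top
  obtain ⟨c', hc'⟩ : ∃ c' : ι → R, ∑ i ∈ s, c' i * b i ^ (n i + K) = 1 := by
    have h2 : (1 : R) ∈ Submodule.span R (Set.range fun i : s => b i.1 ^ (n i.1 + K)) := by
      convert h1 using 2; ext; simp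
    obtain ⟨d, hd⟩ := (Submodule.mem_span_range_iff_exists_fun R).mp h2
    refine ⟨fun i => if hi : i ∈ s then d ⟨i, hi⟩ else 0, ?_⟩
    rw [← Finset.sum_coe_sort]
    exact (Finset.sum_congr rfl fun i _ => by simp).trans hd
  refine ⟨∑ j ∈ s, (c' j * b j ^ K) • m j, K, fun i hi => ?_⟩
  have hij : ∀ j ∈ s, (b i ^ (n i + K)) • ((c' j * b j ^ K) • m j) =
      (c' j * b j ^ (n j + K)) • (b i ^ K • m i) := by
    intro j hj
    have := hK (i, j) (Finset.mem_product.mpr ⟨hi, hj⟩)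
    rw [smul_sub, sub_eq_zero] at this
    have h3 := congrArg (c' j • ·) this
    simp only [← mul_smul] at h3 ⊢
    convert h3 using 2 <;> ring
  rw [Finset.smul_sum, Finset.sum_congr rfl hij, ← Finset.sum_smul, hc', one_smul]

/-- Values on small pairs extend uniquely. -/
theorem existsUnique_extend (R : Pair f) (S : Pair f → Prop)
    (hS : ∀ {Q' Q : Pair f}, Sub Q' Q → S Q → S Q')
    (hcov : ∀ z ∈ R.U.1, ∃ Q, Sub Q R ∧ z ∈ Q.U.1 ∧ S Q)
    (v : ∀ Q, S Q → H1 Q) (hv : ∀ {Q' Q : Pair f} (h : Sub Q' Q) (hQ : S Q), rho h (v Q hQ) = v Q' (hS h hQ)) :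
    ∃! x : H1 R, ∀ (Q : Pair f) (h : Sub Q R) (hQ : S Q), rho h x = v Q hQ := by
  classical
  refine existsUnique_of_exists_of_unique ?_ fun x y hx hy => eq_of_locally x y fun z hz => by
    obtain ⟨Q, hQ, hzQ, hSQ⟩ := hcov z hz
    exact ⟨Q, hQ, hzQ, (hx Q hQ hSQ).trans (hy Q hQ hSQ).symm⟩
  let T : Set Γ(X, R.U.1) := {b | ∃ Q, Sub Q R ∧ Q.U.1 = X.basicOpen b ∧ S Q}
  have hspan : Ideal.span T = ⊤ := by
    rw [← R.U.2.iSup_basicOpen_eq_self_iff]
    refine le_antisymm (iSup_le fun r => X.basicOpen_le _) fun z hz => ?_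
    obtain ⟨Q, hQ, hzQ, hSQ⟩ := hcov z hz
    obtain ⟨b, hb, hzb⟩ := R.U.2.exists_basicOpen_le ⟨z, hzQ⟩ hz
    refine Opens.mem_iSup.mpr ⟨⟨b, ⟨⟨X.basicOpen b, R.U.2.basicOpen b⟩, Q.V, hb.trans Q.e⟩, ?_, rfl, ?_⟩, hzb⟩
    · exact ⟨X.basicOpen_le b, hQ.hV⟩
    · exact hS (Q' := ⟨⟨X.basicOpen b, R.U.2.basicOpen b⟩, Q.V, hb.trans Q.e⟩) ⟨hb, le_rfl⟩ hSQ
  obtain ⟨t, htT, ht1⟩ := Submodule.mem_span_finite_of_mem_span ((Ideal.eq_top_iff_one _).mp hspan)
  have hspan' : Ideal.span (t : Set Γ(X, R.U.1)) = ⊤ := (Ideal.eq_top_iff_one _).mpr ht1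
  choose Q hQ hQU hQS using fun b : t => htT b.2
  choose n m hm using fun b : t => (rho_localizes (hQ b) b.1 (hQU b)).2 (v (Q b) (hQS b))
  have hcompat : ∀ i ∈ (Finset.univ : Finset t), ∀ j ∈ (Finset.univ : Finset t),
      ∃ N : ℕ, (i.1 * j.1) ^ N • (i.1 ^ n i • m j - j.1 ^ n j • m i) = 0 := by
    intro i _ j _
    let d := i.1 ^ n i • m j - j.1 ^ n j • m i
    have hle : X.basicOpen (i.1 * j.1) = (Q i).U.1 ⊓ (Q j).U.1 := by
      rw [Scheme.basicOpen_mul, hQU, hQU]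
    let D : Pair f := ⟨⟨X.basicOpen (i.1 * j.1), R.U.2.basicOpen _⟩, R.V, (X.basicOpen_le _).trans R.e⟩
    have hD : Sub D R := ⟨X.basicOpen_le _, le_rfl⟩
    have hd : rho hD d = 0 := by
      refine eq_zero_of_locally _ fun z hz => ?_
      have hz' : z ∈ (Q i).U.1 ∧ z ∈ (Q j).U.1 := hle.le hz
      obtain ⟨P, hP, hzP, hPO, hPW⟩ := exists_sub D hz ((Q i).U.1 ⊓ (Q j).U.1) hz' ((Q i).V.1 ⊓ (Q j).V.1)
        ⟨(Q i).e hz'.1, (Q j).e hz'.2⟩
      have hi : Sub P (Q i) := ⟨hPO.trans inf_le_left, hPW.trans inf_le_left⟩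
      have hj : Sub P (Q j) := ⟨hPO.trans inf_le_right, hPW.trans inf_le_right⟩
      refine ⟨P, hP, hzP, ?_⟩
      rw [rho_rho, map_sub, rho_smul, rho_smul, ← rho_rho hj (hQ j), ← rho_rho hi (hQ i), ← hm, ← hm,
        rho_smul, rho_smul, resO_resO, resO_resO, hv hi, hv hj, smul_smul, smul_smul, mul_comm, sub_self]
    exact (rho_localizes hD _ rfl).1 d hd
  obtain ⟨x, K, hx⟩ := exists_of_compatible Finset.univ (fun b : t => b.1)
    (by rw [Finset.coe_univ, Set.image_univ, Subtype.range_coe_subtype]; exact hspan') m n hcompat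
  refine ⟨x, fun P hP hSP => eq_of_locally _ _ fun z hz => ?_⟩
  have hzR : z ∈ R.U.1 := hP.hU hz
  obtain ⟨b, hzb⟩ : ∃ b : t, z ∈ X.basicOpen b.1 := by
    rw [← R.U.2.iSup_basicOpen_eq_self_iff] at hspan'
    obtain ⟨b, hb⟩ := Opens.mem_iSup.mp (hspan'.ge hzR)
    exact ⟨b, hb⟩
  have hzQ : z ∈ (Q b).U.1 := (hQU b).ge hzb
  obtain ⟨O, hO, hzO, hOU, hOV⟩ := exists_sub P hz (Q b).U.1 hzQ (Q b).V.1 ((Q b).e hzQ)
  have hb : Sub O (Q b) := ⟨hOU, hOV⟩
  refine ⟨O, hO, hzO, ?_⟩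
  rw [rho_rho, hv hO hSP]
  have hu := isUnit_pow_res b.1 (hO.hU.trans hP.hU) (hOU.trans (hQU b).le) (n b + K)
  apply hu.smul_left_cancel.mp
  rw [← rho_smul (hO.trans hP), hx b (Finset.mem_univ _), rho_smul, ← rho_rho hb (hQ b), ← hm, rho_smul,
    resO_resO, hv hb, smul_smul, ← map_mul, ← pow_add, add_comm]

/-! ### The sheaf -/

/-- Compatible families below an open. -/
@[ext]
structure Fam (f : X ⟶ Y) (O : X.Opens) where
  /-- the members -/
  val : ∀ P : Pair f, P.U.1 ≤ O → H1 P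
  compat : ∀ {Q P : Pair f} (h : Sub Q P) (hP : P.U.1 ≤ O), rho h (val P hP) = val Q (h.hU.trans hP)

variable {O : X.Opens}

instance : Zero (Fam f O) := ⟨⟨fun _ _ => 0, fun h _ => map_zero (rho h)⟩⟩
instance : Add (Fam f O) :=
  ⟨fun a b => ⟨fun P h => a.val P h + b.val P h, fun h hP => by rw [map_add, a.compat, b.compat]⟩⟩
instance : Neg (Fam f O) := ⟨fun a => ⟨fun P h => -a.val P h, fun h hP => by rw [map_neg, a.compat]⟩⟩

lemma Fam.add_val (a b : Fam f O) (P : Pair f) (h : P.U.1 ≤ O) : (a + b).val P h = a.val P h + b.val P h := rfl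

instance : AddCommGroup (Fam f O) where
  add_assoc a b c := Fam.ext (funext fun P => funext fun h => add_assoc _ _ _)
  zero_add a := Fam.ext (funext fun P => funext fun h => zero_add _)
  add_zero a := Fam.ext (funext fun P => funext fun h => add_zero _)
  add_comm a b := Fam.ext (funext fun P => funext fun h => add_comm _ _)
  neg_add_cancel a := Fam.ext (funext fun P => funext fun h => neg_add_cancel _)
  nsmul := nsmulRec
  zsmul := zsmulRec

instance : SMul Γ(X, O) (Fam f O) :=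
  ⟨fun r a => ⟨fun P h => resO X h r • a.val P h, fun {Q P} h hP => by
    rw [rho_smul, a.compat, resO_resO]⟩⟩

lemma Fam.smul_val (r : Γ(X, O)) (a : Fam f O) (P : Pair f) (h : P.U.1 ≤ O) :
    (r • a).val P h = resO X h r • a.val P h := rfl

instance : Module Γ(X, O) (Fam f O) where
  one_smul a := Fam.ext (funext fun P => funext fun h => by rw [Fam.smul_val, map_one, one_smul])
  mul_smul r s a := Fam.ext (funext fun P => funext fun h => by
    rw [Fam.smul_val, map_mul, mul_smul]; rfl)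
  smul_zero r := Fam.ext (funext fun P => funext fun h => smul_zero _)
  smul_add r a b := Fam.ext (funext fun P => funext fun h => smul_add _ _ _)
  add_smul r s a := Fam.ext (funext fun P => funext fun h => by
    rw [Fam.smul_val, map_add, add_smul]; rfl)
  zero_smul a := Fam.ext (funext fun P => funext fun h => by rw [Fam.smul_val, map_zero, zero_smul]; rfl)

variable (f) in
/-- The presheaf of families. -/
def famAb : TopCat.Presheaf Ab.{u} X where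
  obj O := AddCommGrpCat.of (Fam f O.unop)
  map {O O'} i := AddCommGrpCat.ofHom
    { toFun := fun a => ⟨fun P h => a.val P (h.trans i.unop.le), fun h hP => a.compat h (hP.trans i.unop.le)⟩
      map_zero' := rfl
      map_add' := fun _ _ => rfl }

instance famModule (O : (Opens X)ᵒᵖ) : Module (X.ringCatSheaf.obj.obj O) ((famAb f).obj O) :=
  inferInstanceAs (Module Γ(X, O.unop) (Fam f O.unop))

lemma famAb_map_smul ⦃O O' : (Opens X)ᵒᵖ⦄ (i : O ⟶ O') (r : X.ringCatSheaf.obj.obj O) (m : (famAb f).obj O) :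
    (famAb f).map i (r • m) = X.ringCatSheaf.obj.map i r • (famAb f).map i m :=
  Fam.ext (funext fun P => funext fun h => congrArg (· • Fam.val (m : Fam f O.unop) P (h.trans i.unop.le))
    (resO_resO h i.unop.le r).symm)

theorem famAb_isSheaf : TopCat.Presheaf.IsSheaf (famAb f) := by
  rw [TopCat.Presheaf.isSheaf_iff_isSheafUniqueGluing]
  intro ι W sf hsf
  let a : ∀ i, Fam f (W i) := sf
  have hagree : ∀ (P : Pair f) (i j) (hi : P.U.1 ≤ W i) (hj : P.U.1 ≤ W j), (a i).val P hi = (a j).val P hj :=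
    fun P i j hi hj => congrFun (congrFun (congrArg Fam.val (hsf i j)) P) (le_inf hi hj)
  let S : Pair f → Prop := fun Q => ∃ i, Q.U.1 ≤ W i
  have hS : ∀ {Q' Q : Pair f}, Sub Q' Q → S Q → S Q' := fun h ⟨i, hi⟩ => ⟨i, h.hU.trans hi⟩
  let v : ∀ Q, S Q → H1 Q := fun Q hQ => (a hQ.choose).val Q hQ.choose_spec
  have hv : ∀ {Q' Q : Pair f} (h : Sub Q' Q) (hQ : S Q), rho h (v Q hQ) = v Q' (hS h hQ) := fun h hQ =>
    ((a hQ.choose).compat h hQ.choose_spec).trans (hagree _ _ _ _ _)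
  have hcov : ∀ P : Pair f, P.U.1 ≤ iSup W → ∀ z ∈ P.U.1, ∃ Q, Sub Q P ∧ z ∈ Q.U.1 ∧ S Q := by
    intro P hP z hz
    obtain ⟨i, hi⟩ := Opens.mem_iSup.mp (hP hz)
    obtain ⟨Q, hQ, hzQ, hQO, -⟩ := exists_sub P hz (W i) hi ⊤ trivial
    exact ⟨Q, hQ, hzQ, i, hQO⟩
  have hx := fun (P : Pair f) (hP : P.U.1 ≤ iSup W) => existsUnique_extend P S hS (hcov P hP) v hv
  refine ⟨(⟨fun P hP => (hx P hP).choose, fun {Q P} h hP => (hx Q (h.hU.trans hP)).choose_spec.2 _ fun O hO hSO => by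
    rw [rho_rho]; exact (hx P hP).choose_spec.1 O (hO.trans h) hSO⟩ : Fam f (iSup W)), fun i => ?_, fun b hb => ?_⟩
  · refine Fam.ext (funext fun P => funext fun hP => ?_)
    have hP' : P.U.1 ≤ iSup W := hP.trans (le_iSup W i)
    show (hx P hP').choose = (a i).val P hP
    refine ((hx P hP').choose_spec.2 _ fun O hO hSO => ?_).symm
    exact ((a i).compat hO hP).trans (hagree _ _ _ _ _)
  · refine Fam.ext (funext fun P => funext fun hP => ?_)
    refine (hx P hP).choose_spec.2 _ fun O hO hSO => ?_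
    have h := congrFun (congrFun (congrArg Fam.val (hb hSO.choose)) O) hSO.choose_spec
    exact ((b : Fam f (iSup W)).compat hO hP).trans h

variable (f) in
/-- The first cohomology sheaf. -/
def sheaf : X.Modules :=
  { val := PresheafOfModules.ofPresheaf (famAb f) famAb_map_smul
    isSheaf := famAb_isSheaf }

/-- The projection at a pair. -/
def proj (P : Pair f) : Fam f P.U.1 →+ H1 P :=
  AddMonoidHom.mk' (fun a => a.val P le_rfl) fun _ _ => rfl

theorem proj_bijective (P : Pair f) : Function.Bijective (proj P) := by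
  let S : Pair f → Prop := fun Q => Sub Q P
  have hcov : ∀ R : Pair f, R.U.1 ≤ P.U.1 → ∀ z ∈ R.U.1, ∃ Q, Sub Q R ∧ z ∈ Q.U.1 ∧ S Q := by
    intro R hR z hz
    obtain ⟨Q, hQ, hzQ, hQO, hQW⟩ := exists_sub R hz P.U.1 (hR hz) P.V.1 (P.e (hR hz))
    exact ⟨Q, hQ, hzQ, hQO, hQW⟩
  constructor
  · intro a b hab
    refine Fam.ext (funext fun R => funext fun hR => eq_of_locally _ _ fun z hz => ?_)
    obtain ⟨Q, hQ, hzQ, hQP⟩ := hcov R hR z hz
    refine ⟨Q, hQ, hzQ, ?_⟩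
    rw [a.compat hQ hR, b.compat hQ hR, ← a.compat hQP le_rfl, ← b.compat hQP le_rfl]
    exact congrArg (rho hQP) hab
  · intro x
    have hx := fun (R : Pair f) (hR : R.U.1 ≤ P.U.1) => existsUnique_extend R S (fun h hQ => h.trans hQ)
      (hcov R hR) (fun Q hQ => rho hQ x) fun h hQ => rho_rho h hQ x
    refine ⟨⟨fun R hR => (hx R hR).choose, fun {Q R} h hR => (hx Q (h.hU.trans hR)).choose_spec.2 _ fun O hO hSO => by
      rw [rho_rho]; exact (hx R hR).choose_spec.1 O (hO.trans h) hSO⟩, ?_⟩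
    exact ((hx P le_rfl).choose_spec.2 x fun O hO hSO => rfl).symm

variable (f) in
/-- The families carry the data of the first cohomology sheaf. -/
def h1Sheaf : NLCx.H1Sheaf f (sheaf f) where
  iso U V e := AddEquiv.ofBijective (proj ⟨U, V, e⟩) (proj_bijective ⟨U, V, e⟩)
  map_smul U V e a m := by
    show (resO X le_rfl a) • Fam.val (m : Fam f U.1) ⟨U, V, e⟩ le_rfl = _
    rw [resO_self]
    rfl
  map_res {U U' V V'} e e' hU hV m :=
    (Fam.compat (m : Fam f U.1) (Q := ⟨U', V', e'⟩) (P := ⟨U, V, e⟩) ⟨hU, hV⟩ le_rfl).symm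

/-- A module with the data of the first cohomology sheaf is quasi-coherent. -/
theorem isQCoh_of_h1Sheaf {F : X.Modules} (c : NLCx.H1Sheaf f F) : Coh.IsQCoh F := by
  refine isQCoh_of_isLoc fun x => ?_
  obtain ⟨_, ⟨V, hV, rfl⟩, hxV, -⟩ := Y.isBasis_affineOpens.exists_subset_of_mem_open (Set.mem_univ (f x)) isOpen_univ
  obtain ⟨_, ⟨U, hU, rfl⟩, hxU, hUV⟩ := X.isBasis_affineOpens.exists_subset_of_mem_open
    (show x ∈ ((f ⁻¹ᵁ V : X.Opens) : Set X) from hxV) (f ⁻¹ᵁ V).2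
  let P : Pair f := ⟨⟨U, hU⟩, ⟨V, hV⟩, hUV⟩
  let D : Γ(X, U) → Pair f := fun b => ⟨⟨X.basicOpen b, hU.basicOpen b⟩, ⟨V, hV⟩, (X.basicOpen_le b).trans hUV⟩
  have hD : ∀ b, Sub (D b) P := fun b => ⟨X.basicOpen_le b, le_rfl⟩
  refine ⟨U, hU, hxU, ⟨fun b t => ?_, fun b s hs => ?_⟩⟩
  · obtain ⟨n, y, hy⟩ := (rho_localizes (hD b) b rfl).2 (c.iso (D b).U (D b).V (D b).e t)
    refine ⟨n, (c.iso P.U P.V P.e).symm y, (c.iso (D b).U (D b).V (D b).e).injective ?_⟩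
    have h1 := c.map_res P.e (D b).e (hD b).hU (hD b).hV ((c.iso P.U P.V P.e).symm y)
    rw [AddEquiv.apply_symm_apply] at h1
    refine h1.trans (hy.symm.trans ?_)
    rw [map_pow]
    exact (c.map_smul (D b).U (D b).V (D b).e _ t).symm
  · obtain ⟨n, hn⟩ := (rho_localizes (hD b) b rfl).1 (c.iso P.U P.V P.e s) (by
      refine (c.map_res P.e (D b).e (hD b).hU (hD b).hV s).symm.trans ?_
      exact (congrArg (c.iso (D b).U (D b).V (D b).e) hs).trans (map_zero _))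
    exact ⟨n, (c.iso P.U P.V P.e).injective ((c.map_smul P.U P.V P.e _ s).trans (hn.trans (map_zero _).symm))⟩

end Groth.Agent.NLSheaf
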