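import Groth.Agent.Conormal.NLFlatLCI
import Groth.Agent.DRingKP.PerfPd
import Groth.Agent.S7066
import Groth.Agent.S7067

/-!
# Algebras of finite tor dimension whose naive cotangent complex has tor amplitude in `[-1, 0]`
-/

universe u

open CategoryTheory TensorProduct MvPolynomial

attribute [local instance] HasDerivedCategory.standard

set_option backward.isDefEq.respectTransparency false
set_option linter.style.haveILetI false

noncomputable section

namespace Groth.Agent.NLBC

lemma cotangentMap_bijective {A B : Type u} [CommRing A] [CommRing B] [Algebra A B]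
    {P P' : Algebra.Extension.{u} A B} (u : P.Hom P') (w : P'.Hom P)
    (h₁ : ∀ x, w.toRingHom (u.toRingHom x) = x) (h₂ : ∀ x, u.toRingHom (w.toRingHom x) = x) :
    Function.Bijective (Algebra.Extension.Cotangent.map u) := by
  refine Function.bijective_iff_has_inverse.mpr ⟨Algebra.Extension.Cotangent.map w, fun x => ?_, fun x => ?_⟩
  · obtain ⟨a, rfl⟩ := Algebra.Extension.Cotangent.mk_surjective x
    exact congrArg Algebra.Extension.Cotangent.mk (Subtype.ext (h₁ a.1))
  · obtain ⟨a, rfl⟩ := Algebra.Extension.Cotangent.mk_surjective x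
    exact congrArg Algebra.Extension.Cotangent.mk (Subtype.ext (h₂ a.1))

theorem isLCI_of_finiteTorDim {A B : Type u} [CommRing A] [CommRing B] [Algebra A B] [IsNoetherianRing A]
    [Algebra.FiniteType A B] (hB : DRing.HasFiniteTorDim A B)
    (h : DRing.HasTorAmplitudeIn B (-1) 0 (LCI.NL A B)) : LCI.IsLCI A B := by
  obtain ⟨n, φ, hφ, hperf⟩ := (Groth.Agent.S7066.result A B).mp ⟨Groth.Agent.S7067.result A B, hB⟩
  letI := φ.toRingHom.toAlgebra
  obtain ⟨d, hd⟩ := DRingKP.exists_pd_of_isPerfectModule B hperf
  have hI : HasProjectiveDimensionLT (ModuleCat.of (MvPolynomial (Fin n) A) (RingHom.ker φ.toRingHom)) (d + 1) :=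
    (SerreReg.pdLE_succ_iff (Algebra.linearMap (MvPolynomial (Fin n) A) B) hφ d).mp
      (hasProjectiveDimensionLT_of_ge _ (d + 1) (d + 1 + 1) (Nat.le_succ _))
  -- the conormal module
  let r : MvPolynomial (ULift.{u} (Fin n)) A ≃ₐ[A] MvPolynomial (Fin n) A := renameEquiv A Equiv.ulift
  let G : Algebra.Generators A B (ULift.{u} (Fin n)) :=
    Algebra.Generators.ofAlgHom (φ.comp r.toAlgHom) (hφ.comp r.surjective)
  let P₀ : Algebra.Extension.{u} A B := Algebra.Extension.ofSurjective φ hφ
  have hG : ∀ p, algebraMap G.toExtension.Ring B p = φ (r p) := fun p => by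
    refine (G.algebraMap_apply p).trans ?_
    have : aeval G.val = φ.comp r.toAlgHom := algHom_ext fun i => by
      rw [aeval_X]; rfl
    exact AlgHom.congr_fun this p
  let u : G.toExtension.Hom P₀ :=
    { toRingHom := r.toRingEquiv.toRingHom
      toRingHom_algebraMap := fun a => r.commutes a
      algebraMap_toRingHom := fun p => (hG p).symm }
  let w : P₀.Hom G.toExtension :=
    { toRingHom := r.symm.toRingEquiv.toRingHom
      toRingHom_algebraMap := fun a => r.symm.commutes a
      algebraMap_toRingHom := fun p => (hG (r.symm p)).trans (congrArg φ (r.apply_symm_apply p)) }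
  haveI : Module.Free B G.toExtension.CotangentSpace := Module.Free.of_basis G.cotangentSpaceBasis
  haveI := flat_cotangent G.toExtension (DRingKP.amp_of_iso (nlIso G).symm h)
  haveI : Module.Flat B P₀.Cotangent := Module.Flat.of_linearEquiv
    (LinearEquiv.ofBijective _ (cotangentMap_bijective u w r.symm_apply_apply r.apply_symm_apply)).symm
  haveI : IsNoetherianRing P₀.Ring := inferInstanceAs (IsNoetherianRing (MvPolynomial (Fin n) A))
  haveI : IsNoetherianRing B := isNoetherianRing_of_surjective P₀.Ring B _ P₀.algebraMap_surjective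
  haveI : Module.Finite B P₀.Cotangent := Algebra.Extension.Cotangent.finite (IsNoetherian.noetherian _)
  haveI : Module.Projective B P₀.Cotangent :=
    haveI := Module.finitePresentation_of_finite B P₀.Cotangent
    Module.Flat.projective_of_finitePresentation
  let σ : P₀.Ring ⧸ P₀.ker ≃+* B := RingHom.quotientKerEquivOfSurjective P₀.algebraMap_surjective
  letI := RingHomInvPair.of_ringEquiv σ
  letI := RingHomInvPair.of_ringEquiv_symm σ
  let e : P₀.ker.Cotangent ≃ₛₗ[(σ : P₀.Ring ⧸ P₀.ker →+* B)] P₀.Cotangent :=
    { toFun := Algebra.Extension.Cotangent.of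
      invFun := Algebra.Extension.Cotangent.val
      left_inv := fun _ => rfl
      right_inv := fun _ => rfl
      map_add' := fun _ _ => rfl
      map_smul' := fun r x => by
        obtain ⟨p, rfl⟩ := Ideal.Quotient.mk_surjective r
        show _ = algebraMap P₀.Ring B p • Algebra.Extension.Cotangent.of x
        rw [algebraMap_smul]
        refine Algebra.Extension.Cotangent.ext ?_
        rw [Algebra.Extension.Cotangent.val_smul']
        exact algebraMap_smul (P₀.Ring ⧸ P₀.ker) p x }
  haveI hproj : Module.Projective (P₀.Ring ⧸ P₀.ker) P₀.ker.Cotangent := Module.Projective.of_equiv e.symm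
  refine ⟨inferInstance, n, φ, hφ, fun Q hQ => ?_⟩
  obtain ⟨g, hg, rs, hrs, hI'⟩ :=
    @Groth.Agent.S2189.result (MvPolynomial (Fin n) A) _ _ (RingHom.ker φ.toRingHom) (d + 1) hI hproj Q.asIdeal _ hQ
  refine ⟨g, hg, List.ofFn rs.get, KoszulLib.isKoszulRegularSeq_iff_acyclic.mpr
    (KoszulLib.acyclic_of_isWeaklyRegular' ?_), ?_⟩
  · rw [List.ofFn_get]; exact hrs.toIsWeaklyRegular
  · rw [List.ofFn_get]; exact hI'.symm

end Groth.Agent.NLBC
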