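import Groth.Agent.Conormal.Maps

/-!
# The sequence of conormal sheaves of two immersions
-/

universe u

open CategoryTheory CategoryTheory.Limits AlgebraicGeometry TopologicalSpace Opposite

set_option backward.isDefEq.respectTransparency false
set_option linter.style.haveILetI false

noncomputable section

namespace Groth.Agent.Conormal

open Groth.Agent.QC Groth.Agent.ModDesc

/-- Composing with the identification of the pullback along the identity. -/
lemma idComp_app {X : Scheme.{u}} {M N : X.Modules} (c : (Scheme.Modules.pullback (𝟙 X)).obj M ⟶ N)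
    (W : X.Opens) (m : Γ(M, W)) :
    ((Scheme.Modules.pullbackId X).inv.app M ≫ c).app W m = c.app W (OmegaSh.pullSect (𝟙 X) M W m) := by
  rw [← pullbackId_inv_app]
  rfl

/-- Exactness as an equality of subobjects. -/
lemma image_eq_kernel {C : Type*} [Category C] [Abelian C] {A B D : C} (f : A ⟶ B) (g : B ⟶ D) (w : f ≫ g = 0)
    (h : (ShortComplex.mk f g w).Exact) : imageSubobject f = kernelSubobject g :=
  (ShortComplex.exact_iff_image_eq_kernel _).mp h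

/-- Morphisms out of a pullback are determined by pulled back sections. -/
lemma pullback_hom_ext {X Y : Scheme.{u}} (g : X ⟶ Y) {G : Y.Modules} {N : X.Modules}
    (φ φ' : (Scheme.Modules.pullback g).obj G ⟶ N)
    (h : ∀ U s, φ.app (g ⁻¹ᵁ U) (OmegaSh.pullSect g G U s) = φ'.app (g ⁻¹ᵁ U) (OmegaSh.pullSect g G U s)) :
    φ = φ' :=
  ((Scheme.Modules.pullbackPushforwardAdjunction g).homEquiv G N).injective
    (Scheme.Modules.hom_ext _ _ fun U => by
      ext s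
      simpa only [Adjunction.homEquiv_unit, Scheme.Modules.Hom.comp_app, ConcreteCategory.comp_apply] using! h U s)

section Immersions

variable {Y' Y X : Scheme.{u}} (f : Y ⟶ X) (j : Y' ⟶ Y)

/-- The target of a section of the ideal of `j ≫ f` in the ideal of `j`. -/
lemma exists_idealSect_comp [QuasiCompact j] (U : X.Opens) (s : Γ(ClSub.idealMod (j ≫ f).ker, U)) :
    ∃ t : Γ(ClSub.idealMod j.ker, f ⁻¹ᵁ U),
      OmegaSh.idealSect j.ker (f ⁻¹ᵁ U) t = f.app U (OmegaSh.idealSect (j ≫ f).ker U s) := by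
  refine exists_idealSect j _ _ ?_
  have h := app_idealSect (j ≫ f) U s
  rw [Scheme.Hom.comp_app] at h
  exact h

variable {f j}
  {φ₁ : (Scheme.Modules.pullback j).obj (Omega.conormal f) ⟶ Omega.conormal (j ≫ f)}
  {φ₂ : (Scheme.Modules.pullback (𝟙 Y')).obj (Omega.conormal (j ≫ f)) ⟶ Omega.conormal j}

lemma second_app [QuasiCompact j] (hφ₂ : OmegaSh.IsConormalMap j (j ≫ f) f (𝟙 Y') φ₂) (U : X.Opens)
    (s : Γ(ClSub.idealMod (j ≫ f).ker, U)) (t : Γ(ClSub.idealMod j.ker, f ⁻¹ᵁ U))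
    (ht : OmegaSh.idealSect j.ker (f ⁻¹ᵁ U) t = f.app U (OmegaSh.idealSect (j ≫ f).ker U s)) :
    ((Scheme.Modules.pullbackId Y').inv.app (Omega.conormal (j ≫ f)) ≫ φ₂).app ((j ≫ f) ⁻¹ᵁ U)
        (OmegaSh.conormalSect (j ≫ f) U s) = OmegaSh.conormalSect j (f ⁻¹ᵁ U) t := by
  refine (idComp_app φ₂ _ _).trans ?_
  have h := hφ₂.2 U s t ht ((j ≫ f) ⁻¹ᵁ U) le_rfl le_rfl
  exact (res_self _ _ _).symm.trans (h.trans (res_self _ _ _))

/-- The composite vanishes. -/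
theorem comp_eq_zero [QuasiCompact j] [IsImmersion f] [QuasiCompact f]
    (hφ₁ : OmegaSh.IsConormalMap (j ≫ f) f (𝟙 X) j φ₁)
    (hφ₂ : OmegaSh.IsConormalMap j (j ≫ f) f (𝟙 Y') φ₂) :
    φ₁ ≫ (Scheme.Modules.pullbackId Y').inv.app (Omega.conormal (j ≫ f)) ≫ φ₂ = 0 := by
  refine ModDesc.hom_ext_pullback (g := j) _ _ fun y O hy => ?_
  obtain ⟨U, hU, hyU, hUO⟩ := exists_chart f y O hy
  refine ⟨f ⁻¹ᵁ U, hUO, hyU, fun c => ?_⟩
  obtain ⟨s, rfl⟩ := conormalSect_surjective f hU c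
  obtain ⟨s₁, hs₁⟩ := exists_idealSect (j ≫ f) U (OmegaSh.idealSect f.ker U s) (by
    rw [Scheme.Hom.comp_app]
    show j.app _ (f.app U _) = 0
    rw [app_idealSect, map_zero])
  have h1 : φ₁.app ((j ≫ f) ⁻¹ᵁ U) (pullSectLE j (Omega.conormal f) (f ⁻¹ᵁ U) ((j ≫ f) ⁻¹ᵁ U) le_rfl
      (OmegaSh.conormalSect f U s)) = OmegaSh.conormalSect (j ≫ f) U s₁ :=
    IsConormalMap.app_class (j ≫ f) f (𝟙 X) j hφ₁ U U le_rfl le_rfl s s₁ (by
      rw [hs₁, Scheme.Hom.appLE, Scheme.Hom.id_app]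
      exact (resO_self le_rfl _).symm)
  obtain ⟨t, ht⟩ := exists_idealSect_comp f j U s₁
  rw [Scheme.Modules.Hom.comp_app, ConcreteCategory.comp_apply]
  refine (congrArg _ h1).trans ((second_app hφ₂ U s₁ t ht).trans ?_)
  have : t = 0 := idealSect_injective j.ker _ (by rw [ht, hs₁, app_idealSect, map_zero])
  rw [this, map_zero]
  rfl

/-- The basis: preimages of opens which are charts for `f` and for `j ≫ f`. -/
lemma isBasisFam_twoCharts [IsImmersion f] [IsImmersion j] :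
    IsBasisFam {W | ∃ U, IsChart f U ∧ IsChart (j ≫ f) U ∧ IsChart j (f ⁻¹ᵁ U) ∧ (j ≫ f) ⁻¹ᵁ U = W} := by
  intro O z hz
  obtain ⟨U₀, hU₀, hzU₀, -⟩ := exists_chart f (j z) ⊤ trivial
  obtain ⟨U, hU, hzU, hle, hUO⟩ := exists_chart_le (j ≫ f) z O hz U₀ hzU₀
  have hUf := hU₀.of_le hU.affine hle
  refine ⟨_, ⟨U, hUf, hU, ⟨hUf.preimage, ?_⟩, rfl⟩, hUO, hzU⟩
  haveI := hUf.closed
  have h := hU.closed
  rw [morphismRestrict_comp] at h
  haveI := h
  exact IsClosedImmersion.of_comp (j ∣_ f ⁻¹ᵁ U) (f ∣_ U)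

/-- The conormal sequence of two immersions. -/
theorem exact_conormal [IsImmersion f] [QuasiCompact f] [IsImmersion j] [QuasiCompact j]
    (hφ₁ : OmegaSh.IsConormalMap (j ≫ f) f (𝟙 X) j φ₁)
    (hφ₂ : OmegaSh.IsConormalMap j (j ≫ f) f (𝟙 Y') φ₂) :
    Epi φ₂ ∧ imageSubobject φ₁ =
      kernelSubobject ((Scheme.Modules.pullbackId Y').inv.app (Omega.conormal (j ≫ f)) ≫ φ₂) := by
  let ψ := (Scheme.Modules.pullbackId Y').inv.app (Omega.conormal (j ≫ f)) ≫ φ₂
  have lift : ∀ {U : X.Opens} (_ : IsChart f U) (y : Γ(Y, f ⁻¹ᵁ U)), j.app (f ⁻¹ᵁ U) y = 0 →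
      ∃ s, f.app U (OmegaSh.idealSect (j ≫ f).ker U s) = y := by
    intro U hU y hy
    obtain ⟨a, rfl⟩ := hU.surjective y
    obtain ⟨s, hs⟩ := exists_idealSect (j ≫ f) U a (by rw [Scheme.Hom.comp_app]; exact hy)
    exact ⟨s, by rw [hs]⟩
  have hsurj : ∀ U, IsChart f U → IsChart j (f ⁻¹ᵁ U) → Function.Surjective (ψ.app ((j ≫ f) ⁻¹ᵁ U)) := by
    intro U hU hj c
    obtain ⟨t, rfl⟩ := conormalSect_surjective j hj c
    obtain ⟨s, hs⟩ := lift hU _ (app_idealSect j _ t)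
    exact ⟨_, second_app hφ₂ U s t hs.symm⟩
  constructor
  · haveI : Epi ψ := epi_of_basis ψ (isBasisFam_twoCharts (f := f) (j := j)) (by
      rintro _ ⟨U, hU, -, hj, rfl⟩
      exact hsurj U hU hj)
    exact epi_of_epi ((Scheme.Modules.pullbackId Y').inv.app _) φ₂
  · refine image_eq_kernel φ₁ ψ (comp_eq_zero hφ₁ hφ₂) (exact_of_basis _ (isBasisFam_twoCharts (f := f) (j := j)) ?_)
    rintro _ ⟨U, hU, hjf, hj, rfl⟩ m hm
    obtain ⟨s, rfl⟩ := conormalSect_surjective (j ≫ f) hjf m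
    obtain ⟨t, ht⟩ := exists_idealSect_comp f j U s
    change ψ.app ((j ≫ f) ⁻¹ᵁ U) (OmegaSh.conormalSect (j ≫ f) U s) = 0 at hm
    rw [second_app hφ₂ U s t ht] at hm
    have hsq := (conormalSect_eq_zero_iff j hj t).mp hm
    rw [ht] at hsq
    have hK : RingHom.ker (j.app (f ⁻¹ᵁ U)).hom =
        (RingHom.ker ((j ≫ f).app U).hom).map (f.app U).hom := by
      refine le_antisymm (fun y hy => ?_) (Ideal.map_le_iff_le_comap.mpr fun a ha => ?_)
      · obtain ⟨s', rfl⟩ := lift hU y hy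
        exact Ideal.mem_map_of_mem _ (app_idealSect (j ≫ f) U s')
      · rw [Ideal.mem_comap, RingHom.mem_ker]
        rw [RingHom.mem_ker, Scheme.Hom.comp_app] at ha
        exact ha
    rw [hK, ← Ideal.map_pow] at hsq
    obtain ⟨b, hb, hbeq⟩ := (Ideal.mem_map_iff_of_surjective _ hU.surjective).mp hsq
    obtain ⟨sb, hsb⟩ := exists_idealSect (j ≫ f) U b (RingHom.mem_ker.mp (Ideal.pow_le_self two_ne_zero hb))
    obtain ⟨r, hr⟩ := exists_idealSect f U (OmegaSh.idealSect (j ≫ f).ker U s - b) (by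
      rw [map_sub, hbeq, sub_self])
    refine ⟨pullSectLE j (Omega.conormal f) (f ⁻¹ᵁ U) ((j ≫ f) ⁻¹ᵁ U) le_rfl (OmegaSh.conormalSect f U r), ?_⟩
    show φ₁.app ((j ≫ f) ⁻¹ᵁ U) _ = OmegaSh.conormalSect (j ≫ f) U s
    rw [IsConormalMap.app_class (j ≫ f) f (𝟙 X) j hφ₁ U U le_rfl le_rfl r (s - sb) (by
      rw [map_sub, hsb, hr, Scheme.Hom.appLE, Scheme.Hom.id_app]
      exact (resO_self le_rfl _).symm), map_sub,
      (conormalSect_eq_zero_iff (j ≫ f) hjf sb).mpr (by rw [hsb]; exact hb), sub_zero]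

end Immersions

end Groth.Agent.Conormal
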