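import Groth.Agent.Conormal.Omega
import Groth.Agent.OmegaLib.Exact

/-!
# The conormal sequence of a retract
-/

universe u

open CategoryTheory CategoryTheory.Limits AlgebraicGeometry TopologicalSpace Opposite

set_option backward.isDefEq.respectTransparency false
set_option linter.style.haveILetI false

noncomputable section

namespace Groth.Agent.Conormal

open Groth.Agent.QC Groth.Agent.ModDesc Groth.Agent.OmegaLib

variable {Z X S : Scheme.{u}} {f : X ⟶ S} {i : Z ⟶ X} {g : X ⟶ Z}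

/-- The part of an open on which the retraction lands in its trace. -/
abbrev core (i : Z ⟶ X) (g : X ⟶ Z) (O : X.Opens) : X.Opens := O ⊓ g ⁻¹ᵁ (i ⁻¹ᵁ O)

lemma le_core (hgi : i ≫ g = 𝟙 Z) (O : X.Opens) : i ⁻¹ᵁ O ≤ i ⁻¹ᵁ core i g O := fun z hz =>
  ⟨hz, show (i ≫ g) z ∈ i ⁻¹ᵁ O by rw [hgi]; exact hz⟩

/-- A function minus the pullback of its restriction. -/
def diffFn (i : Z ⟶ X) (g : X ⟶ Z) (O : X.Opens) : Γ(X, O) →+ Γ(X, core i g O) :=
  AddMonoidHom.mk' (fun a => resO X inf_le_left a - g.appLE (i ⁻¹ᵁ O) (core i g O) inf_le_right (i.app O a))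
    fun a b => by simp only [map_add]; abel

lemma appLE_retract (hgi : i ≫ g = 𝟙 Z) {O : Z.Opens} {P : X.Opens} (e : P ≤ g ⁻¹ᵁ O) (b : Γ(Z, O))
    (e' : i ⁻¹ᵁ P ≤ O) : i.app P (g.appLE O P e b) = resO Z e' b := by
  rw [Scheme.Hom.app_eq_appLE, ← ConcreteCategory.comp_apply, Scheme.Hom.appLE_comp_appLE]
  have key : ∀ (k : Z ⟶ Z) (e'' : i ⁻¹ᵁ P ≤ k ⁻¹ᵁ O), k = 𝟙 Z → k.appLE O (i ⁻¹ᵁ P) e'' b = resO Z e' b := by
    rintro k e'' rfl
    rw [Scheme.Hom.appLE, Scheme.Hom.id_app]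
    rfl
  exact key _ _ hgi

lemma app_diffFn (hgi : i ≫ g = 𝟙 Z) (O : X.Opens) (a : Γ(X, O)) :
    i.app (core i g O) (diffFn i g O a) = 0 := by
  show i.app (core i g O) (resO X inf_le_left a - g.appLE _ _ _ _) = 0
  rw [map_sub, appLE_retract hgi _ _ (i.preimage_mono inf_le_left), sub_eq_zero]
  exact ConcreteCategory.congr_hom (i.naturality (homOfLE (inf_le_left : core i g O ≤ O)).op) a

variable [QuasiCompact i]

/-- A lift of `diffFn` to the ideal. -/
def diffLift (hgi : i ≫ g = 𝟙 Z) (O : X.Opens) (a : Γ(X, O)) : Γ(ClSub.idealMod i.ker, core i g O) :=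
  (exists_idealSect i _ _ (app_diffFn hgi O a)).choose

lemma idealSect_diffLift (hgi : i ≫ g = 𝟙 Z) (O : X.Opens) (a : Γ(X, O)) :
    OmegaSh.idealSect i.ker _ (diffLift hgi O a) = diffFn i g O a :=
  (exists_idealSect i _ _ (app_diffFn hgi O a)).choose_spec

/-- The value of the retraction on the differential of a function. -/
def retrVal (hgi : i ≫ g = 𝟙 Z) (O : X.Opens) (a : Γ(X, O)) : Γ(Omega.conormal i, i ⁻¹ᵁ O) :=
  res (Omega.conormal i) (le_core hgi O) (OmegaSh.conormalSect i (core i g O) (diffLift hgi O a))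

lemma retrVal_eq (hgi : i ≫ g = 𝟙 Z) (O : X.Opens) (a : Γ(X, O)) (s : Γ(ClSub.idealMod i.ker, core i g O))
    (hs : OmegaSh.idealSect i.ker _ s = diffFn i g O a) :
    retrVal hgi O a = res (Omega.conormal i) (le_core hgi O) (OmegaSh.conormalSect i (core i g O) s) := by
  rw [retrVal, idealSect_injective i.ker _ ((idealSect_diffLift hgi O a).trans hs.symm)]

lemma retrVal_add (hgi : i ≫ g = 𝟙 Z) (O : X.Opens) (a b : Γ(X, O)) :
    retrVal hgi O (a + b) = retrVal hgi O a + retrVal hgi O b := by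
  rw [retrVal_eq hgi O (a + b) (diffLift hgi O a + diffLift hgi O b)
    (by rw [map_add, map_add, idealSect_diffLift, idealSect_diffLift]), map_add, map_add]
  rfl

lemma retrVal_mul (hgi : i ≫ g = 𝟙 Z) (O : X.Opens) (a b : Γ(X, O)) :
    retrVal hgi O (a * b) = i.app O a • retrVal hgi O b + i.app O b • retrVal hgi O a := by
  rw [retrVal_eq hgi O (a * b) (resO X inf_le_left a • diffLift hgi O b +
    g.appLE (i ⁻¹ᵁ O) (core i g O) inf_le_right (i.app O b) • diffLift hgi O a) (by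
      rw [map_add, idealSect_smul, idealSect_smul, idealSect_diffLift, idealSect_diffLift]
      show _ = resO X inf_le_left (a * b) - _
      show resO X inf_le_left a * (resO X inf_le_left b - g.appLE (i ⁻¹ᵁ O) (core i g O) inf_le_right (i.app O b)) +
        g.appLE (i ⁻¹ᵁ O) (core i g O) inf_le_right (i.app O b) *
          (resO X inf_le_left a - g.appLE (i ⁻¹ᵁ O) (core i g O) inf_le_right (i.app O a)) = _
      simp only [map_mul]
      ring)]
  rw [map_add, map_add, conormalSect_smul, conormalSect_smul, res_smul, res_smul]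
  congr 1
  · congr 1
    refine (congrArg (resO Z (le_core hgi O))
      (ConcreteCategory.congr_hom (i.naturality (homOfLE (inf_le_left : core i g O ≤ O)).op) a)).trans ?_
    exact (resO_resO _ _ _).trans (resO_self _ _)
  · congr 1
    rw [appLE_retract hgi _ _ (i.preimage_mono inf_le_left), resO_resO]
    exact resO_self _ _

lemma retrVal_res (hgi : i ≫ g = 𝟙 Z) {O₁ O : X.Opens} (h : O₁ ≤ O) (a : Γ(X, O)) :
    retrVal hgi O₁ (resO X h a) = res (Omega.conormal i) (i.preimage_mono h) (retrVal hgi O a) := by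
  have hc : core i g O₁ ≤ core i g O := inf_le_inf h (g.preimage_mono (i.preimage_mono h))
  rw [retrVal_eq hgi O₁ (resO X h a) (res _ hc (diffLift hgi O a)) (by
    rw [idealSect_res, idealSect_diffLift]
    show resO X hc (resO X inf_le_left a - g.appLE (i ⁻¹ᵁ O) (core i g O) inf_le_right (i.app O a)) =
      resO X inf_le_left (resO X h a) - g.appLE (i ⁻¹ᵁ O₁) (core i g O₁) inf_le_right (i.app O₁ (resO X h a))
    rw [map_sub, resO_resO, resO_resO]
    congr 1
    have h1 : i.app O₁ (resO X h a) = resO Z (i.preimage_mono h) (i.app O a) :=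
      ConcreteCategory.congr_hom (i.naturality (homOfLE h).op) a
    rw [h1]
    exact (ConcreteCategory.congr_hom (g.appLE_map inf_le_right (homOfLE hc).op) (i.app O a)).trans
      (ConcreteCategory.congr_hom (g.map_appLE inf_le_right (homOfLE (i.preimage_mono h)).op) (i.app O a)).symm)]
  rw [← res_conormalSect i hc, retrVal, res_res, res_res]

variable {ΩX : X.Modules} {dX : OmegaSh.Der f ΩX} {ΩZ : Z.Modules} {dZ : OmegaSh.Der (i ≫ f) ΩZ}

/-- The derivation into the conormal sheaf given by a retraction over the base. -/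
def retrDer (hgi : i ≫ g = 𝟙 Z) (hgS : g ≫ i ≫ f = f) :
    OmegaSh.Der f ((Scheme.Modules.pushforward i).obj (Omega.conormal i)) where
  d {O} := AddMonoidHom.mk' (retrVal hgi O.unop) (retrVal_add hgi O.unop)
  d_mul {O} a b := retrVal_mul hgi O.unop a b
  d_map {O O'} e a := retrVal_res hgi e.unop.le a
  d_app {W} c := by
    show retrVal hgi (f ⁻¹ᵁ W.unop) (f.app W.unop c) = 0
    rw [retrVal_eq hgi _ _ 0 (by
      rw [map_zero]
      show 0 = resO X inf_le_left (f.app W.unop c) - g.appLE _ _ inf_le_right (i.app _ (f.app W.unop c))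
      have e1 : g.appLE (i ⁻¹ᵁ (f ⁻¹ᵁ W.unop)) (core i g (f ⁻¹ᵁ W.unop)) inf_le_right
          (i.app (f ⁻¹ᵁ W.unop) (f.app W.unop c)) = f.appLE W.unop _ inf_le_left c := by
        have key : ∀ (k : X ⟶ S) (h' : core i g (f ⁻¹ᵁ W.unop) ≤ k ⁻¹ᵁ W.unop), g ≫ i ≫ f = k →
            g.appLE (i ⁻¹ᵁ (f ⁻¹ᵁ W.unop)) (core i g (f ⁻¹ᵁ W.unop)) inf_le_right
              ((i ≫ f).app W.unop c) = k.appLE W.unop _ h' c := by
          rintro k h' rfl
          rw [Scheme.Hom.app_eq_appLE]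
          exact ConcreteCategory.congr_hom (g.appLE_comp_appLE (i ≫ f) W.unop ((i ≫ f) ⁻¹ᵁ W.unop)
            (core i g (f ⁻¹ᵁ W.unop)) le_rfl inf_le_right) c
        exact key f inf_le_left hgS
      rw [e1]
      exact (sub_self _).symm), map_zero, map_zero]

/-- The value of the section on a differential. -/
def sectVal (dX : OmegaSh.Der f ΩX) (hgi : i ≫ g = 𝟙 Z) (O : Z.Opens) (s : Γ(Z, O)) :
    Γ((Scheme.Modules.pullback i).obj ΩX, O) :=
  res ((Scheme.Modules.pullback i).obj ΩX) (show O ≤ i ⁻¹ᵁ (g ⁻¹ᵁ O) by rw [← Scheme.Hom.comp_preimage, hgi]; exact le_rfl)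
    (OmegaSh.pullSect i ΩX (g ⁻¹ᵁ O) (dX.app (g ⁻¹ᵁ O) (g.app O s)))

lemma sectVal_mul (dX : OmegaSh.Der f ΩX) (hgi : i ≫ g = 𝟙 Z) (O : Z.Opens) (a b : Γ(Z, O)) :
    sectVal dX hgi O (a * b) = a • sectVal dX hgi O b + b • sectVal dX hgi O a := by
  have h : ∀ x : Γ(Z, O), ∀ e : O ≤ i ⁻¹ᵁ (g ⁻¹ᵁ O),
      resO Z e (i.app (g ⁻¹ᵁ O) (g.app O x)) = x := by
    intro x e
    rw [g.app_eq_appLE, appLE_retract hgi _ _ (by rw [← Scheme.Hom.comp_preimage, hgi]; exact le_rfl), resO_resO]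
    exact resO_self _ _
  simp only [sectVal, map_mul, app_mul]
  rw [map_add, map_add, OmegaSh.pullSect_smul, OmegaSh.pullSect_smul, res_smul, res_smul, h, h]

/-- The derivation giving the section of the last map. -/
def sectDer (dX : OmegaSh.Der f ΩX) (hgi : i ≫ g = 𝟙 Z) (hgS : g ≫ i ≫ f = f) :
    OmegaSh.Der (i ≫ f) ((Scheme.Modules.pullback i).obj ΩX) where
  d {O} := AddMonoidHom.mk' (sectVal dX hgi O.unop) fun a b => by simp only [sectVal, map_add]
  d_mul {O} a b := sectVal_mul dX hgi O.unop a b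
  d_map {O O'} e s := by
    show sectVal dX hgi O'.unop (resO Z e.unop.le s) = res _ e.unop.le (sectVal dX hgi O.unop s)
    have h1 : g.app O'.unop (resO Z e.unop.le s) = resO X (g.preimage_mono e.unop.le) (g.app O.unop s) :=
      ConcreteCategory.congr_hom (g.naturality (homOfLE e.unop.le).op) s
    simp only [sectVal, h1, ← res_app, res_res]
    refine (congrArg (res _ _) (OmegaSh.pullSect_map i ΩX (g.preimage_mono e.unop.le) _)).trans ?_
    exact res_res _ _ _ _
  d_app {W} c := by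
    show sectVal dX hgi ((i ≫ f) ⁻¹ᵁ W.unop) ((i ≫ f).app W.unop c) = 0
    have e1 : dX.app (g ⁻¹ᵁ ((i ≫ f) ⁻¹ᵁ W.unop)) (g.app _ ((i ≫ f).app W.unop c)) = 0 := by
      have key : ∀ (k : X ⟶ S), g ≫ i ≫ f = k → ∃ h' : g ⁻¹ᵁ ((i ≫ f) ⁻¹ᵁ W.unop) ≤ k ⁻¹ᵁ W.unop,
          g.app _ ((i ≫ f).app W.unop c) = k.appLE W.unop _ h' c := by
        rintro k rfl
        refine ⟨le_rfl, ?_⟩
        rw [Scheme.Hom.app_eq_appLE, Scheme.Hom.app_eq_appLE, ← ConcreteCategory.comp_apply,
          Scheme.Hom.appLE_comp_appLE]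
      obtain ⟨h', h⟩ := key f hgS
      rw [h]
      exact app_appLE dX h' c
    simp only [sectVal, e1, map_zero]

/-- The conormal sequence of a retract is split exact. -/
theorem split_exact [IsImmersion i] (hgi : i ≫ g = 𝟙 Z) (hgS : g ≫ i ≫ f = f)
    (hX : OmegaSh.IsUniversal dX) (hZ : OmegaSh.IsUniversal dZ)
    {φ : Omega.conormal i ⟶ (Scheme.Modules.pullback i).obj ΩX} (hφ : OmegaSh.IsConormalDiff i dX φ)
    {c : (Scheme.Modules.pullback i).obj ΩX ⟶ ΩZ} (hc : OmegaSh.IsDiffCompat i dX dZ c) :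
    ∃ w : φ ≫ c = 0, (ShortComplex.mk φ c w).Exact ∧
      (∃ r : (Scheme.Modules.pullback i).obj ΩX ⟶ Omega.conormal i, φ ≫ r = 𝟙 _) ∧
      ∃ σ : ΩZ ⟶ (Scheme.Modules.pullback i).obj ΩX, σ ≫ c = 𝟙 _ := by
  obtain ⟨w, hex, -⟩ := exact_first hX hZ hφ hc
  refine ⟨w, hex, ?_, ?_⟩
  · obtain ⟨α, hα, -⟩ := hX _ (retrDer hgi hgS)
    let adj := Scheme.Modules.pullbackPushforwardAdjunction i
    refine ⟨(adj.homEquiv ΩX (Omega.conormal i)).symm α, Conormal.hom_ext i _ _ fun U s => ?_⟩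
    rw [Scheme.Modules.Hom.comp_app, ConcreteCategory.comp_apply]
    have hr : ∀ a, ((adj.homEquiv ΩX (Omega.conormal i)).symm α).app (i ⁻¹ᵁ U)
        (OmegaSh.pullSect i ΩX U (dX.app U a)) = retrVal hgi U a := by
      intro a
      have h1 := (adj.homEquiv ΩX (Omega.conormal i)).apply_symm_apply α
      rw [Adjunction.homEquiv_unit] at h1
      refine (congr(($h1).app U (dX.app U a))).trans ?_
      exact congrArg (fun E : OmegaSh.Der f _ => E.app U a) hα
    refine ((congrArg _ (hφ U s)).trans (hr _)).trans ?_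
    rw [retrVal_eq hgi U _ (res (ClSub.idealMod i.ker) inf_le_left s) (by
      rw [idealSect_res]
      show _ = resO X inf_le_left _ - g.appLE _ _ inf_le_right (i.app U (OmegaSh.idealSect i.ker U s))
      rw [app_idealSect, map_zero, sub_zero]), ← res_conormalSect, res_res, res_self]
    rfl
  · obtain ⟨σ, hσ, -⟩ := hZ _ (sectDer dX hgi hgS)
    refine ⟨σ, OmegaLib.hom_ext hZ _ _ fun O s => ?_⟩
    rw [Scheme.Modules.Hom.comp_app, ConcreteCategory.comp_apply]
    refine (congrArg _ (congrArg (fun E : OmegaSh.Der (i ≫ f) _ => E.app O s) hσ)).trans ?_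
    show c.app O (sectVal dX hgi O s) = dZ.app O s
    rw [sectVal, ← app_res, hc, res_app]
    congr 1
    rw [g.app_eq_appLE, appLE_retract hgi _ _ (by rw [← Scheme.Hom.comp_preimage, hgi]; exact le_rfl), resO_resO]
    exact resO_self _ _

end Groth.Agent.Conormal
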